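import Cfsg.Agent.Lib.GTwoDeg.HeckeCore

set_option autoImplicit false
set_option linter.unusedSectionVars false

/-!
Summing over the Bruhat cells: a fixed line of the radical is impossible.
-/

namespace CfsgLib.GTwoDeg

open Cfsg.Lie CfsgLib.ChevStr Matrix CfsgLib.KnownSimple.ModulePerm CfsgLib.SLMinDeg

/-- Reduced words for the twelve elements of the Weyl group. -/
def wlist : Fin 12 → List (Fin chevG2.rank) :=
  ![[], [iA], [iB], [iA, iB], [iB, iA], [iA, iB, iA], [iB, iA, iB], [iA, iB, iA, iB], [iB, iA, iB, iA],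
    [iA, iB, iA, iB, iA], [iB, iA, iB, iA, iB], [iA, iB, iA, iB, iA, iB]]

/-- Their lengths. -/
def wlen : Fin 12 → ℕ := ![0, 1, 1, 2, 2, 3, 3, 4, 4, 5, 5, 6]

/-- The numbers of reflections of the long fundamental root in them. -/
def wnum : Fin 12 → ℕ := ![0, 0, 1, 1, 1, 1, 2, 2, 2, 2, 3, 3]

/-- The permutation of a word. -/
def wperm (l : List (Fin chevG2.rank)) : Equiv.Perm (Fin chevG2.nroots) := (l.map reflDataG2.sPerm).prod

theorem wperm_closed : ∀ i : Fin 12, ∀ j : Fin chevG2.rank, ∃ k : Fin 12,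
    ∀ s : Fin chevG2.nroots, wperm (wlist k) s = (wperm (wlist i) * reflDataG2.sPerm j) s := by decide +kernel

theorem wperm_len : ∀ i : Fin 12, (reflDataG2.invSet (wperm (wlist i))).card = wlen i := by decide +kernel

theorem wperm_cover {w : Equiv.Perm (Fin chevG2.nroots)} (hw : w ∈ reflDataG2.weyl) :
    ∃ i, wperm (wlist i) = w := by
  refine reflDataG2.weyl_induction (P := fun w => ∃ i, wperm (wlist i) = w) ⟨0, rfl⟩ ?_ w hw
  rintro w - j ⟨i, rfl⟩
  obtain ⟨k, hk⟩ := wperm_closed i j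
  exact ⟨k, Equiv.ext hk⟩

variable {F : Type*} [Field F]

/-- The representative of a word. -/
noncomputable def wrep (l : List (Fin chevG2.rank)) : ↥(chevG2.group F) := (l.map N).prod

theorem wrep_moves : ∀ l : List (Fin chevG2.rank),
    ((wrep l : G2g F) : GL chevG2.Idx F) ∈ chevG2.monomialSubgroup F ∧
      (coreG2 F).Moves ((wrep l : G2g F) : GL chevG2.Idx F) (wperm l)
  | [] => ⟨one_mem _, one_mem _, fun s t => ⟨t, by simp [wrep, wperm]⟩⟩
  | i :: l => by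
    obtain ⟨h1, h2⟩ := wrep_moves l
    refine ⟨?_, ?_⟩
    · simp only [wrep, List.map_cons, List.prod_cons, Subgroup.coe_mul]
      exact mul_mem ((coreG2 F).nS_mem_monomial i) h1
    · simp only [wrep, wperm, List.map_cons, List.prod_cons, Subgroup.coe_mul]
      exact ChevCore.Moves.mul (coreG2 F) (ChevCore.Acts.moves (coreG2 F) ((coreG2 F).acts_nS i)) h2

/-- The Borel subgroup inside the group. -/
def Bor (F : Type*) [Field F] : Subgroup ↥(chevG2.group F) :=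
  (chevG2.borelSubgroup F).subgroupOf (chevG2.group F)

/-- The unipotent group of a word, inside the group. -/
noncomputable def Uw (F : Type*) [Field F] (l : List (Fin chevG2.rank)) : Subgroup ↥(chevG2.group F) :=
  ((coreG2 F).Ucl ((coreG2 F).hR.invRoots (wperm l))).subgroupOf (chevG2.group F)

theorem Uw_le (l : List (Fin chevG2.rank)) : Uw F l ≤ Bor F := fun _ h => (coreG2 F).Ucl_invRoots_le _ h

theorem bruhat_surj (g : G2g F) : ∃ (i : Fin 12) (b : Bor F) (u : Uw F (wlist i)),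
    g = (b : G2g F) * wrep (wlist i) * (u : G2g F) := by
  obtain ⟨w, hw, b, hb, n, hn, hmv, u, hu, hg⟩ := (coreG2 F).normalForm_exists g.2
  obtain ⟨i, rfl⟩ := wperm_cover hw
  obtain ⟨h1, h2⟩ := wrep_moves (F := F) (wlist i)
  have hd : n * ((wrep (wlist i) : G2g F) : GL chevG2.Idx F)⁻¹ ∈ chevG2.diagonalSubgroup F := by
    refine (coreG2 F).mem_diagonal_of_moves_one (mul_mem hn (inv_mem h1)) ?_
    simpa using ChevCore.Moves.mul (coreG2 F) hmv (ChevCore.Moves.inv (coreG2 F) h1 h2)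
  have hb' := mul_mem hb (le_sup_right (a := chevG2.posUnipotent F) hd :
    n * ((wrep (wlist i) : G2g F) : GL chevG2.Idx F)⁻¹ ∈ chevG2.borelSubgroup F)
  refine ⟨i, ⟨⟨_, (coreG2 F).borel_le_group hb'⟩, hb'⟩,
    ⟨⟨u, (coreG2 F).borel_le_group ((coreG2 F).Ucl_invRoots_le _ hu)⟩, hu⟩, Subtype.ext ?_⟩
  simp only [Subgroup.coe_mul]
  rw [hg]; group

variable [Fintype F]

theorem card_Uw (i : Fin 12) : Nat.card (Uw F (wlist i)) = Fintype.card F ^ wlen i := by
  have hw : wperm (wlist i) ∈ (coreG2 F).hR.weyl := (wrep_moves (F := F) (wlist i)).2.1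
  unfold Uw
  rw [Nat.card_congr (Subgroup.subgroupOfEquivOfLe
    ((coreG2 F).Ucl_invRoots_le _ |>.trans (coreG2 F).borel_le_group)).toEquiv,
    (coreG2 F).card_Ucl ((coreG2 F).hR.invRoots_closed hw), (coreG2 F).hR.ncard_invRoots]
  exact congrArg _ (wperm_len i)

theorem card_Bor : Nat.card (Bor F) = Fintype.card F ^ 6 * (Fintype.card F - 1) ^ 2 := by
  rw [Bor, Nat.card_congr (Subgroup.subgroupOfEquivOfLe (coreG2 F).borel_le_group).toEquiv, (coreG2 F).card_borel]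
  have h := card_diagonalG2 F
  rw [one_mul] at h
  rw [h, ncard_isPosRoot (D := chevG2) (N := 6) (by decide +kernel)]
  rfl

theorem card_G2g : Nat.card (G2g F) =
    Fintype.card F ^ 6 * ((Fintype.card F ^ 2 - 1) * (Fintype.card F ^ 6 - 1)) := by
  have h := (coreG2 F).card_group_mul (q := Fintype.card F) (N := 6) rfl
    (ncard_isPosRoot (D := chevG2) (N := 6) (by decide +kernel)) (degs := [2, 6]) poincareG2
    (card_diagonalG2 F)
  simpa using h

variable [DecidableEq F]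
variable {V : Type*} [AddCommGroup V] [Module ℂ V] [FiniteDimensional ℂ V] {ρ : Representation ℂ (G2g F) V}
  (h1 : LineFix ρ) (hq : 3 ≤ Fintype.card F)

include h1 hq

theorem strip (A : G2g F) (hA : FlipA ρ A) (Y : Module.End ℂ V) :
    EQ ρ * (ρ A * Y) = EQ ρ * Y ∧ Y * ρ A * EQ ρ = Y * EQ ρ := by
  rw [← mul_assoc, hA.left, mul_assoc, hA.right]; exact ⟨rfl, rfl⟩

theorem word_scalar {T A : G2g F} (hT : FlipB ρ T) (hA : FlipA ρ A) :
    th ρ (1 : G2g F) = 1 ∧ th ρ A = 1 ∧ th ρ (A * T) = th ρ T ∧ th ρ (T * A) = th ρ T ∧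
    th ρ (A * T * A) = th ρ T ∧ th ρ (T * A * T) = th ρ T ^ 2 ∧ th ρ (A * T * A * T) = th ρ T ^ 2 ∧
    th ρ (T * A * T * A) = th ρ T ^ 2 ∧ th ρ (A * T * A * T * A) = th ρ T ^ 2 ∧
    th ρ (T * A * T * A * T) = th ρ T ^ 3 ∧ th ρ (A * T * A * T * A * T) = th ρ T ^ 3 ∧
    th ρ (T * A * T * A * T * A) = th ρ T ^ 3 := by
  have hth : ∀ g : G2g F, th ρ g = LinearMap.trace ℂ V (EQ ρ * ρ g * EQ ρ) := fun g => by
    rw [sandwich h1, map_smul, EQ_trace h1, smul_eq_mul, mul_one]; rfl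
  have el : ∀ g : G2g F, th ρ (A * g) = th ρ g := fun g => by
    rw [hth, hth, map_mul ρ, (strip h1 hq A hA _).1]
  have er : ∀ g : G2g F, th ρ (g * A) = th ρ g := fun g => by
    rw [hth, hth, map_mul ρ, mul_assoc, mul_assoc, hA.right]; simp only [mul_assoc]
  obtain ⟨c2, c3⟩ := cores h1 hq hT hA
  have t2 : th ρ (T * A * T) = th ρ T ^ 2 := by rw [hth, c2, map_smul, EQ_trace h1, smul_eq_mul, mul_one]
  have t3 : th ρ (T * A * T * A * T) = th ρ T ^ 3 := by rw [hth, c3, map_smul, EQ_trace h1, smul_eq_mul, mul_one]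
  refine ⟨th_one h1, ?_, el T, er T, ?_, t2, ?_, ?_, ?_, t3, ?_, ?_⟩
  · rw [show th ρ A = th ρ (A * 1) by rw [mul_one], el, th_one h1]
  · rw [er, el]
  · rw [mul_assoc, mul_assoc, el, ← mul_assoc, t2]
  · rw [er, t2]
  · rw [er, mul_assoc, mul_assoc, el, ← mul_assoc, t2]
  · rw [mul_assoc, mul_assoc, mul_assoc, mul_assoc, el, ← mul_assoc, ← mul_assoc, ← mul_assoc, t3]
  · rw [er, t3]

theorem wrep_scalar (i : Fin 12) :
    th ρ (wrep (wlist i)) * th ρ (wrep (wlist i))⁻¹ = (alpha ρ ^ 2) ^ wnum i := by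
  obtain ⟨a0, a1, a2, a3, a4, a5, a6, a7, a8, a9, a10, a11⟩ := word_scalar h1 hq (flipB ρ) (flipA h1 hq)
  obtain ⟨b0, b1, b2, b3, b4, b5, b6, b7, b8, b9, b10, b11⟩ := word_scalar h1 hq (flipB_inv ρ) (flipA_inv h1 hq)
  have hα : th ρ (N iB)⁻¹ = alpha ρ := th_NB_inv h1 hq
  have hα' : th ρ (N iB) = alpha ρ := rfl
  simp only [hα, hα'] at a2 a3 a4 a5 a6 a7 a8 a9 a10 a11 b2 b3 b4 b5 b6 b7 b8 b9 b10 b11
  have hdom : ∀ x : G2g F, x * 1 = x := mul_one
  fin_cases i <;>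
    simp [wlist, wnum, wrep, _root_.mul_inv_rev, ← mul_assoc, hdom, hα, hα', a0, a1, a2, a3, a4, a5, a6, a7, a8, a9,
      a10, a11, b0, b1, b2, b3, b4, b5, b6, b7, b8, b9, b10, b11] <;> ring

theorem borel_commute {b : G2g F} (hb : b ∈ Bor F) : Commute (ρ b) (EQ ρ) := by
  let S : Subgroup (G2g F) :=
    { carrier := {g | Commute (ρ g) (EQ ρ)}
      one_mem' := by show Commute (ρ 1) _; rw [map_one]; exact Commute.one_left _
      mul_mem' := fun {x y} hx hy => by show Commute (ρ (x * y)) _; rw [map_mul]; exact hx.mul_left hy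
      inv_mem' := fun {x} hx => commute_inv hx }
  obtain ⟨u, hu, c, hc⟩ := (coreG2 F).mem_borel.mp hb
  have hU : chevG2.posUnipotent F ≤ S.map (chevG2.group F).subtype := by
    rw [(coreG2 F).posUnipotent_eq]
    refine (coreG2 F).Ucl_le fun r hr t => ⟨X r t, ?_, rfl⟩
    have hmem : r ∈ [6, 7, 8, 9, 10, 11] := by
      have : ∀ r < chevG2.nroots, chevG2.IsPosRoot r → r ∈ [6, 7, 8, 9, 10, 11] := by decide +kernel
      exact this r hr.1 hr
    show Commute (ρ (X r t)) (EQ ρ)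
    by_cases h7 : r = 7
    · exact h7 ▸ commute_X7 t
    · have := fix_rad (ρ := ρ) (r := r) (by simp at hmem ⊢; omega) t
      exact this.1.trans this.2.symm
  obtain ⟨v, hv, hvu⟩ := hU hu
  have e : b = v * H (c iA) (c iB) := by
    refine Subtype.ext (hc.trans ?_)
    rw [Subgroup.coe_mul]
    congr 1
    · exact hvu.symm
  exact e ▸ S.mul_mem hv (commute_H _ _)

theorem scalar_BnU {b u n : G2g F} (hb : b ∈ Bor F) (hu : u ∈ Bor F) :
    th ρ (b * n * u) * th ρ (b * n * u)⁻¹ = th ρ n * th ρ n⁻¹ := by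
  have key : ∀ {x y : G2g F}, x ∈ Bor F → y ∈ Bor F → ∀ m, th ρ (x * m * y) = th ρ x * th ρ y * th ρ m := by
    intro x y hx hy m
    have ex := comm_smul h1 (borel_commute h1 hq hx)
    have ey := comm_smul h1 (borel_commute h1 hq hy)
    have e : EQ ρ * ρ (x * m * y) * EQ ρ = (th ρ x * th ρ y * th ρ m) • EQ ρ := by
      rw [map_mul, map_mul, mul_assoc (EQ ρ), mul_assoc (ρ x * ρ m), ey.1, ← mul_assoc, ← mul_assoc, ex.2]
      simp only [smul_mul_assoc, mul_smul_comm, smul_smul]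
      rw [sandwich h1, smul_smul]; congr 1; simp only [th]; ring
    have := congrArg (LinearMap.trace ℂ V) e
    rw [sandwich h1, map_smul, map_smul, EQ_trace h1, smul_eq_mul, smul_eq_mul, mul_one, mul_one] at this
    exact this
  have e1 := th_inv h1 (borel_commute h1 hq hb)
  have e2 := th_inv h1 (borel_commute h1 hq hu)
  rw [key hb hu, show (b * n * u)⁻¹ = u⁻¹ * n⁻¹ * b⁻¹ by group, key (inv_mem hu) (inv_mem hb)]
  linear_combination th ρ n * th ρ n⁻¹ * (th ρ u * th ρ u⁻¹) * e1 + th ρ n * th ρ n⁻¹ * e2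

theorem schur_sum [Fintype (G2g F)] (hirr : ρ.IsIrreducible) :
    (∑ g : G2g F, th ρ g * th ρ g⁻¹) * (Module.finrank ℂ V : ℂ) = Nat.card (G2g F) := by
  haveI := hirr
  set S : Module.End ℂ V := ∑ g : G2g F, ρ g * EQ ρ * ρ g⁻¹ with hS
  obtain ⟨c, hc⟩ := CfsgLib.Characters.schur_scalar ρ S fun h => by
    rw [hS, Finset.sum_mul, Finset.mul_sum]
    refine (Fintype.sum_equiv (Equiv.mulLeft h) _ _ fun g => ?_).symm
    rw [Equiv.coe_mulLeft, _root_.mul_inv_rev, map_mul, map_mul]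
    simp only [mul_assoc, rho_inv_mul, mul_one]
  have t1 : LinearMap.trace ℂ V S = Nat.card (G2g F) := by
    rw [hS, map_sum]
    simp_rw [LinearMap.trace_mul_comm ℂ (ρ _ * EQ ρ), ← mul_assoc, rho_inv_mul, one_mul, EQ_trace h1]
    simp
  have t2 : LinearMap.trace ℂ V (EQ ρ * S) = ∑ g : G2g F, th ρ g * th ρ g⁻¹ := by
    rw [hS, Finset.mul_sum, map_sum]
    refine Finset.sum_congr rfl fun g _ => ?_
    rw [← mul_assoc, ← mul_assoc,
      show EQ ρ * ρ g * EQ ρ = th ρ g • EQ ρ from sandwich h1 _, smul_mul_assoc, map_smul, smul_eq_mul,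
      LinearMap.trace_mul_comm]
    rfl
  rw [hc, mul_smul_comm, mul_one, map_smul, EQ_trace h1, smul_eq_mul, mul_one] at t2
  rw [hc, map_smul, LinearMap.trace_one, smul_eq_mul] at t1
  rw [← t2, t1]

theorem no_line (hirr : ρ.IsIrreducible) (hk : 2 ≤ Module.finrank ℂ V)
    (hk3 : Module.finrank ℂ V ≤ Fintype.card F ^ 3) : False := by
  classical
  haveI : Fintype (G2g F) := Fintype.ofFinite _
  set q := Fintype.card F with hqd
  set k := Module.finrank ℂ V with hkd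
  have hs := schur_sum h1 hq hirr
  have hval : ∀ g : G2g F, ∃ j, th ρ g * th ρ g⁻¹ = (alpha ρ ^ 2) ^ j := fun g => by
    obtain ⟨i, b, u, rfl⟩ := bruhat_surj g
    exact ⟨_, (scalar_BnU h1 hq b.2 (Uw_le _ u.2)).trans (wrep_scalar h1 hq i)⟩
  rcases quadratic h1 hq with ha | ha
  · have : ∀ g : G2g F, th ρ g * th ρ g⁻¹ = 1 := fun g => by obtain ⟨j, hj⟩ := hval g; rw [hj, ha]; simp
    rw [Finset.sum_congr rfl fun g _ => this g, Finset.sum_const, Finset.card_univ, nsmul_eq_mul, mul_one,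
      Nat.card_eq_fintype_card, ← Nat.cast_mul, Nat.cast_inj] at hs
    have hc : 0 < Fintype.card (G2g F) := Fintype.card_pos
    have : k = 1 := Nat.eq_of_mul_eq_mul_left hc (hs.trans (mul_one _).symm)
    omega
  · set r : ℝ := ((q : ℝ) ^ 2)⁻¹ with hr
    have hqR : (7 : ℝ) > 0 := by norm_num
    have hq0 : (q : ℂ) ≠ 0 := Nat.cast_ne_zero.mpr (by omega)
    have hq0' : (0 : ℝ) < q := Nat.cast_pos.mpr (by omega)
    have hrc : alpha ρ ^ 2 = (r : ℂ) := by
      rw [hr]; push_cast; field_simp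
      linear_combination ((q : ℂ) * alpha ρ - 1) * ha
    set f : G2g F → ℝ := fun g => (th ρ g * th ρ g⁻¹).re with hf
    have hfc : ∀ g, (f g : ℂ) = th ρ g * th ρ g⁻¹ := fun g => by
      obtain ⟨j, hj⟩ := hval g
      show ((th ρ g * th ρ g⁻¹).re : ℂ) = _
      rw [hj, hrc, ← Complex.ofReal_pow, Complex.ofReal_re]
    have hf0 : ∀ g, 0 ≤ f g := fun g => by
      obtain ⟨j, hj⟩ := hval g
      simp only [hf, hj, hrc, ← Complex.ofReal_pow, Complex.ofReal_re]
      positivity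
    have hsum : (∑ g, f g) * k = (Nat.card (G2g F) : ℝ) := by
      have : ((∑ g, f g : ℝ) : ℂ) * (k : ℂ) = (Nat.card (G2g F) : ℂ) := by
        rw [Complex.ofReal_sum, Finset.sum_congr rfl fun g _ => hfc g]; exact hs
      exact_mod_cast this
    let Φ : (Σ i : Fin 12, Bor F × Uw F (wlist i)) → G2g F :=
      fun x => (x.2.1 : G2g F) * wrep (wlist x.1) * (x.2.2 : G2g F)
    have hΦ : Function.Surjective Φ := fun g => by
      obtain ⟨i, b, u, e⟩ := bruhat_surj g; exact ⟨⟨i, b, u⟩, e.symm⟩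
    choose s hsx using hΦ
    have hle : ∑ g, f g ≤ ∑ x, f (Φ x) := by
      calc ∑ g, f g = ∑ g, f (Φ (s g)) := by simp [hsx]
        _ = ∑ x ∈ Finset.univ.image s, f (Φ x) :=
            (Finset.sum_image (f := fun x => f (Φ x)) fun a _ b _ h => (hsx a).symm.trans ((congrArg Φ h).trans (hsx b))).symm
        _ ≤ _ := Finset.sum_le_univ_sum_of_nonneg fun x => hf0 _
    have hΦv : ∀ i (y : Bor F × Uw F (wlist i)), f (Φ ⟨i, y⟩) = r ^ wnum i := fun i y => by
      simp only [hf, Φ, scalar_BnU h1 hq y.1.2 (Uw_le _ y.2.2), wrep_scalar h1 hq, hrc, ← Complex.ofReal_pow,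
        Complex.ofReal_re]
    have htot : ∑ x, f (Φ x) = ∑ i : Fin 12, ((q : ℝ) ^ 6 * ((q : ℝ) - 1) ^ 2 * (q : ℝ) ^ wlen i) * r ^ wnum i := by
      rw [Fintype.sum_sigma]
      refine Finset.sum_congr rfl fun i _ => ?_
      simp only [hΦv, Finset.sum_const, Finset.card_univ, Fintype.card_prod, ← Nat.card_eq_fintype_card, card_Bor,
        card_Uw, nsmul_eq_mul]
      rw [Nat.card_prod, card_Bor, card_Uw, ← hqd]
      push_cast [Nat.cast_sub (show 1 ≤ q by omega)]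
      rfl
    have hcard : (Nat.card (G2g F) : ℝ) = (q : ℝ) ^ 6 * (((q : ℝ) ^ 2 - 1) * ((q : ℝ) ^ 6 - 1)) := by
      rw [card_G2g, ← hqd]
      push_cast [Nat.cast_sub (Nat.one_le_pow 2 q (by omega)), Nat.cast_sub (Nat.one_le_pow 6 q (by omega))]
      rfl
    have hk3' : (k : ℝ) ≤ (q : ℝ) ^ 3 := by exact_mod_cast hk3
    have hfin : (Nat.card (G2g F) : ℝ) ≤ (∑ x, f (Φ x)) * (q : ℝ) ^ 3 := by
      rw [← hsum]
      exact mul_le_mul hle hk3' (Nat.cast_nonneg _) (Finset.sum_nonneg fun x _ => hf0 _)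
    rw [htot, hcard] at hfin
    have hb : ∑ i : Fin 12, ((q : ℝ) ^ 6 * ((q : ℝ) - 1) ^ 2 * (q : ℝ) ^ wlen i) * r ^ wnum i =
        (q : ℝ) ^ 6 * ((q : ℝ) - 1) ^ 2 * (3 * (1 + q) ^ 2 / q) := by
      simp [Fin.sum_univ_succ, wlen, wnum, hr]
      field_simp
      ring
    rw [hb] at hfin
    have hqv : (3 : ℝ) ≤ q := by exact_mod_cast hq
    have e : (q : ℝ) ^ 6 * ((q : ℝ) - 1) ^ 2 * (3 * (1 + q) ^ 2 / q) * (q : ℝ) ^ 3 =
        (q : ℝ) ^ 6 * ((q : ℝ) ^ 2 - 1) * (3 * ((q : ℝ) ^ 2 - 1) * (q : ℝ) ^ 2) := by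
      field_simp; ring
    rw [e, ← mul_assoc] at hfin
    have hpos : 0 < (q : ℝ) ^ 6 * ((q : ℝ) ^ 2 - 1) := by
      have : (0 : ℝ) < (q : ℝ) ^ 2 - 1 := by nlinarith
      positivity
    have h' := le_of_mul_le_mul_left hfin hpos
    nlinarith [mul_le_mul hqv hqv (by norm_num) hq0'.le, sq_nonneg ((q : ℝ) ^ 3), pow_pos hq0' 4,
      mul_le_mul_of_nonneg_left (mul_le_mul hqv hqv (by norm_num) hq0'.le) (pow_pos hq0' 4).le]

end CfsgLib.GTwoDeg
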