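import Cfsg.Agent.Lib.ChevStr.Bruhat
import Cfsg.Agent.Lib.ChevStr.InstanceTables
import Cfsg.Agent.Lib.Structure.GTwoInvolution

set_option autoImplicit false

/-!
Root elements of `G₂(F)` inside the group, with the relations used for the lower bounds on degrees.
Roots: `7 = a`, `6 = b`, `8 = a + b`, `9 = 2a + b`, `10 = 3a + b`, `11 = 3a + 2b`, and `11 - r = -r`.
-/

namespace CfsgLib.GTwoDeg

open Cfsg.Lie CfsgLib.ChevStr

variable {F : Type*} [Field F]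

/-- The group as a type. -/
abbrev G2g (F : Type*) [Field F] : Type _ := ↥(chevG2.group F)

/-- `x_r(t)` in the group. -/
noncomputable def X (r : ℕ) (t : F) : ↥(chevG2.group F) := ⟨(coreG2 F).xGL r t, (coreG2 F).xGL_mem_group r t⟩

theorem coe_X (r : ℕ) (t : F) : ((X r t : G2g F) : GL chevG2.Idx F) = (coreG2 F).xGL r t := rfl

theorem X_add (r : ℕ) (t u : F) : X r (t + u) = (X r t * X r u : G2g F) := Subtype.ext ((coreG2 F).xGL_add r t u)

theorem X_zero (r : ℕ) : X r (0 : F) = (1 : G2g F) := Subtype.ext ((coreG2 F).xGL_zero r)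

theorem X_inv (r : ℕ) (t : F) : (X r t : G2g F)⁻¹ = X r (-t) := Subtype.ext ((coreG2 F).xGL_inv r t)

/-- The word of root elements. -/
noncomputable def word (w : List (ℕ × F)) : ↥(chevG2.group F) := ⟨(coreG2 F).wordGL w, (coreG2 F).wordGL_mem_group w⟩

theorem word_nil : word ([] : List (ℕ × F)) = (1 : G2g F) := Subtype.ext (coreG2 F).wordGL_nil

theorem word_cons (p : ℕ × F) (w : List (ℕ × F)) : word (p :: w) = (X p.1 p.2 * word w : G2g F) :=
  Subtype.ext ((coreG2 F).wordGL_cons p w)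

/-- Conjugation of a root element by another, as a word with the coefficients `c tⁱ uʲ`. -/
theorem X_conj {r s : ℕ} (h : r < 12 ∧ s < 12 ∧ s ≠ r ∧ s ≠ chevG2.neg r) {L : List (ℕ × ℤ × ℕ × ℕ)}
    (hL : chevG2.commTerms r s = L) (t u : F) :
    (X r t * X s u * (X r t)⁻¹ : G2g F) =
      X s u * word (L.map fun c => (c.1, (c.2.1 : F) * t ^ c.2.2.1 * u ^ c.2.2.2)) := by
  obtain ⟨hr, hs, h1, h2⟩ := h
  refine Subtype.ext ?_
  have hn : chevG2.nroots = 12 := rfl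
  have e := (coreG2 F).xGL_comm (r := r) (s := s) (hn ▸ hr) (hn ▸ hs) h1 h2 (-t) u
  simp only [ChevalleyDatum.commWord, hL, neg_neg] at e
  show (coreG2 F).xGL r t * (coreG2 F).xGL s u * ((coreG2 F).xGL r t)⁻¹ = _
  rw [(coreG2 F).xGL_inv, mul_assoc, e, ← mul_assoc, ← mul_assoc, ← (coreG2 F).xGL_add, add_neg_cancel,
    (coreG2 F).xGL_zero, one_mul]
  rfl

theorem X_commute {r s : ℕ} (h : r < 12 ∧ s < 12 ∧ s ≠ r ∧ s ≠ chevG2.neg r) (hL : chevG2.commTerms r s = [])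
    (t u : F) : Commute (X r t : G2g F) (X s u) := by
  have e := X_conj h hL t u
  rw [List.map_nil, word_nil, mul_one, mul_inv_eq_iff_eq_mul] at e
  exact e

/-- A single term. -/
theorem X_conj_one {r s k : ℕ} {c : ℤ} (h : r < 12 ∧ s < 12 ∧ s ≠ r ∧ s ≠ chevG2.neg r)
    (hL : chevG2.commTerms r s = [(k, c, 1, 1)]) (t u : F) :
    (X r t * X s u * (X r t)⁻¹ : G2g F) = X s u * X k ((c : F) * t * u) := by
  rw [X_conj h hL, List.map_cons, List.map_nil, word_cons, word_nil, mul_one, pow_one, pow_one]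

theorem a_b (t u : F) : (X 7 t * X 6 u * (X 7 t)⁻¹ : G2g F) =
    X 6 u * X 8 (-(t * u)) * X 9 (t ^ 2 * u) * X 10 (t ^ 3 * u) * X 11 (t ^ 3 * u ^ 2) := by
  rw [X_conj (r := 7) (s := 6) (L := [(8, -1, 1, 1), (9, 1, 2, 1), (10, 1, 3, 1), (11, 1, 3, 2)]) (by decide +kernel)
    (by decide +kernel)]
  simp [word_cons, word_nil, mul_assoc]

theorem a_c (t u : F) : (X 7 t * X 8 u * (X 7 t)⁻¹ : G2g F) =
    X 8 u * X 9 (-(2 * t * u)) * X 10 (-(3 * t ^ 2 * u)) * X 11 (3 * t * u ^ 2) := by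
  rw [X_conj (r := 7) (s := 8) (L := [(9, -2, 1, 1), (10, -3, 2, 1), (11, 3, 1, 2)]) (by decide +kernel) (by decide +kernel)]
  simp [word_cons, word_nil, mul_assoc]

theorem a_d (t u : F) : (X 7 t * X 9 u * (X 7 t)⁻¹ : G2g F) = X 9 u * X 10 (3 * t * u) := by
  rw [X_conj_one (r := 7) (s := 9) (k := 10) (c := 3) (by decide +kernel) (by decide +kernel)]; simp

theorem a_e (t u : F) : Commute (X 7 t : G2g F) (X 10 u) := X_commute (r := 7) (s := 10) (by decide +kernel) (by decide +kernel) t u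

theorem b_e (t u : F) : (X 6 t * X 10 u * (X 6 t)⁻¹ : G2g F) = X 10 u * X 11 (t * u) := by
  rw [X_conj_one (r := 6) (s := 10) (k := 11) (c := 1) (by decide +kernel) (by decide +kernel)]; simp

theorem c_d (t u : F) : (X 8 t * X 9 u * (X 8 t)⁻¹ : G2g F) = X 9 u * X 11 (3 * t * u) := by
  rw [X_conj_one (r := 8) (s := 9) (k := 11) (c := 3) (by decide +kernel) (by decide +kernel)]; simp

theorem nb_z (t u : F) : (X 5 t * X 11 u * (X 5 t)⁻¹ : G2g F) = X 11 u * X 10 (t * u) := by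
  rw [X_conj_one (r := 5) (s := 11) (k := 10) (c := 1) (by decide +kernel) (by decide +kernel)]; simp

theorem b_nz (t u : F) : (X 6 t * X 0 u * (X 6 t)⁻¹ : G2g F) = X 0 u * X 1 (-(t * u)) := by
  rw [X_conj_one (r := 6) (s := 0) (k := 1) (c := -1) (by decide +kernel) (by decide +kernel)]; simp

theorem e_nz (t u : F) : (X 10 t * X 0 u * (X 10 t)⁻¹ : G2g F) = X 0 u * X 5 (t * u) := by
  rw [X_conj_one (r := 10) (s := 0) (k := 5) (c := 1) (by decide +kernel) (by decide +kernel)]; simp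

theorem comm_check : ∀ p ∈ [(11, 6), (11, 8), (11, 9), (11, 10), (11, 7), (6, 8), (6, 9), (8, 10), (9, 10), (10, 5),
    (5, 0), (1, 6), (1, 0)],
    (p.1 < 12 ∧ p.2 < 12 ∧ p.2 ≠ p.1 ∧ p.2 ≠ chevG2.neg p.1) ∧ chevG2.commTerms p.1 p.2 = [] := by
  decide +kernel

theorem comm_pair {r s : ℕ} (h : (r, s) ∈ [(11, 6), (11, 8), (11, 9), (11, 10), (11, 7), (6, 8), (6, 9), (8, 10),
    (9, 10), (10, 5), (5, 0), (1, 6), (1, 0)]) (t u : F) : Commute (X r t : G2g F) (X s u) :=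
  X_commute (comm_check _ h).1 (comm_check _ h).2 t u

theorem comm_cd_three (h3 : (3 : F) = 0) (t u : F) : Commute (X 8 t : G2g F) (X 9 u) := by
  have e := c_d t u
  rw [h3, zero_mul, zero_mul, X_zero, mul_one, mul_inv_eq_iff_eq_mul] at e
  exact e

/-! ### Reflections and torus -/

/-- The two fundamental indices. -/
def iA : Fin chevG2.rank := CfsgLib.GTwoInv.iA

/-- The second fundamental index. -/
def iB : Fin chevG2.rank := CfsgLib.GTwoInv.iB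

/-- Representatives of the fundamental reflections. -/
noncomputable def N (i : Fin chevG2.rank) : ↥(chevG2.group F) := (coreG2 F).nSG i

theorem N_conj (i : Fin chevG2.rank) {r : ℕ} (hr : r < 12) (t : F) :
    (N i * X r t * (N i)⁻¹ : G2g F) = X (Chev.G2.cert.T.piRoot i r) ((Chev.G2.cert.T.eta i r : F) * t) := by
  refine Subtype.ext ?_
  show (coreG2 F).nS i * (coreG2 F).xGL r t * ((coreG2 F).nS i)⁻¹ = _
  rw [mul_inv_eq_iff_eq_mul]
  refine Units.ext ?_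
  have hn : Chev.G2.cert.T.n = 12 := by decide +kernel
  have hl : Chev.G2.cert.T.l = chevG2.rank := by decide +kernel
  simpa [coe_X] using Chev.G2.cert.nMat_mul_x (F := F) (show (i : ℕ) < Chev.G2.cert.T.l by rw [hl]; exact i.isLt)
    (show r < Chev.G2.cert.T.n by rw [hn]; exact hr) t

theorem NA_4 (t : F) : (N iA * X 4 t * (N iA)⁻¹ : G2g F) = X 7 (-t) := by
  rw [N_conj _ (by norm_num : 4 < 12), show Chev.G2.cert.T.piRoot (iA : ℕ) 4 = 7 by decide +kernel,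
    show Chev.G2.cert.T.eta (iA : ℕ) 4 = -1 by decide +kernel]; simp

theorem NA_6 (t : F) : (N iA * X 6 t * (N iA)⁻¹ : G2g F) = X 10 t := by
  rw [N_conj _ (by norm_num : 6 < 12), show Chev.G2.cert.T.piRoot (iA : ℕ) 6 = 10 by decide +kernel,
    show Chev.G2.cert.T.eta (iA : ℕ) 6 = 1 by decide +kernel]; simp

theorem NA_7 (t : F) : (N iA * X 7 t * (N iA)⁻¹ : G2g F) = X 4 (-t) := by
  rw [N_conj _ (by norm_num : 7 < 12), show Chev.G2.cert.T.piRoot (iA : ℕ) 7 = 4 by decide +kernel,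
    show Chev.G2.cert.T.eta (iA : ℕ) 7 = -1 by decide +kernel]; simp

theorem NA_8 (t : F) : (N iA * X 8 t * (N iA)⁻¹ : G2g F) = X 9 t := by
  rw [N_conj _ (by norm_num : 8 < 12), show Chev.G2.cert.T.piRoot (iA : ℕ) 8 = 9 by decide +kernel,
    show Chev.G2.cert.T.eta (iA : ℕ) 8 = 1 by decide +kernel]; simp

theorem NA_9 (t : F) : (N iA * X 9 t * (N iA)⁻¹ : G2g F) = X 8 (-t) := by
  rw [N_conj _ (by norm_num : 9 < 12), show Chev.G2.cert.T.piRoot (iA : ℕ) 9 = 8 by decide +kernel,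
    show Chev.G2.cert.T.eta (iA : ℕ) 9 = -1 by decide +kernel]; simp

theorem NA_10 (t : F) : (N iA * X 10 t * (N iA)⁻¹ : G2g F) = X 6 (-t) := by
  rw [N_conj _ (by norm_num : 10 < 12), show Chev.G2.cert.T.piRoot (iA : ℕ) 10 = 6 by decide +kernel,
    show Chev.G2.cert.T.eta (iA : ℕ) 10 = -1 by decide +kernel]; simp

theorem NA_11 (t : F) : (N iA * X 11 t * (N iA)⁻¹ : G2g F) = X 11 t := by
  rw [N_conj _ (by norm_num : 11 < 12), show Chev.G2.cert.T.piRoot (iA : ℕ) 11 = 11 by decide +kernel,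
    show Chev.G2.cert.T.eta (iA : ℕ) 11 = 1 by decide +kernel]; simp

theorem NB_5 (t : F) : (N iB * X 5 t * (N iB)⁻¹ : G2g F) = X 6 (-t) := by
  rw [N_conj _ (by norm_num : 5 < 12), show Chev.G2.cert.T.piRoot (iB : ℕ) 5 = 6 by decide +kernel,
    show Chev.G2.cert.T.eta (iB : ℕ) 5 = -1 by decide +kernel]; simp

theorem NB_6 (t : F) : (N iB * X 6 t * (N iB)⁻¹ : G2g F) = X 5 (-t) := by
  rw [N_conj _ (by norm_num : 6 < 12), show Chev.G2.cert.T.piRoot (iB : ℕ) 6 = 5 by decide +kernel,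
    show Chev.G2.cert.T.eta (iB : ℕ) 6 = -1 by decide +kernel]; simp

theorem NB_7 (t : F) : (N iB * X 7 t * (N iB)⁻¹ : G2g F) = X 8 t := by
  rw [N_conj _ (by norm_num : 7 < 12), show Chev.G2.cert.T.piRoot (iB : ℕ) 7 = 8 by decide +kernel,
    show Chev.G2.cert.T.eta (iB : ℕ) 7 = 1 by decide +kernel]; simp

theorem NB_8 (t : F) : (N iB * X 8 t * (N iB)⁻¹ : G2g F) = X 7 (-t) := by
  rw [N_conj _ (by norm_num : 8 < 12), show Chev.G2.cert.T.piRoot (iB : ℕ) 8 = 7 by decide +kernel,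
    show Chev.G2.cert.T.eta (iB : ℕ) 8 = -1 by decide +kernel]; simp

theorem NB_9 (t : F) : (N iB * X 9 t * (N iB)⁻¹ : G2g F) = X 9 t := by
  rw [N_conj _ (by norm_num : 9 < 12), show Chev.G2.cert.T.piRoot (iB : ℕ) 9 = 9 by decide +kernel,
    show Chev.G2.cert.T.eta (iB : ℕ) 9 = 1 by decide +kernel]; simp

theorem NB_10 (t : F) : (N iB * X 10 t * (N iB)⁻¹ : G2g F) = X 11 t := by
  rw [N_conj _ (by norm_num : 10 < 12), show Chev.G2.cert.T.piRoot (iB : ℕ) 10 = 11 by decide +kernel,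
    show Chev.G2.cert.T.eta (iB : ℕ) 10 = 1 by decide +kernel]; simp

theorem NB_11 (t : F) : (N iB * X 11 t * (N iB)⁻¹ : G2g F) = X 10 (-t) := by
  rw [N_conj _ (by norm_num : 11 < 12), show Chev.G2.cert.T.piRoot (iB : ℕ) 11 = 10 by decide +kernel,
    show Chev.G2.cert.T.eta (iB : ℕ) 11 = -1 by decide +kernel]; simp

theorem N_eq_word (i : Fin chevG2.rank) :
    (N i : G2g F) = X (chevG2.simple i) 1 * X (chevG2.neg (chevG2.simple i)) (-1) * X (chevG2.simple i) 1 := by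
  refine Subtype.ext ?_
  show (coreG2 F).nS i = (coreG2 F).xGL _ 1 * (coreG2 F).xGL _ (-1) * (coreG2 F).xGL _ 1
  simp [ChevCore.nS, ChevCore.nGL, ChevalleyDatum.nWord, ChevCore.wordGL_cons, ChevCore.wordGL_nil, mul_assoc]

theorem NA_word : (N iA : G2g F) = X 7 1 * X 4 (-1) * X 7 1 := by
  rw [N_eq_word, show chevG2.simple (iA : ℕ) = 7 by decide +kernel, show chevG2.neg 7 = 4 by decide +kernel]

theorem NB_word : (N iB : G2g F) = X 6 1 * X 5 (-1) * X 6 1 := by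
  rw [N_eq_word, show chevG2.simple (iB : ℕ) = 6 by decide +kernel, show chevG2.neg 6 = 5 by decide +kernel]

/-- The torus element with parameters `a`, `b`. -/
noncomputable def H (a b : Fˣ) : ↥(chevG2.group F) :=
  ⟨CfsgLib.GTwoInv.tor a b, CfsgLib.GTwoInv.torus_mem_group _⟩

theorem H_mul (a b a' b' : Fˣ) : (H a b * H a' b' : G2g F) = H (a * a') (b * b') :=
  Subtype.ext (CfsgLib.GTwoInv.tor_mul a b a' b')

theorem H_one : (H 1 1 : G2g F) = 1 := Subtype.ext CfsgLib.GTwoInv.tor_one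

theorem H_inv (a b : Fˣ) : (H a b : G2g F)⁻¹ = H a⁻¹ b⁻¹ :=
  inv_eq_of_mul_eq_one_right (by rw [H_mul, mul_inv_cancel, mul_inv_cancel, H_one])

theorem H_comm (a b a' b' : Fˣ) : Commute (H a b : G2g F) (H a' b') := by
  show _ * _ = _ * _
  rw [H_mul, H_mul, mul_comm a, mul_comm b]

/-- The character of a root on the torus. -/
def wt (a b : Fˣ) (r : ℕ) : Fˣ := a ^ chevG2.cartan 0 r * b ^ chevG2.cartan 1 r

theorem H_conj (a b : Fˣ) {r : ℕ} (hr : r < 12) (t : F) :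
    (H a b * X r t * (H a b)⁻¹ : G2g F) = X r ((wt a b r : F) * t) := by
  refine Subtype.ext ?_
  show CfsgLib.GTwoInv.tor a b * (coreG2 F).xGL r t * (CfsgLib.GTwoInv.tor a b)⁻¹ = _
  rw [CfsgLib.GTwoInv.tor, CfsgLib.GTwoInv.conj_x _ (show r < chevG2.nroots from hr),
    CfsgLib.GTwoInv.chr_eq _ (show r < chevG2.nroots from hr), CfsgLib.GTwoInv.vec_A, CfsgLib.GTwoInv.vec_B]
  rfl

theorem N_conj_H (i : Fin chevG2.rank) (a b : Fˣ) : (N i * H a b * (N i)⁻¹ : G2g F) =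
    ⟨(coreG2 F).R.torus (CfsgLib.GTwoInv.vec a b * Pi.mulSingle i
      ((coreG2 F).R.torusChar (CfsgLib.GTwoInv.vec a b) ((coreG2 F).R.α (chevG2.simple i)))⁻¹),
      CfsgLib.GTwoInv.torus_mem_group _⟩ :=
  Subtype.ext ((coreG2 F).nS_conj_torus i _)

theorem NA_H (a b : Fˣ) : (N iA * H a b * (N iA)⁻¹ : G2g F) = H (a⁻¹ * b) b := by
  rw [N_conj_H]
  refine Subtype.ext ?_
  show (coreG2 F).R.torus _ = (coreG2 F).R.torus (CfsgLib.GTwoInv.vec (a⁻¹ * b) b)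
  congr 1
  rw [show ((coreG2 F).R.torusChar (CfsgLib.GTwoInv.vec a b) ((coreG2 F).R.α (chevG2.simple (iA : ℕ)))) =
      CfsgLib.GTwoInv.chr (CfsgLib.GTwoInv.vec a b) 7 by
    rw [show chevG2.simple (iA : ℕ) = 7 by decide +kernel], CfsgLib.GTwoInv.chr7, iA,
    CfsgLib.GTwoInv.single_A, CfsgLib.GTwoInv.vec_mul]
  congr 1
  · rw [mul_inv, inv_inv, pow_two, mul_inv, mul_assoc, mul_inv_cancel_left]
  · rw [mul_one]

theorem NB_H (a b : Fˣ) : (N iB * H a b * (N iB)⁻¹ : G2g F) = H a (a ^ 3 * b⁻¹) := by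
  rw [N_conj_H]
  refine Subtype.ext ?_
  show (coreG2 F).R.torus _ = (coreG2 F).R.torus (CfsgLib.GTwoInv.vec a (a ^ 3 * b⁻¹))
  congr 1
  rw [show ((coreG2 F).R.torusChar (CfsgLib.GTwoInv.vec a b) ((coreG2 F).R.α (chevG2.simple (iB : ℕ)))) =
      CfsgLib.GTwoInv.chr (CfsgLib.GTwoInv.vec a b) 6 by
    rw [show chevG2.simple (iB : ℕ) = 6 by decide +kernel], CfsgLib.GTwoInv.chr6, iB,
    CfsgLib.GTwoInv.single_B, CfsgLib.GTwoInv.vec_mul]
  congr 1
  · rw [mul_one]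
  · rw [mul_inv, inv_inv, ← mul_assoc, mul_comm b, mul_assoc, pow_two, mul_inv, ← mul_assoc b b⁻¹, mul_inv_cancel, one_mul]

/-- The values of the root characters. -/
theorem wt_table (a b : Fˣ) : (wt a b 6 = (a ^ 3)⁻¹ * b ^ 2 ∧ wt a b 8 = a⁻¹ * b ∧ wt a b 9 = a ∧
    wt a b 10 = a ^ 3 * b⁻¹ ∧ wt a b 11 = b) ∧ wt a b 7 = a ^ 2 * b⁻¹ ∧ wt a b 5 = a ^ 3 * (b ^ 2)⁻¹ ∧
    wt a b 0 = b⁻¹ ∧ wt a b 4 = (a ^ 2)⁻¹ * b := by
  have e : (chevG2.cartan 0 6 = -3 ∧ chevG2.cartan 1 6 = 2) ∧ (chevG2.cartan 0 8 = -1 ∧ chevG2.cartan 1 8 = 1) ∧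
      (chevG2.cartan 0 9 = 1 ∧ chevG2.cartan 1 9 = 0) ∧ (chevG2.cartan 0 10 = 3 ∧ chevG2.cartan 1 10 = -1) ∧
      (chevG2.cartan 0 11 = 0 ∧ chevG2.cartan 1 11 = 1) ∧ (chevG2.cartan 0 7 = 2 ∧ chevG2.cartan 1 7 = -1) ∧
      (chevG2.cartan 0 5 = 3 ∧ chevG2.cartan 1 5 = -2) ∧ (chevG2.cartan 0 0 = 0 ∧ chevG2.cartan 1 0 = -1) ∧
      (chevG2.cartan 0 4 = -2 ∧ chevG2.cartan 1 4 = 1) := by decide +kernel
  simp [wt, e, _root_.zpow_neg]

end CfsgLib.GTwoDeg
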