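import Mathlib.FieldTheory.Finite.Basic
import Mathlib.Algebra.Polynomial.Roots
import Mathlib.Tactic

set_option autoImplicit false
set_option linter.unusedSectionVars false

/-!
Invariant weights on binary cubic forms over a finite field: the orbit of triple roots and a lower bound
for all other orbits.
-/

namespace CfsgLib.GTwoDeg

open Finset

variable {F : Type*} [Field F]

/-- Translation of a cubic. -/
def shift (t : F) (l : Fin 4 → F) : Fin 4 → F :=
  ![l 0 + t * l 1 + t ^ 2 * l 2 + t ^ 3 * l 3, l 1 + 2 * t * l 2 + 3 * t ^ 2 * l 3, l 2 + 3 * t * l 3, l 3]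

/-- Reversal of a cubic. -/
def rev (l : Fin 4 → F) : Fin 4 → F := ![l 3, -l 2, l 1, -l 0]

/-- Scaling of a cubic. -/
def sc (μ α : Fˣ) (l : Fin 4 → F) : Fin 4 → F := ![μ * l 0, μ * α * l 1, μ * α ^ 2 * l 2, μ * α ^ 3 * l 3]

/-- An invariant weight. -/
structure CubicInv (r : (Fin 4 → F) → ℕ) : Prop where
  shift : ∀ t l, r (shift t l) = r l
  rev : ∀ l, r (rev l) = r l
  sc : ∀ μ α l, r (sc μ α l) = r l

/-- The cubics with a triple root. -/
def tri : Option F × Fˣ → (Fin 4 → F)
  | (none, e) => ![(e : F), 0, 0, 0]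
  | (some t, e) => shift t ![0, 0, 0, (e : F)]

theorem tri_injective (h3 : (3 : F) ≠ 0) : Function.Injective (tri (F := F)) := by
  rintro ⟨_ | t, e⟩ ⟨_ | t', e'⟩ h
  · have := congrFun h 0
    simp [tri] at this
    rw [Units.ext this]
  · have := congrFun h 3
    simp [tri, shift] at this
    exact absurd this.symm e'.ne_zero
  · have := congrFun h 3
    simp [tri, shift] at this
  · have h1 := congrFun h 3
    have h2 := congrFun h 2
    simp [tri, shift] at h1 h2
    obtain rfl : e = e' := Units.ext h1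
    simp [h3] at h2
    rw [h2]

theorem shift_shift (s t : F) (l : Fin 4 → F) : shift s (shift t l) = shift (s + t) l := by
  funext i
  fin_cases i <;> simp [shift] <;> ring

theorem shift_zero (l : Fin 4 → F) : shift 0 l = l := by
  funext i
  fin_cases i <;> simp [shift]

/-- The triple cubics, as a predicate. -/
def IsTri (l : Fin 4 → F) : Prop := ∃ p, tri p = l

theorem isTri_shift {l : Fin 4 → F} (h : IsTri l) (t : F) : IsTri (shift t l) := by
  obtain ⟨⟨_ | t', e⟩, rfl⟩ := h
  · exact ⟨(none, e), by funext i; fin_cases i <;> simp [tri, shift]⟩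
  · exact ⟨(some (t + t'), e), (shift_shift t t' _).symm⟩

theorem isTri_rev {l : Fin 4 → F} (h : IsTri l) : IsTri (rev l) := by
  obtain ⟨⟨_ | t, e⟩, rfl⟩ := h
  · exact ⟨(some 0, -e), by funext i; fin_cases i <;> simp [tri, shift, rev]⟩
  · by_cases ht : t = 0
    · exact ⟨(none, e), by funext i; fin_cases i <;> simp [tri, shift, rev, ht]⟩
    · exact ⟨(some (-t⁻¹), -(Units.mk0 t ht ^ 3 * e)), by
        funext i; fin_cases i <;> simp [tri, shift, rev] <;> field_simp⟩

theorem isTri_neg {l : Fin 4 → F} (h : IsTri l) : IsTri (-l) := by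
  obtain ⟨⟨_ | t, e⟩, rfl⟩ := h
  · exact ⟨(none, -e), by funext i; fin_cases i <;> simp [tri]⟩
  · exact ⟨(some t, -e), by funext i; fin_cases i <;> simp [tri, shift]⟩

theorem rev_rev (l : Fin 4 → F) : rev (rev l) = -l := by
  funext i; fin_cases i <;> simp [rev]

variable {r : (Fin 4 → F) → ℕ} (hr : CubicInv r)

include hr

theorem r_tri (p : Option F × Fˣ) : r (tri p) = r ![0, 0, 0, 1] := by
  have key : ∀ e : Fˣ, r ![0, 0, 0, (e : F)] = r ![0, 0, 0, 1] := fun e => by
    rw [← hr.sc e 1 ![0, 0, 0, 1]]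
    congr 1
    funext i; fin_cases i <;> simp [GTwoDeg.sc]
  rcases p with ⟨_ | t, e⟩
  · rw [← key e, ← hr.rev ![0, 0, 0, (e : F)]]
    congr 1
    funext i; fin_cases i <;> simp [tri, GTwoDeg.rev]
  · rw [← key e]; exact hr.shift t _

variable [Fintype F] [DecidableEq F]

/-- A non-zero cubic can be moved to one of degree three. -/
theorem exists_deg (hq : 4 ≤ Fintype.card F) {l : Fin 4 → F} (hl : l ≠ 0) :
    ∃ l' : Fin 4 → F, r l' = r l ∧ l' 3 ≠ 0 ∧ (IsTri l' → IsTri l) := by
  by_cases h3 : l 3 ≠ 0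
  · exact ⟨l, rfl, h3, id⟩
  push Not at h3
  obtain ⟨t, ht⟩ : ∃ t : F, l 0 + t * l 1 + t ^ 2 * l 2 ≠ 0 := by
    by_contra hcon
    push Not at hcon
    obtain ⟨x, hx⟩ : ∃ x, x ∉ ({0, 1} : Finset F) := by
      by_contra h
      push Not at h
      have hc := Finset.card_le_card (show (Finset.univ : Finset F) ⊆ {0, 1} from fun x _ => h x)
      have := Finset.card_le_two (a := (0 : F)) (b := 1)
      rw [Finset.card_univ] at hc
      omega
    simp only [Finset.mem_insert, Finset.mem_singleton, not_or] at hx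
    have e0 := hcon 0
    have e1 := hcon 1
    have e2 := hcon x
    simp at e0
    have h12 : l 2 * (x * (x - 1)) = 0 := by linear_combination e2 - x * e1 + (x - 1) * e0
    have h2 : l 2 = 0 := (mul_eq_zero.mp h12).resolve_right (mul_ne_zero hx.1 (sub_ne_zero.mpr hx.2))
    have h1 : l 1 = 0 := by rw [e0, h2] at e1; simpa using e1
    exact hl (by funext i; fin_cases i <;> simp [e0, h1, h2, h3])
  refine ⟨rev (shift t l), by rw [hr.rev, hr.shift], ?_, fun h => ?_⟩
  · have e : rev (shift t l) 3 = -(l 0 + t * l 1 + t ^ 2 * l 2) := by simp [rev, shift, h3]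
    rw [e]; exact neg_ne_zero.mpr ht
  · have h' := isTri_neg (isTri_rev h)
    rw [rev_rev, neg_neg] at h'
    have h'' := isTri_shift h' (-t)
    rwa [shift_shift, neg_add_cancel, shift_zero] at h''

theorem sum_tri (h3 : (3 : F) ≠ 0) :
    (Fintype.card F + 1) * (Fintype.card F - 1) * r ![0, 0, 0, 1] =
      ∑ l ∈ Finset.univ.image (tri (F := F)), r l := by
  classical
  rw [Finset.sum_image (fun p _ q _ h => tri_injective h3 h), Finset.sum_congr rfl (fun p _ => r_tri hr p),
    Finset.sum_const, smul_eq_mul, Finset.card_univ, Fintype.card_prod, Fintype.card_option, Fintype.card_units]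

omit hr in
theorem zero_not_tri : (0 : Fin 4 → F) ∉ Finset.univ.image (tri (F := F)) := by
  simp only [Finset.mem_image, Finset.mem_univ, true_and, not_exists]
  rintro ⟨_ | t, e⟩ h
  · exact e.ne_zero (by simpa [tri] using congrFun h 0)
  · exact e.ne_zero (by simpa [tri, shift] using congrFun h 3)

/-- A cubic without triple root has a large orbit. -/
theorem nontri_bound (h3 : (3 : F) ≠ 0) (hq : 4 ≤ Fintype.card F) {l : Fin 4 → F} (hl : l ≠ 0) (hnt : ¬ IsTri l)
    (hrl : r l ≠ 0) :
    Fintype.card F * (Fintype.card F - 1) ^ 2 ≤ 3 * ∑ x ∈ Finset.univ.erase (0 : Fin 4 → F), r x := by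
  classical
  obtain ⟨l₁, hr1, hl13, htri1⟩ := exists_deg hr hq hl
  set t₀ := -(l₁ 2 / (3 * l₁ 3)) with ht₀
  set d := shift t₀ l₁ with hd
  have hd2 : d 2 = 0 := by simp [hd, shift, ht₀]; field_simp; ring
  have hd3 : d 3 = l₁ 3 := by simp [hd, shift]
  have hrd : r d = r l := by rw [hd, hr.shift, hr1]
  have hAB : d 1 ≠ 0 ∨ d 0 ≠ 0 := by
    by_contra hcon
    push Not at hcon
    refine hnt (htri1 ?_)
    have h : IsTri d := ⟨(some 0, Units.mk0 (l₁ 3) hl13), by
      funext i; fin_cases i <;> simp [tri, shift, hcon.1, hcon.2, hd2, hd3]⟩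
    have h' := isTri_shift h (-t₀)
    rwa [hd, shift_shift, neg_add_cancel, shift_zero] at h'
  let Φ : F × Fˣ × Fˣ → (Fin 4 → F) := fun p => shift p.1 (sc p.2.1 p.2.2 d)
  have hfib : ∀ y ∈ Finset.univ.image Φ, #{p | Φ p = y} ≤ 3 := by
    intro y hy
    simp only [Finset.mem_image, Finset.mem_univ, true_and] at hy
    obtain ⟨p₀, rfl⟩ := hy
    have key : ∀ p, Φ p = Φ p₀ → p.1 = p₀.1 ∧ p.2.1 * p.2.2 ^ 3 = p₀.2.1 * p₀.2.2 ^ 3 ∧
        (d 1 ≠ 0 → p.2.1 * p.2.2 = p₀.2.1 * p₀.2.2) ∧ (d 0 ≠ 0 → d 1 = 0 → p.2.1 = p₀.2.1) := by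
      intro p h
      have e3 := congrFun h 3
      have e2 := congrFun h 2
      have e1 := congrFun h 1
      have e0 := congrFun h 0
      simp [Φ, shift, sc, hd2, hd3, hl13] at e3 e2
      rw [e3] at e2
      have hne : (p₀.2.1 : F) * (p₀.2.2 : F) ^ 3 * l₁ 3 ≠ 0 :=
        mul_ne_zero (mul_ne_zero (Units.ne_zero _) (pow_ne_zero _ (Units.ne_zero _))) hl13
      have et : p.1 = p₀.1 := mul_left_cancel₀ h3 (mul_right_cancel₀ hne e2)
      refine ⟨et, Units.ext (by simpa using e3), fun h1 => ?_, fun h0 h1 => ?_⟩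
      · simp [Φ, shift, sc, hd2, hd3, et, e3] at e1
        exact Units.ext (by simpa using e1.resolve_right h1)
      · simp [Φ, shift, sc, hd2, hd3, et, e3, h1] at e0
        exact Units.ext (by simpa using e0.resolve_right h0)
    by_cases h1 : d 1 = 0
    · have h0 : d 0 ≠ 0 := hAB.resolve_left (not_not.mpr h1)
      refine le_trans (Finset.card_le_card_of_injOn (t := (Polynomial.nthRoots 3 ((p₀.2.2 : F) ^ 3)).toFinset)
        (fun p => (p.2.2 : F)) ?_ ?_) ((Multiset.toFinset_card_le _).trans (Polynomial.card_nthRoots _ _))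
      · intro p hp
        simp only [Finset.coe_filter, Finset.mem_univ, true_and, Set.mem_setOf_eq] at hp
        obtain ⟨-, e3, -, e0⟩ := key p hp
        rw [e0 h0 h1] at e3
        simpa [Polynomial.mem_nthRoots] using congrArg Units.val (mul_left_cancel e3)
      · intro p hp p' hp' he
        simp only [Finset.coe_filter, Finset.mem_univ, true_and, Set.mem_setOf_eq] at hp hp'
        obtain ⟨a, -, -, a0⟩ := key p hp
        obtain ⟨b, -, -, b0⟩ := key p' hp'
        exact Prod.ext (a.trans b.symm) (Prod.ext ((a0 h0 h1).trans (b0 h0 h1).symm) (Units.ext he))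
    · refine le_trans (Finset.card_le_card_of_injOn (t := (Polynomial.nthRoots 2 ((p₀.2.2 : F) ^ 2)).toFinset)
        (fun p => (p.2.2 : F)) ?_ ?_) (((Multiset.toFinset_card_le _).trans (Polynomial.card_nthRoots _ _)).trans
          (by norm_num))
      · intro p hp
        simp only [Finset.coe_filter, Finset.mem_univ, true_and, Set.mem_setOf_eq] at hp
        obtain ⟨-, e3, e1, -⟩ := key p hp
        rw [pow_succ' p.2.2 2, pow_succ' p₀.2.2 2, ← mul_assoc, ← mul_assoc, e1 h1] at e3
        simpa [Polynomial.mem_nthRoots] using congrArg Units.val (mul_left_cancel e3)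
      · intro p hp p' hp' he
        simp only [Finset.coe_filter, Finset.mem_univ, true_and, Set.mem_setOf_eq] at hp hp'
        obtain ⟨a, -, a1, -⟩ := key p hp
        obtain ⟨b, -, b1, -⟩ := key p' hp'
        have e := (a1 h1).trans (b1 h1).symm
        rw [Units.ext he] at e
        exact Prod.ext (a.trans b.symm) (Prod.ext (mul_right_cancel e) (Units.ext he))
  have hcard := Finset.card_le_mul_card_image Finset.univ 3 hfib
  rw [Finset.card_univ, Fintype.card_prod, Fintype.card_prod, Fintype.card_units, ← sq] at hcard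
  have hsum : #(Finset.univ.image Φ) • 1 ≤ ∑ x ∈ Finset.univ.image Φ, r x := by
    refine Finset.card_nsmul_le_sum _ _ _ fun x hx => ?_
    simp only [Finset.mem_image, Finset.mem_univ, true_and] at hx
    obtain ⟨p, rfl⟩ := hx
    rw [hr.shift, hr.sc, hrd]
    omega
  rw [smul_eq_mul, mul_one] at hsum
  refine hcard.trans (Nat.mul_le_mul_left 3 (hsum.trans (Finset.sum_le_sum_of_subset ?_)))
  intro x hx
  simp only [Finset.mem_image, Finset.mem_univ, true_and] at hx
  obtain ⟨p, rfl⟩ := hx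
  refine Finset.mem_erase.mpr ⟨fun h => ?_, Finset.mem_univ _⟩
  have := congrFun h 3
  simp [Φ, shift, sc, hd3, hl13] at this

/-- The weight off zero is at least `q² - 1`; near that value it lives on the triple cubics only. -/
theorem cubic_total (h3 : (3 : F) ≠ 0) (hq : 5 ≤ Fintype.card F) (hex : ∃ l, l ≠ 0 ∧ r l ≠ 0) :
    (Fintype.card F + 1) * (Fintype.card F - 1) ≤ ∑ x ∈ Finset.univ.erase (0 : Fin 4 → F), r x ∧
    (∑ x ∈ Finset.univ.erase (0 : Fin 4 → F), r x ≤ Fintype.card F ^ 2 →
      r ![0, 0, 0, 1] = 1 ∧ ∀ l, l ≠ 0 → r l ≠ 0 → IsTri l) := by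
  classical
  obtain ⟨l, hl0, hrl⟩ := hex
  set q := Fintype.card F with hqdef
  set S := ∑ x ∈ Finset.univ.erase (0 : Fin 4 → F), r x with hS
  obtain ⟨w, hw⟩ : ∃ w, q = w + 5 := ⟨q - 5, by omega⟩
  have e1 : q - 1 = w + 4 := by omega
  have htri : (q + 1) * (q - 1) * r ![0, 0, 0, 1] ≤ S := by
    rw [hqdef, sum_tri hr h3]
    exact Finset.sum_le_sum_of_subset fun x hx =>
      Finset.mem_erase.mpr ⟨fun h => zero_not_tri (h ▸ hx), Finset.mem_univ _⟩
  constructor
  · by_cases ht : IsTri l
    · obtain ⟨p, rfl⟩ := ht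
      rw [r_tri hr] at hrl
      exact le_trans (Nat.le_mul_of_pos_right _ (Nat.pos_of_ne_zero hrl)) htri
    · have h := nontri_bound hr h3 (by omega) hl0 ht hrl
      rw [← hS, ← hqdef, e1, hw] at h
      rw [e1, hw]
      nlinarith
  · intro hle
    have hall : ∀ l', l' ≠ 0 → r l' ≠ 0 → IsTri l' := by
      intro l' h0 h1
      by_contra ht
      have h := nontri_bound hr h3 (by omega) h0 ht h1
      rw [← hS, ← hqdef, e1] at h
      rw [hw] at h hle
      nlinarith
    refine ⟨?_, hall⟩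
    obtain ⟨p, rfl⟩ := hall l hl0 hrl
    rw [r_tri hr] at hrl
    rw [e1, hw] at htri
    rw [hw] at hle
    by_contra hne
    have h2 : 2 ≤ r ![0, 0, 0, 1] := by omega
    have h3' := le_trans (Nat.mul_le_mul_left ((w + 5 + 1) * (w + 4)) h2) htri
    nlinarith [h3', hle]

end CfsgLib.GTwoDeg
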