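import Cfsg.Agent.Lib.SLMinDeg.Fourier

set_option autoImplicit false
set_option linter.unusedSectionVars false

/-!
Eigenspace projections of an additive family of operators `T : F^κ → End V` (`T 0` any idempotent).
-/

namespace CfsgLib.GTwoDeg

open Matrix CfsgLib.KnownSimple.ModulePerm CfsgLib.SLMinDeg

variable {V : Type*} [AddCommGroup V] [Module ℂ V]
variable {F : Type*} [Field F] [Fintype F] {κ : Type*} [Fintype κ] [DecidableEq κ] [DecidableEq F]

/-- The projection on the `ψ`-part of `T`. -/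
noncomputable def pr (T : (κ → F) → Module.End ℂ V) (ψ : κ → F) : Module.End ℂ V :=
  ((Fintype.card F : ℂ) ^ Fintype.card κ)⁻¹ • ∑ w, chi F (-(ψ ⬝ᵥ w)) • T w

variable {T : (κ → F) → Module.End ℂ V} (hT : ∀ v w, T v * T w = T (v + w))

include hT

theorem T_zero_idem : T 0 * T 0 = T 0 := by rw [hT, add_zero]

theorem T_mul_pr (v ψ : κ → F) : T v * pr T ψ = chi F (ψ ⬝ᵥ v) • pr T ψ := by
  simp only [pr, Finset.mul_sum, mul_smul_comm, Finset.smul_sum, smul_smul]
  refine Fintype.sum_equiv (Equiv.addLeft v) _ _ fun w => ?_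
  rw [hT, Equiv.coe_addLeft]
  congr 1
  rw [mul_left_comm, ← AddChar.map_add_eq_mul, dotProduct_add]
  ring_nf

theorem pr_mul_T (v ψ : κ → F) : pr T ψ * T v = chi F (ψ ⬝ᵥ v) • pr T ψ := by
  rw [← T_mul_pr hT]
  simp only [pr, Finset.mul_sum, Finset.sum_mul, mul_smul_comm, smul_mul_assoc, hT, add_comm]

theorem pr_mul_pr (ψ φ : κ → F) : pr T ψ * pr T φ = if ψ = φ then pr T ψ else 0 := by
  conv_lhs => arg 1; rw [pr]
  rw [smul_mul_assoc, Finset.sum_mul]
  simp only [smul_mul_assoc, T_mul_pr hT, smul_smul, ← Finset.sum_smul, ← AddChar.map_add_eq_mul]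
  have : ∀ w : κ → F, -(ψ ⬝ᵥ w) + φ ⬝ᵥ w = (φ - ψ) ⬝ᵥ w := fun w => by rw [sub_dotProduct]; ring
  simp only [this, sum_chi, sub_eq_zero, eq_comm (a := φ)]
  split_ifs with h
  · rw [h, inv_mul_cancel₀ card_fun_ne_zero, one_smul]
  · simp

omit hT in
theorem sum_pr : ∑ ψ : κ → F, pr T ψ = T 0 := by
  simp only [pr, ← Finset.smul_sum]
  rw [Finset.sum_comm]
  simp only [← Finset.sum_smul, ← neg_dotProduct]
  rw [Finset.sum_eq_single (0 : κ → F)]
  · rw [show ∑ ψ : κ → F, chi F (-ψ ⬝ᵥ 0) = (Fintype.card F : ℂ) ^ Fintype.card κ by simp,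
      smul_smul, inv_mul_cancel₀ card_fun_ne_zero, one_smul]
  · intro w _ hw
    rw [Fintype.sum_equiv (Equiv.neg _) (fun ψ => chi F (-ψ ⬝ᵥ w)) (fun ψ => chi F (ψ ⬝ᵥ w))
      (fun ψ => rfl), sum_chi_left, if_neg hw, zero_smul]
  · simp

theorem T_eq_sum (v : κ → F) : T v = ∑ ψ : κ → F, chi F (ψ ⬝ᵥ v) • pr T ψ := by
  conv_lhs => rw [show v = v + 0 from (add_zero v).symm, ← hT, ← sum_pr (T := T), Finset.mul_sum]
  exact Finset.sum_congr rfl fun ψ _ => T_mul_pr hT v ψ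

omit hT in
/-- Operators permuting the family permute the projections. -/
theorem mul_pr_of_perm {X : Module.End ℂ V} (A : (κ → F) ≃ (κ → F)) (hX : ∀ w, X * T w = T (A w) * X)
    (ψ φ : κ → F) (hψ : ∀ w, ψ ⬝ᵥ A w = φ ⬝ᵥ w) : X * pr T φ = pr T ψ * X := by
  simp only [pr, mul_smul_comm, smul_mul_assoc, Finset.mul_sum, Finset.sum_mul]
  congr 1
  refine Fintype.sum_equiv A _ _ fun w => ?_
  rw [hX, hψ]

omit hT in
theorem pr_commute {X : Module.End ℂ V} (hX : ∀ w, Commute X (T w)) (ψ : κ → F) : Commute X (pr T ψ) :=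
  mul_pr_of_perm (Equiv.refl _) (fun w => (hX w).eq) ψ ψ fun _ => rfl

omit hT in
theorem pr_absorb {X : Module.End ℂ V} (hX : ∀ w, X * T w = T w) (ψ : κ → F) : X * pr T ψ = pr T ψ := by
  simp only [pr, mul_smul_comm, Finset.mul_sum, hX]

variable [FiniteDimensional ℂ V]

omit hT in
/-- The multiplicity of `ψ`. -/
noncomputable def mult (T : (κ → F) → Module.End ℂ V) (ψ : κ → F) : ℕ :=
  Module.finrank ℂ (LinearMap.range (pr T ψ))

theorem mult_eq (ψ : κ → F) : (mult T ψ : ℂ) = LinearMap.trace ℂ V (pr T ψ) :=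
  (trace_eq_finrank_range _ (by rw [pr_mul_pr hT, if_pos rfl])).symm

omit hT in
theorem pr_eq_zero {ψ : κ → F} (h : mult T ψ = 0) : pr T ψ = 0 :=
  LinearMap.range_eq_bot.mp (Submodule.finrank_eq_zero.mp h)

omit hT in
theorem mult_ne_zero {ψ : κ → F} (h : pr T ψ ≠ 0) : mult T ψ ≠ 0 := fun h' => h (pr_eq_zero h')

theorem trace_T (v : κ → F) :
    LinearMap.trace ℂ V (T v) = ∑ ψ : κ → F, chi F (ψ ⬝ᵥ v) * (mult T ψ : ℂ) := by
  rw [T_eq_sum hT v, map_sum]
  refine Finset.sum_congr rfl fun ψ _ => ?_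
  rw [map_smul, smul_eq_mul, mult_eq hT]

theorem trace_T_zero : LinearMap.trace ℂ V (T 0) = ((∑ ψ : κ → F, mult T ψ : ℕ) : ℂ) := by
  rw [trace_T hT]; simp

/-- Multiplicities are carried along by invertible operators. -/
theorem mult_perm {X Y : Module.End ℂ V} (hYX : Y * X = 1) (A : (κ → F) ≃ (κ → F))
    (hX : ∀ w, X * T w = T (A w) * X) (ψ φ : κ → F) (hψ : ∀ w, ψ ⬝ᵥ A w = φ ⬝ᵥ w) :
    mult T φ = mult T ψ := by
  have h := mul_pr_of_perm A hX ψ φ hψ
  have e : pr T φ = Y * (pr T ψ * X) := by rw [← h, ← mul_assoc, hYX, one_mul]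
  have hXY : X * Y = 1 := mul_eq_one_comm.mp hYX
  have h' : (mult T φ : ℂ) = (mult T ψ : ℂ) := by
    rw [mult_eq hT, mult_eq hT, e, LinearMap.trace_mul_comm, mul_assoc, hXY, mul_one]
  exact_mod_cast h'

omit hT in
/-- An idempotent absorbing `E` from the left has range at least as large. -/
theorem range_le {P E : Module.End ℂ V} (h1 : P * E = E) :
    Module.finrank ℂ (LinearMap.range E) ≤ Module.finrank ℂ (LinearMap.range P) := by
  refine Submodule.finrank_mono ?_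
  rintro _ ⟨x, rfl⟩
  exact ⟨E x, by rw [← Module.End.mul_apply, h1]⟩

end CfsgLib.GTwoDeg
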