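import Cfsg.Agent.Lib.GTwoDeg.Rel
import Cfsg.Agent.Lib.GTwoDeg.Pr
import Cfsg.Agent.Lib.GTwoDeg.Cubic
import Cfsg.Agent.S1055

set_option autoImplicit false
set_option linter.unusedSectionVars false

/-!
The weights of a representation of `G₂(F)` on the radical of the parabolic of the long root, and the
identity coming from the conjugacy of the long root groups.
-/

namespace CfsgLib.GTwoDeg

open Cfsg.Lie CfsgLib.ChevStr Matrix CfsgLib.KnownSimple.ModulePerm CfsgLib.SLMinDeg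

variable {F : Type*} [Field F] [Fintype F] [DecidableEq F]
variable {V : Type*} [AddCommGroup V] [Module ℂ V] (ρ : Representation ℂ (G2g F) V)

/-- The average over a root group. -/
noncomputable def avg (r : ℕ) : Module.End ℂ V := (Fintype.card F : ℂ)⁻¹ • ∑ t : F, ρ (X r t)

theorem X_mul_avg (r : ℕ) (t : F) : ρ (X r t) * avg ρ r = avg ρ r := by
  rw [avg, mul_smul_comm, Finset.mul_sum]
  congr 1
  exact Fintype.sum_equiv (Equiv.addLeft t) _ _ fun u => by rw [← map_mul, ← X_add, Equiv.coe_addLeft]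

theorem avg_mul_X (r : ℕ) (t : F) : avg ρ r * ρ (X r t) = avg ρ r := by
  rw [avg, smul_mul_assoc, Finset.sum_mul]
  congr 1
  exact Fintype.sum_equiv (Equiv.addRight t) _ _ fun u => by rw [← map_mul, ← X_add, Equiv.coe_addRight]

theorem avg_idem (r : ℕ) : avg ρ r * avg ρ r = avg ρ r := by
  conv_lhs => arg 1; rw [avg]
  rw [smul_mul_assoc, Finset.sum_mul]
  simp only [X_mul_avg, Finset.sum_const, Finset.card_univ, ← Nat.cast_smul_eq_nsmul ℂ, smul_smul,
    inv_mul_cancel₀ (Nat.cast_ne_zero.mpr (Fintype.card_ne_zero (α := F)) : (Fintype.card F : ℂ) ≠ 0), one_smul]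

theorem commute_avg {g : G2g F} {r : ℕ} (h : ∀ t : F, Commute g (X r t)) : Commute (ρ g) (avg ρ r) := by
  rw [avg]
  exact (Commute.sum_right _ _ _ fun t _ => by
    show _ * _ = _ * _
    rw [← map_mul, ← map_mul, (h t).eq]).smul_right _

theorem conj_avg {g : G2g F} {r r' : ℕ} (e : F ≃ F) (h : ∀ t, g * X r t * g⁻¹ = X r' (e t)) :
    ρ g * avg ρ r = avg ρ r' * ρ g := by
  rw [avg, avg, mul_smul_comm, smul_mul_assoc, Finset.mul_sum, Finset.sum_mul]
  congr 1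
  refine Fintype.sum_equiv e _ _ fun t => ?_
  rw [← map_mul, ← map_mul, ← h t, inv_mul_cancel_right]

theorem rho_inv_mul (g : G2g F) : ρ g⁻¹ * ρ g = 1 := by rw [← map_mul, inv_mul_cancel, map_one]

theorem rho_mul_inv (g : G2g F) : ρ g * ρ g⁻¹ = 1 := by rw [← map_mul, mul_inv_cancel, map_one]

theorem trace_conj [FiniteDimensional ℂ V] {g : G2g F} {A B : Module.End ℂ V} (h : ρ g * A = B * ρ g) :
    LinearMap.trace ℂ V A = LinearMap.trace ℂ V B := by
  have e : A = ρ g⁻¹ * (B * ρ g) := by rw [← h, ← mul_assoc, rho_inv_mul, one_mul]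
  rw [e, LinearMap.trace_mul_comm, mul_assoc, rho_mul_inv, mul_one]

/-! ### The corner of the fixed space of the centre -/

/-- The projection on the fixed space of `X₁₁`. -/
noncomputable def eZ : Module.End ℂ V := avg ρ 11

theorem eZ_idem : eZ ρ * eZ ρ = eZ ρ := avg_idem ρ 11

theorem z_eZ (t : F) : ρ (X 11 t) * eZ ρ = eZ ρ := X_mul_avg ρ 11 t

theorem rad_commute {r : ℕ} (hr : r ∈ [6, 8, 9, 10]) (t : F) : Commute (ρ (X r t)) (eZ ρ) := by
  refine commute_avg ρ fun s => ?_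
  simp only [List.mem_cons, List.not_mem_nil, or_false] at hr
  rcases hr with rfl | rfl | rfl | rfl <;> exact (comm_pair (by simp) s t).symm

/-- A root element of the radical in the corner. -/
noncomputable def A (r : ℕ) (t : F) : Module.End ℂ V := ρ (X r t) * eZ ρ

theorem A_zero (r : ℕ) : A ρ r 0 = eZ ρ := by rw [A, X_zero, map_one, one_mul]

theorem A_eZ (r : ℕ) (t : F) : A ρ r t * eZ ρ = A ρ r t := by rw [A, mul_assoc, eZ_idem]

theorem eZ_A {r : ℕ} (hr : r ∈ [6, 8, 9, 10]) (t : F) : eZ ρ * A ρ r t = A ρ r t := by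
  rw [A, ← mul_assoc, ← (rad_commute ρ hr t).eq, mul_assoc, eZ_idem]

theorem A_mul {r s : ℕ} (hs : s ∈ [6, 8, 9, 10]) (a b : F) :
    A ρ r a * A ρ s b = ρ (X r a * X s b) * eZ ρ := by
  rw [A, A, map_mul, mul_assoc (ρ (X r a)) (eZ ρ), ← mul_assoc (eZ ρ), ← (rad_commute ρ hs b).eq,
    mul_assoc (ρ (X s b)), eZ_idem, ← mul_assoc]

theorem A_add {r : ℕ} (hr : r ∈ [6, 8, 9, 10]) (a b : F) : A ρ r a * A ρ r b = A ρ r (a + b) := by
  rw [A_mul ρ hr, ← X_add]; rfl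

theorem swap_eZ {g h : G2g F} {c : F} (hg : Commute (ρ g) (eZ ρ)) (e : g * h * g⁻¹ = h * X 11 c) :
    ρ (g * h) * eZ ρ = ρ (h * g) * eZ ρ := by
  rw [mul_inv_eq_iff_eq_mul] at e
  rw [e, map_mul, map_mul, map_mul, mul_assoc (ρ h * ρ (X 11 c)), hg.eq, mul_assoc (ρ h) (ρ (X 11 c)),
    ← mul_assoc (ρ (X 11 c)), z_eZ, mul_assoc (ρ h), hg.eq]

theorem A_comm {r s : ℕ} (hr : r ∈ [6, 8, 9, 10]) (hs : s ∈ [6, 8, 9, 10]) (a b : F) :
    Commute (A ρ r a) (A ρ s b) := by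
  have hbe : ∀ a b : F, ρ (X 6 a * X 10 b) * eZ ρ = ρ (X 10 b * X 6 a) * eZ ρ := fun a b =>
    swap_eZ ρ (rad_commute ρ (by simp) a) (b_e a b)
  have hcd : ∀ a b : F, ρ (X 8 a * X 9 b) * eZ ρ = ρ (X 9 b * X 8 a) * eZ ρ := fun a b =>
    swap_eZ ρ (rad_commute ρ (by simp) a) (c_d a b)
  show _ * _ = _ * _
  rw [A_mul ρ hs, A_mul ρ hr]
  simp only [List.mem_cons, List.not_mem_nil, or_false] at hr hs
  rcases hr with rfl | rfl | rfl | rfl <;> rcases hs with rfl | rfl | rfl | rfl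
  all_goals first
    | exact hbe a b
    | exact (hbe b a).symm
    | exact hcd a b
    | exact (hcd b a).symm
    | rw [← X_add, ← X_add, add_comm]
    | rw [(comm_pair (r := 6) (s := 8) (by simp) a b).eq]
    | rw [(comm_pair (r := 6) (s := 8) (by simp) b a).eq]
    | rw [(comm_pair (r := 6) (s := 9) (by simp) a b).eq]
    | rw [(comm_pair (r := 6) (s := 9) (by simp) b a).eq]
    | rw [(comm_pair (r := 8) (s := 10) (by simp) a b).eq]
    | rw [(comm_pair (r := 8) (s := 10) (by simp) b a).eq]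
    | rw [(comm_pair (r := 9) (s := 10) (by simp) a b).eq]
    | rw [(comm_pair (r := 9) (s := 10) (by simp) b a).eq]

theorem A_eleven (t : F) : A ρ 11 t = eZ ρ := z_eZ ρ t

/-- The elements of the radical modulo the centre, in coordinates. -/
noncomputable def T4 (w : Fin 4 → F) : Module.End ℂ V :=
  A ρ 6 (w 0) * A ρ 8 (-w 1) * A ρ 9 (w 2) * A ρ 10 (w 3)

theorem T4_add (v w : Fin 4 → F) : T4 ρ v * T4 ρ w = T4 ρ (v + w) := by
  have c1 : Commute (A ρ 10 (v 3)) (A ρ 6 (w 0) * A ρ 8 (-w 1) * A ρ 9 (w 2)) :=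
    ((A_comm ρ (by simp) (by simp) _ _).mul_right (A_comm ρ (by simp) (by simp) _ _)).mul_right
      (A_comm ρ (by simp) (by simp) _ _)
  have c2 : Commute (A ρ 9 (v 2)) (A ρ 6 (w 0) * A ρ 8 (-w 1)) :=
    (A_comm ρ (by simp) (by simp) _ _).mul_right (A_comm ρ (by simp) (by simp) _ _)
  have c3 : Commute (A ρ 8 (-v 1)) (A ρ 6 (w 0)) := A_comm ρ (by simp) (by simp) _ _
  simp only [T4, Pi.add_apply, neg_add, ← A_add ρ (show (6 : ℕ) ∈ [6, 8, 9, 10] by simp),
    ← A_add ρ (show (8 : ℕ) ∈ [6, 8, 9, 10] by simp), ← A_add ρ (show (9 : ℕ) ∈ [6, 8, 9, 10] by simp),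
    ← A_add ρ (show (10 : ℕ) ∈ [6, 8, 9, 10] by simp)]
  rw [c1.mul_mul_mul_comm, c2.mul_mul_mul_comm, c3.mul_mul_mul_comm]

theorem T4_zero : T4 ρ 0 = eZ ρ := by
  simp only [T4, Pi.zero_apply, neg_zero, A_zero, eZ_idem]

theorem eZ_T4 (w : Fin 4 → F) : eZ ρ * T4 ρ w = T4 ρ w := by rw [← T4_zero ρ, T4_add, zero_add]

theorem T4_eZ (w : Fin 4 → F) : T4 ρ w * eZ ρ = T4 ρ w := by rw [← T4_zero ρ, T4_add, add_zero]

theorem T4_single (u : F) : T4 ρ ![u, 0, 0, 0] = ρ (X 6 u) * eZ ρ := by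
  simp [T4, A_zero, A_eZ]
  rfl

/-- Conjugation of a corner element. -/
theorem conj_A {g : G2g F} (hg : Commute (ρ g) (eZ ρ)) {r : ℕ} {t : F} {y : G2g F}
    (h : g * X r t * g⁻¹ = y) : ρ g * A ρ r t = ρ y * eZ ρ * ρ g := by
  rw [A, ← mul_assoc, ← map_mul, mul_assoc, ← hg.eq, ← mul_assoc, ← map_mul, ← h, inv_mul_cancel_right]

theorem rho_word {r : ℕ} (hr : r ∈ [6, 8, 9, 10]) (t : F) (g : G2g F) :
    ρ (g * X r t) * eZ ρ = ρ g * eZ ρ * A ρ r t := by
  rw [A, map_mul, mul_assoc (ρ g), mul_assoc, ← mul_assoc (eZ ρ), ← (rad_commute ρ hr t).eq, mul_assoc, eZ_idem]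

/-- The centre of the radical is invariant. -/
theorem a_commute_eZ (t : F) : Commute (ρ (X 7 t)) (eZ ρ) :=
  commute_avg ρ fun s => (comm_pair (by simp) s t).symm

theorem shift_T4 (t : F) (w : Fin 4 → F) :
    ρ (X 7 t) * T4 ρ w = T4 ρ ![w 0, w 1 + t * w 0, w 2 + t ^ 2 * w 0 + 2 * t * w 1,
      w 3 + t ^ 3 * w 0 + 3 * t ^ 2 * w 1 + 3 * t * w 2] * ρ (X 7 t) := by
  have hc := a_commute_eZ ρ t
  have h6 : ρ (X 7 t) * A ρ 6 (w 0) = T4 ρ ![w 0, t * w 0, t ^ 2 * w 0, t ^ 3 * w 0] * ρ (X 7 t) := by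
    rw [conj_A ρ hc (a_b t (w 0)), map_mul, mul_assoc (ρ _) (ρ (X 11 _)), z_eZ,
      rho_word ρ (show (10 : ℕ) ∈ [6, 8, 9, 10] by simp), rho_word ρ (show (9 : ℕ) ∈ [6, 8, 9, 10] by simp),
      rho_word ρ (show (8 : ℕ) ∈ [6, 8, 9, 10] by simp)]
    rfl
  have h8 : ρ (X 7 t) * A ρ 8 (-w 1) = T4 ρ ![0, w 1, 2 * t * w 1, 3 * t ^ 2 * w 1] * ρ (X 7 t) := by
    rw [conj_A ρ hc (a_c t (-w 1)), map_mul, mul_assoc (ρ _) (ρ (X 11 _)), z_eZ,
      rho_word ρ (show (10 : ℕ) ∈ [6, 8, 9, 10] by simp), rho_word ρ (show (9 : ℕ) ∈ [6, 8, 9, 10] by simp)]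
    simp [T4, A_zero, eZ_A ρ (show (8 : ℕ) ∈ [6, 8, 9, 10] by simp)]
    rfl
  have h9 : ρ (X 7 t) * A ρ 9 (w 2) = T4 ρ ![0, 0, w 2, 3 * t * w 2] * ρ (X 7 t) := by
    rw [conj_A ρ hc (a_d t (w 2)), rho_word ρ (show (10 : ℕ) ∈ [6, 8, 9, 10] by simp)]
    simp [T4, A_zero, eZ_idem, eZ_A ρ (show (9 : ℕ) ∈ [6, 8, 9, 10] by simp)]
    rfl
  have h10 : ρ (X 7 t) * A ρ 10 (w 3) = T4 ρ ![0, 0, 0, w 3] * ρ (X 7 t) := by
    rw [conj_A ρ hc (mul_inv_eq_iff_eq_mul.mpr (a_e t (w 3)).eq)]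
    simp [T4, A_zero, eZ_idem, eZ_A ρ (show (10 : ℕ) ∈ [6, 8, 9, 10] by simp)]
    rfl
  rw [T4, ← mul_assoc, ← mul_assoc, ← mul_assoc, h6, mul_assoc (T4 ρ _) (ρ (X 7 t)), h8, ← mul_assoc, T4_add,
    mul_assoc (T4 ρ _) (ρ (X 7 t)), h9, ← mul_assoc, T4_add, mul_assoc (T4 ρ _) (ρ (X 7 t)), h10, ← mul_assoc,
    T4_add]
  congr 2
  funext i
  fin_cases i <;> simp <;> ring

theorem torus_commute_eZ (a b : Fˣ) : Commute (ρ (H a b)) (eZ ρ) :=
  conj_avg ρ (Equiv.mulLeft₀ (wt a b 11 : F) (Units.ne_zero _)) fun t => H_conj a b (by norm_num) t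

theorem NA_commute_eZ : Commute (ρ (N iA)) (eZ ρ) := conj_avg ρ (Equiv.refl F) fun t => NA_11 t

theorem torus_T4 (a b : Fˣ) (w : Fin 4 → F) : ρ (H a b) * T4 ρ w =
    T4 ρ ![(wt a b 6 : F) * w 0, (wt a b 8 : F) * w 1, (wt a b 9 : F) * w 2, (wt a b 10 : F) * w 3] * ρ (H a b) := by
  have h : ∀ (r : ℕ) (t : F), r < 12 → ρ (H a b) * A ρ r t = A ρ r ((wt a b r : F) * t) * ρ (H a b) :=
    fun r t hr => conj_A ρ (torus_commute_eZ ρ a b) (H_conj a b hr t)
  rw [T4, ← mul_assoc, ← mul_assoc, ← mul_assoc, h 6 _ (by norm_num), mul_assoc _ (ρ (H a b)), h 8 _ (by norm_num),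
    ← mul_assoc, mul_assoc _ (ρ (H a b)), h 9 _ (by norm_num), ← mul_assoc, mul_assoc _ (ρ (H a b)),
    h 10 _ (by norm_num), ← mul_assoc, T4]
  simp

theorem NA_T4 (w : Fin 4 → F) : ρ (N iA) * T4 ρ w = T4 ρ ![-w 3, w 2, -w 1, w 0] * ρ (N iA) := by
  have h : ∀ {r r' : ℕ} {t t' : F}, N iA * X r t * (N iA)⁻¹ = X r' t' →
      ρ (N iA) * A ρ r t = A ρ r' t' * ρ (N iA) := fun h => conj_A ρ (NA_commute_eZ ρ) h
  rw [T4, ← mul_assoc, ← mul_assoc, ← mul_assoc, h (NA_6 _), mul_assoc _ (ρ (N iA)), h (NA_8 _), ← mul_assoc,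
    mul_assoc _ (ρ (N iA)), h (NA_9 _), ← mul_assoc, mul_assoc _ (ρ (N iA)), h (NA_10 _), ← mul_assoc]
  congr 1
  have c1 : Commute (A ρ 10 (w 0)) (A ρ 9 (-w 1)) := A_comm ρ (by simp) (by simp) _ _
  have c2 : Commute (A ρ 10 (w 0) * A ρ 9 (-w 1) * A ρ 8 (-w 2)) (A ρ 6 (-w 3)) :=
    ((A_comm ρ (by simp) (by simp) _ _).mul_left (A_comm ρ (by simp) (by simp) _ _)).mul_left
      (A_comm ρ (by simp) (by simp) _ _)
  have c3 : Commute (A ρ 9 (-w 1) * A ρ 10 (w 0)) (A ρ 8 (-w 2)) :=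
    (A_comm ρ (by simp) (by simp) _ _).mul_left (A_comm ρ (by simp) (by simp) _ _)
  rw [c2.eq, c1.eq, c3.eq]
  simp [T4, mul_assoc]

variable [FiniteDimensional ℂ V]

/-- The weights. -/
noncomputable def r4 (l : Fin 4 → F) : ℕ := mult (T4 ρ) l

theorem cubicInv : CubicInv (r4 ρ) := by
  refine ⟨fun t l => ?_, fun l => ?_, fun μ α l => ?_⟩
  · refine mult_perm (T4_add ρ) (Y := ρ (X 7 (-t))) (X := ρ (X 7 t))
      (by rw [← map_mul, ← X_add, neg_add_cancel, X_zero, map_one])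
      (Equiv.ofBijective (fun w => ![w 0, w 1 + t * w 0, w 2 + t ^ 2 * w 0 + 2 * t * w 1,
        w 3 + t ^ 3 * w 0 + 3 * t ^ 2 * w 1 + 3 * t * w 2]) (Finite.injective_iff_bijective.mp fun v w h => ?_))
      (shift_T4 ρ t) l (shift t l) fun w => ?_
    · have e0 : v 0 = w 0 := congrFun h 0
      have e1 : v 1 = w 1 := by have := congrFun h 1; simpa [e0] using this
      have e2 : v 2 = w 2 := by have := congrFun h 2; simpa [e0, e1] using this
      have e3 : v 3 = w 3 := by have := congrFun h 3; simpa [e0, e1, e2] using this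
      funext i; fin_cases i <;> assumption
    · simp [dotProduct, Fin.sum_univ_four, shift]; ring
  · refine mult_perm (T4_add ρ) (Y := ρ (N iA)⁻¹) (X := ρ (N iA)) (rho_inv_mul ρ _)
      (Equiv.ofBijective (fun w => ![-w 3, w 2, -w 1, w 0]) (Finite.injective_iff_bijective.mp fun v w h => ?_))
      (NA_T4 ρ) l (rev l) fun w => ?_
    · have e3 := congrFun h 0
      have e2 := congrFun h 1
      have e1 := congrFun h 2
      have e0 := congrFun h 3
      simp at e0 e1 e2 e3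
      funext i; fin_cases i <;> assumption
    · simp [dotProduct, Fin.sum_univ_four, rev]; ring
  · set a : Fˣ := μ * α ^ 2 with ha
    set b : Fˣ := μ ^ 2 * α ^ 3 with hb
    obtain ⟨⟨w6, w8, w9, w10, -⟩, -⟩ := wt_table a b
    refine mult_perm (T4_add ρ) (Y := ρ (H a b)⁻¹) (X := ρ (H a b)) (rho_inv_mul ρ _)
      (Equiv.ofBijective (fun w => ![(wt a b 6 : F) * w 0, (wt a b 8 : F) * w 1, (wt a b 9 : F) * w 2,
        (wt a b 10 : F) * w 3]) (Finite.injective_iff_bijective.mp fun v w h => ?_))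
      (torus_T4 ρ a b) l (sc μ α l) fun w => ?_
    · have e0 := congrFun h 0
      have e1 := congrFun h 1
      have e2 := congrFun h 2
      have e3 := congrFun h 3
      simp at e0 e1 e2 e3
      funext i; fin_cases i <;> assumption
    · have hμ : (μ : F) ≠ 0 := μ.ne_zero
      have hα : (α : F) ≠ 0 := α.ne_zero
      simp [dotProduct, Fin.sum_univ_four, sc, w6, w8, w9, w10]
      simp [ha, hb]
      field_simp

/-! ### The two long root groups `X₁₁` and `X₆` -/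

omit [FiniteDimensional ℂ V] in
/-- The centre with the long fundamental root group. -/
noncomputable def T2 (w : Fin 2 → F) : Module.End ℂ V := ρ (X 11 (w 0) * X 6 (w 1))

omit [FiniteDimensional ℂ V] in
theorem T2_add (v w : Fin 2 → F) : T2 ρ v * T2 ρ w = T2 ρ (v + w) := by
  rw [T2, T2, T2, ← map_mul, Pi.add_apply, Pi.add_apply, X_add, X_add]
  congr 1
  exact (comm_pair (r := 11) (s := 6) (by simp) (w 0) (v 1)).symm.mul_mul_mul_comm _ _

omit [FiniteDimensional ℂ V] in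
theorem T2_zero : T2 ρ 0 = 1 := by simp [T2, X_zero]

/-- The weights on the centre and the long fundamental root group. -/
noncomputable def r2 (l : Fin 2 → F) : ℕ := mult (T2 ρ) l

omit [FiniteDimensional ℂ V] in
theorem e_T2 (s : F) (w : Fin 2 → F) :
    ρ (X 10 s) * T2 ρ w = T2 ρ ![w 0 - s * w 1, w 1] * ρ (X 10 s) := by
  have e : (X 10 s * X 6 (w 1) : G2g F) = X 11 (-(s * w 1)) * X 6 (w 1) * X 10 s := by
    have h : (X 6 (w 1) * X 10 s : G2g F) = X 10 s * X 11 (w 1 * s) * X 6 (w 1) :=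
      mul_inv_eq_iff_eq_mul.mp (b_e (w 1) s)
    rw [mul_assoc (X 11 _), h, ← mul_assoc, ← mul_assoc,
      (comm_pair (r := 11) (s := 10) (by simp) (-(s * w 1)) s).eq, mul_assoc (X 10 s) (X 11 _), ← X_add,
      show -(s * w 1) + w 1 * s = 0 by ring, X_zero, mul_one]
  rw [T2, T2, ← map_mul, ← map_mul]
  congr 1
  show _ = X 11 (w 0 - s * w 1) * X 6 (w 1) * X 10 s
  rw [← mul_assoc, ← (comm_pair (r := 11) (s := 10) (by simp) (w 0) s).eq, mul_assoc, e, ← mul_assoc,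
    ← mul_assoc, ← X_add, sub_eq_add_neg]

theorem r2_shift (s : F) (l : Fin 2 → F) : r2 ρ ![l 0, l 1 - s * l 0] = r2 ρ l := by
  refine mult_perm (T2_add ρ) (Y := ρ (X 10 s)⁻¹) (X := ρ (X 10 s)) (rho_inv_mul ρ _)
    (Equiv.ofBijective (fun w => ![w 0 - s * w 1, w 1]) (Finite.injective_iff_bijective.mp fun v w h => ?_))
    (e_T2 ρ s) l ![l 0, l 1 - s * l 0] fun w => ?_
  · have e1 : v 1 = w 1 := congrFun h 1
    have e0 : v 0 = w 0 := by have := congrFun h 0; simpa [e1] using this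
    funext i; fin_cases i <;> assumption
  · simp [dotProduct, Fin.sum_univ_two]; ring

theorem r2_torus (c : Fˣ) : r2 ρ ![(c : F), 0] = r2 ρ ![1, 0] := by
  obtain ⟨⟨w6, -, -, -, w11⟩, -⟩ := wt_table (1 : Fˣ) c
  refine mult_perm (T2_add ρ) (Y := ρ (H 1 c)⁻¹) (X := ρ (H 1 c)) (rho_inv_mul ρ _)
    (Equiv.ofBijective (fun w => ![(wt 1 c 11 : F) * w 0, (wt 1 c 6 : F) * w 1])
      (Finite.injective_iff_bijective.mp fun v w h => ?_)) (fun w => ?_) ![1, 0] ![(c : F), 0] fun w => ?_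
  · have e0 := congrFun h 0
    have e1 := congrFun h 1
    simp at e0 e1
    funext i; fin_cases i <;> assumption
  · show ρ (H 1 c) * T2 ρ w = T2 ρ ![(wt 1 c 11 : F) * w 0, (wt 1 c 6 : F) * w 1] * ρ (H 1 c)
    rw [T2, T2, ← map_mul, ← map_mul]
    congr 1
    show _ = X 11 ((wt 1 c 11 : F) * w 0) * X 6 ((wt 1 c 6 : F) * w 1) * H 1 c
    rw [← H_conj 1 c (by norm_num : 11 < 12), ← H_conj 1 c (by norm_num : 6 < 12)]
    group
  · simp [dotProduct, Fin.sum_univ_two, w6, w11]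

/-- The multiplicity at a non-trivial central character. -/
noncomputable def M0 : ℕ := r2 ρ ![1, 0]

theorem r2_eq {l : Fin 2 → F} (h : l 0 ≠ 0) : r2 ρ l = M0 ρ := by
  have h1 := r2_shift ρ (l 1 / l 0) l
  rw [div_mul_cancel₀ _ h, sub_self] at h1
  rw [← h1, show ![l 0, 0] = ![((Units.mk0 _ h : Fˣ) : F), 0] from rfl, r2_torus]
  rfl

/-- The dimension of the fixed space of the centre. -/
noncomputable def D : ℕ := ∑ l, r4 ρ l

theorem trace_eZ : LinearMap.trace ℂ V (eZ ρ) = (D ρ : ℂ) := by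
  rw [← T4_zero ρ]; exact trace_T_zero (T4_add ρ)

omit [FiniteDimensional ℂ V] in
theorem avg_eq {κ : Type*} [Fintype κ] [DecidableEq κ] {T : (κ → F) → Module.End ℂ V} (i : κ) {r : ℕ}
    {E : Module.End ℂ V} (h : ∀ u, T (Pi.single i u) = ρ (X r u) * E) :
    avg ρ r * E = (Fintype.card F : ℂ)⁻¹ • ∑ u, T (Pi.single i u) := by
  simp [avg, h, smul_mul_assoc, Finset.sum_mul]

theorem trace_avg_mul {κ : Type*} [Fintype κ] [DecidableEq κ] {T : (κ → F) → Module.End ℂ V}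
    (hT : ∀ v w, T v * T w = T (v + w)) (i : κ) {r : ℕ} {E : Module.End ℂ V}
    (h : ∀ u, T (Pi.single i u) = ρ (X r u) * E) :
    LinearMap.trace ℂ V (avg ρ r * E) = ((∑ l ∈ Finset.univ.filter (fun l : κ → F => l i = 0), mult T l : ℕ) : ℂ) := by
  rw [avg_eq ρ i h, map_smul, map_sum, Finset.sum_congr rfl (fun u _ => trace_T hT (Pi.single i u)),
    Finset.sum_comm, Finset.smul_sum]
  push_cast
  rw [Finset.sum_filter]
  refine Finset.sum_congr rfl fun l _ => ?_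
  simp only [← Finset.sum_mul, dotProduct_single, smul_eq_mul]
  have hs := sum_chi (F := F) (κ := Fin 1) (fun _ => l i)
  rw [← (Equiv.funUnique (Fin 1) F).symm.sum_comp] at hs
  simp [dotProduct, Equiv.funUnique, funext_iff] at hs
  rw [hs]
  split_ifs with hl
  · rw [← mul_assoc, inv_mul_cancel₀ (Nat.cast_ne_zero.mpr Fintype.card_ne_zero), one_mul]
  · simp

theorem r2_sum (i : Fin 2) : LinearMap.trace ℂ V (avg ρ (if i = 0 then 11 else 6)) =
    ((∑ l ∈ Finset.univ.filter (fun l : Fin 2 → F => l i = 0), r2 ρ l : ℕ) : ℂ) := by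
  unfold r2
  rw [← trace_avg_mul ρ (T2_add ρ) i (E := 1) (r := if i = 0 then 11 else 6) fun u => by
    fin_cases i <;> simp [T2, X_zero], mul_one]

theorem trace_six : LinearMap.trace ℂ V (avg ρ 6) = LinearMap.trace ℂ V (eZ ρ) :=
  (trace_conj ρ (conj_avg ρ (g := N iA) (r := 6) (r' := 10) (Equiv.refl F) fun t => NA_6 t)).trans
    (trace_conj ρ (conj_avg ρ (g := N iB) (r := 10) (r' := 11) (Equiv.refl F) fun t => NB_10 t))

/-- The conjugacy of `X₁₁` and `X₆`: the weights moved by `X₆` are governed by the central weight. -/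
theorem main_identity :
    Module.finrank ℂ V = D ρ + Fintype.card F * (Fintype.card F - 1) * M0 ρ ∧
    ∑ l ∈ Finset.univ.filter (fun l : Fin 4 → F => l 0 ≠ 0), r4 ρ l = (Fintype.card F - 1) * M0 ρ := by
  classical
  have hk : Module.finrank ℂ V = ∑ l, r2 ρ l := by
    have h := trace_T_zero (T2_add ρ)
    rw [T2_zero, LinearMap.trace_one] at h
    exact_mod_cast h
  have hD : D ρ = ∑ l ∈ Finset.univ.filter (fun l : Fin 2 → F => l 0 = 0), r2 ρ l := by
    have h := r2_sum ρ 0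
    rw [if_pos rfl, show avg ρ 11 = eZ ρ from rfl, trace_eZ] at h
    exact_mod_cast h
  have h6 : D ρ = ∑ l ∈ Finset.univ.filter (fun l : Fin 2 → F => l 1 = 0), r2 ρ l := by
    have h := r2_sum ρ 1
    rw [if_neg (by decide), trace_six, trace_eZ] at h
    exact_mod_cast h
  have h46 : ∑ l ∈ Finset.univ.filter (fun l : Fin 4 → F => l 0 = 0), r4 ρ l = r2 ρ 0 := by
    have e1 := trace_avg_mul ρ (T4_add ρ) 0 (r := 6) (E := eZ ρ) fun u => by
      rw [← T4_single ρ u]; congr 1; funext j; fin_cases j <;> simp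
    have e2 : LinearMap.trace ℂ V (avg ρ 6 * eZ ρ) = (r2 ρ 0 : ℂ) := by
      have hp : pr (T2 ρ) 0 = avg ρ 6 * eZ ρ := by
        rw [pr, eZ, avg, avg, smul_mul_smul_comm, Fintype.card_fin, pow_two, mul_inv]
        congr 1
        rw [← (finTwoArrowEquiv F).symm.sum_comp, Fintype.sum_prod_type, Finset.sum_mul, Finset.sum_comm]
        refine Finset.sum_congr rfl fun y _ => ?_
        rw [Finset.mul_sum]
        refine Finset.sum_congr rfl fun x _ => ?_
        simp [T2, map_mul]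
        rw [← map_mul, ← map_mul, (comm_pair (r := 11) (s := 6) (by simp) x y).eq]
      rw [← hp, r2, mult_eq (T2_add ρ)]
    rw [e1] at e2
    exact_mod_cast e2
  have hrest : ∀ i : Fin 2, ∑ l ∈ Finset.univ.filter (fun l : Fin 2 → F => l i = 0), r2 ρ l =
      ∑ x : F, r2 ρ (if i = 0 then ![0, x] else ![x, 0]) := by
    intro i
    rw [Finset.sum_filter, ← (finTwoArrowEquiv F).symm.sum_comp, Fintype.sum_prod_type]
    fin_cases i
    · rw [Finset.sum_eq_single (0 : F) (fun a _ ha => by simp [ha]) (by simp)]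
      simp
    · refine Finset.sum_congr rfl fun a _ => ?_
      rw [Finset.sum_eq_single (0 : F) (fun b _ hb => by simp [hb]) (by simp)]
      simp
  have hd : ∑ l, r2 ρ l = D ρ + (Fintype.card F - 1) * (Fintype.card F * M0 ρ) := by
    rw [hD, hrest, ← (finTwoArrowEquiv F).symm.sum_comp, Fintype.sum_prod_type,
      ← Finset.add_sum_erase Finset.univ _ (Finset.mem_univ (0 : F))]
    congr 1
    rw [Finset.sum_congr rfl (fun a ha => Finset.sum_congr rfl (fun b _ =>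
      r2_eq ρ (show (finTwoArrowEquiv F).symm (a, b) 0 ≠ 0 by simpa using Finset.ne_of_mem_erase ha))),
      Finset.sum_const, Finset.sum_const, smul_eq_mul, smul_eq_mul, Finset.card_erase_of_mem (Finset.mem_univ _),
      Finset.card_univ]
  refine ⟨by rw [hk, hd]; ring, ?_⟩
  have hsplit := Finset.sum_filter_add_sum_filter_not Finset.univ (fun l : Fin 4 → F => l 0 = 0) (r4 ρ)
  rw [h46, show (∑ l, r4 ρ l) = D ρ from rfl, h6, hrest,
    ← Finset.add_sum_erase Finset.univ _ (Finset.mem_univ (0 : F)),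
    Finset.sum_congr rfl (fun x hx => r2_eq ρ (show (if (1 : Fin 2) = 0 then ![0, x] else ![x, 0]) 0 ≠ 0 by
      simpa using Finset.ne_of_mem_erase hx)),
    Finset.sum_const, smul_eq_mul, Finset.card_erase_of_mem (Finset.mem_univ _), Finset.card_univ,
    show (if (1 : Fin 2) = 0 then ![0, (0 : F)] else ![0, 0]) = 0 by funext i; fin_cases i <;> rfl] at hsplit
  exact Nat.add_left_cancel hsplit

omit [DecidableEq F] [FiniteDimensional ℂ V] in
theorem rho_ne_one (hq : 4 ≤ Fintype.card F) (hnt : ∃ g, ρ g ≠ 1) {r : ℕ} (hr : r < 12) {t : F} (ht : t ≠ 0) :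
    ρ (X r t) ≠ 1 := by
  obtain ⟨a, ha⟩ : ∃ a : F, a ≠ 0 ∧ a ≠ 1 := by
    classical
    obtain ⟨a, -, ha⟩ := Finset.exists_mem_notMem_of_card_lt_card (s := ({0, 1} : Finset F)) (t := Finset.univ)
      (lt_of_le_of_lt Finset.card_le_two (by rw [Finset.card_univ]; omega))
    simp only [Finset.mem_insert, Finset.mem_singleton, not_or] at ha
    exact ⟨a, ha⟩
  obtain ⟨hsimp, -⟩ := Cfsg.Agent.S1055.result ⟨a, ha⟩
  intro h
  let K : Subgroup (G2g F) := (MonoidHom.toHomUnits (ρ : G2g F →* Module.End ℂ V)).ker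
  have hmem : ∀ g, g ∈ K ↔ ρ g = 1 := fun g => by
    rw [MonoidHom.mem_ker, Units.ext_iff, MonoidHom.coe_toHomUnits, Units.val_one]
  rcases hsimp.eq_bot_or_eq_top_of_normal K (MonoidHom.normal_ker _) with hK | hK
  · have h1 : (X r t : G2g F) = 1 := by rw [← Subgroup.mem_bot, ← hK, hmem]; exact h
    exact ht ((((coreG2 F).xGL_eq_one_iff (show r < chevG2.nroots from hr)).1 (congrArg Subtype.val h1)))
  · obtain ⟨g, hg⟩ := hnt
    exact hg ((hmem g).1 (hK ▸ Subgroup.mem_top g))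

/-- The centre is not in the kernel. -/
theorem M0_pos (hq : 4 ≤ Fintype.card F) (hnt : ∃ g, ρ g ≠ 1) : 0 < M0 ρ := by
  refine Nat.pos_of_ne_zero fun hM => rho_ne_one ρ hq hnt (r := 11) (by norm_num) (t := 1) one_ne_zero ?_
  have h := T_eq_sum (T2_add ρ) ![1, 0]
  rw [show T2 ρ ![1, 0] = ρ (X 11 1) by simp [T2, X_zero]] at h
  rw [h, ← T2_zero ρ, ← sum_pr (T := T2 ρ)]
  refine Finset.sum_congr rfl fun l _ => ?_
  by_cases hl : l 0 = 0
  · simp [dotProduct, Fin.sum_univ_two, hl]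
  · rw [pr_eq_zero (show mult (T2 ρ) l = 0 from (r2_eq ρ hl).trans hM), smul_zero]

end CfsgLib.GTwoDeg
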