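import Cfsg.Agent.Lib.GTwoDeg.Cubic

set_option autoImplicit false
set_option linter.unusedSectionVars false

/-!
Invariant weights on binary cubic forms over a finite field of characteristic three: the middle part `(l₁, l₂)`
is a natural module, and the fibres over it are controlled.
-/

namespace CfsgLib.GTwoDeg

open Finset

variable {F : Type*} [Field F] {r : (Fin 4 → F) → ℕ} (hr : CubicInv r)

/-- Four coordinates. -/
def quad : F × F × F × F ≃ (Fin 4 → F) where
  toFun p := ![p.1, p.2.1, p.2.2.1, p.2.2.2]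
  invFun l := (l 0, l 1, l 2, l 3)
  left_inv p := rfl
  right_inv l := by funext i; fin_cases i <;> rfl

variable [Fintype F] [DecidableEq F]

/-- The weight over a middle part. -/
def fibre (r : (Fin 4 → F) → ℕ) (γ δ : F) : ℕ := ∑ a : F, ∑ e : F, r ![a, γ, δ, e]

omit [DecidableEq F] in
theorem sum_quad (f : (Fin 4 → F) → ℕ) :
    ∑ l, f l = ∑ a : F, ∑ γ : F, ∑ δ : F, ∑ e : F, f ![a, γ, δ, e] := by
  rw [← quad.sum_comp, Fintype.sum_prod_type]
  refine Finset.sum_congr rfl fun a _ => ?_
  rw [Fintype.sum_prod_type]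
  refine Finset.sum_congr rfl fun γ _ => ?_
  rw [Fintype.sum_prod_type]
  rfl

omit [DecidableEq F] in
theorem sum_fibre (r : (Fin 4 → F) → ℕ) : ∑ l, r l = ∑ γ : F, ∑ δ : F, fibre r γ δ := by
  rw [sum_quad, Finset.sum_comm]
  refine Finset.sum_congr rfl fun γ _ => ?_
  rw [Finset.sum_comm]
  rfl

omit [DecidableEq F] in
theorem cube_surj (h3 : (3 : F) = 0) (x : F) : ∃ t : F, t ^ 3 = x := by
  have hinj : Function.Injective fun t : F => t ^ 3 := fun a b h => by
    have h' : (a - b) ^ 3 = 0 := by
      have h1 : a ^ 3 = b ^ 3 := h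
      linear_combination h1 + (a * b ^ 2 - a ^ 2 * b) * h3
    exact sub_eq_zero.mp (pow_eq_zero_iff (n := 3) (by norm_num) |>.mp h')
  exact (Finite.injective_iff_surjective.mp hinj) x

include hr

omit [DecidableEq F] in
theorem fibre_const (h3 : (3 : F) = 0) {γ δ : F} (h : γ ≠ 0 ∨ δ ≠ 0) : fibre r γ δ = fibre r 1 0 := by
  have hsc : ∀ {γ : F}, γ ≠ 0 → fibre r γ 0 = fibre r 1 0 := by
    intro γ hγ
    refine (Fintype.sum_equiv (Equiv.mulLeft₀ γ hγ) _ _ fun a => ?_).symm
    refine Fintype.sum_equiv (Equiv.mulLeft₀ γ hγ) _ _ fun e => ?_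
    rw [← hr.sc (Units.mk0 γ hγ) 1 ![a, 1, 0, e]]
    congr 1
    funext i; fin_cases i <;> simp [sc]
  have hrev : ∀ δ : F, fibre r 0 δ = fibre r (-δ) 0 := by
    intro δ
    rw [fibre, Finset.sum_comm]
    refine Fintype.sum_equiv (Equiv.refl F) _ _ fun e => ?_
    refine Fintype.sum_equiv (Equiv.neg F) _ _ fun a => ?_
    rw [← hr.rev ![a, 0, δ, e]]
    congr 1
  by_cases hδ : δ = 0
  · subst hδ
    exact hsc (h.resolve_right (not_not.mpr rfl))
  set t := γ / δ with ht
  have hsh : fibre r γ δ = fibre r 0 δ := by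
    unfold fibre
    rw [Finset.sum_comm, Finset.sum_comm (f := fun a e => r ![a, 0, δ, e])]
    refine Finset.sum_congr rfl fun e _ => ?_
    refine Fintype.sum_equiv (Equiv.addRight (t * γ + t ^ 2 * δ + t ^ 3 * e)) _ _ fun a => ?_
    rw [← hr.shift t ![a, γ, δ, e]]
    congr 1
    funext i
    fin_cases i <;> simp [shift]
    · ring
    · have : t * δ = γ := by rw [ht, div_mul_cancel₀ _ hδ]
      linear_combination (γ + t ^ 2 * e) * h3 + 2 * this
    · exact Or.inl (Or.inl h3)
  rw [hsh, hrev, hsc (neg_ne_zero.mpr hδ)]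

/-- Either the middle part carries a lot, or it is known exactly. -/
theorem cubic_three (h3 : (3 : F) = 0) :
    (Fintype.card F * (Fintype.card F - 1) ≤ 6 * fibre r 1 0) ∨
    (∑ l, r l = r 0 + (Fintype.card F - 1) * (Fintype.card F + 1) *
        (Fintype.card F * r ![0, 1, 0, 0] + r ![1, 0, 0, 0]) ∧
      ∑ l ∈ Finset.univ.filter (fun l : Fin 4 → F => l 0 ≠ 0), r l = (Fintype.card F - 1) *
        (Fintype.card F * (Fintype.card F - 1) * r ![0, 1, 0, 0] + Fintype.card F * r ![1, 0, 0, 0]) ∧
      fibre r 1 0 = Fintype.card F * r ![0, 1, 0, 0]) := by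
  classical
  set q := Fintype.card F with hqdef
  by_cases hex : ∃ a e, e ≠ 0 ∧ r ![a, 1, 0, e] ≠ 0
  · left
    obtain ⟨a, e, he, hne⟩ := hex
    let Φ : Fˣ × F → F × F := fun p => (a / p.1 + p.2 + e * (p.1 : F) ^ 2 * p.2 ^ 3, e * (p.1 : F) ^ 2)
    have hΦ : ∀ p, r ![(Φ p).1, 1, 0, (Φ p).2] ≠ 0 := by
      intro p
      have h : r ![(Φ p).1, 1, 0, (Φ p).2] = r ![a, 1, 0, e] := by
        rw [← hr.sc p.1⁻¹ p.1 ![a, 1, 0, e], ← hr.shift p.2 (sc p.1⁻¹ p.1 ![a, 1, 0, e])]
        congr 1
        funext i
        have hu : (p.1 : F) ≠ 0 := p.1.ne_zero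
        fin_cases i <;> simp [Φ, shift, sc]
        · field_simp
        · exact Or.inl (Or.inl h3)
        · exact Or.inl (Or.inl h3)
        · field_simp
      rw [h]; exact hne
    have hfib : ∀ y ∈ Finset.univ.image Φ, #{p | Φ p = y} ≤ 6 := by
      intro y hy
      simp only [Finset.mem_image, Finset.mem_univ, true_and] at hy
      obtain ⟨p₀, rfl⟩ := hy
      set A := (Polynomial.nthRoots 2 ((p₀.1 : F) ^ 2)).toFinset with hA
      have hA2 : #A ≤ 2 := (Multiset.toFinset_card_le _).trans (Polynomial.card_nthRoots _ _)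
      set B : F → Finset F := fun x => Finset.univ.filter
        (fun t => a / x + t + e * x ^ 2 * t ^ 3 = (Φ p₀).1) with hB
      have hB3 : ∀ x ∈ A, #(B x) ≤ 3 := by
        intro x hx
        have hx0 : x ≠ 0 := fun h => by
          rw [hA, Multiset.mem_toFinset, Polynomial.mem_nthRoots (by norm_num), h, zero_pow two_ne_zero] at hx
          exact p₀.1.ne_zero (pow_eq_zero_iff two_ne_zero |>.mp hx.symm)
        set P : Polynomial F := Polynomial.C (e * x ^ 2) * Polynomial.X ^ 3 + Polynomial.X +
          Polynomial.C (a / x - (Φ p₀).1) with hP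
        have hdeg : P.natDegree ≤ 3 := by rw [hP]; compute_degree
        have hP0 : P ≠ 0 := fun h => by
          have := congrArg (fun Q => Polynomial.coeff Q 3) h
          simp only [hP, Polynomial.coeff_add, Polynomial.coeff_C_mul_X_pow] at this
          norm_num [Polynomial.coeff_X, Polynomial.coeff_C, he, hx0] at this
        refine le_trans (Finset.card_le_card (t := P.roots.toFinset) fun t ht => ?_)
          ((Multiset.toFinset_card_le _).trans ((Polynomial.card_roots' P).trans hdeg))
        simp only [hB, Finset.mem_filter, Finset.mem_univ, true_and] at ht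
        rw [Multiset.mem_toFinset, Polynomial.mem_roots hP0, Polynomial.IsRoot, hP]
        simp
        linear_combination ht
      refine le_trans (Finset.card_le_card_of_injOn (t := A.sigma B) (fun p => ⟨(p.1 : F), p.2⟩) ?_ ?_) ?_
      · intro p hp
        simp only [Finset.coe_filter, Finset.mem_univ, true_and, Set.mem_setOf_eq, Φ, Prod.mk.injEq] at hp
        have hp2 : (p.1 : F) ^ 2 = (p₀.1 : F) ^ 2 := mul_left_cancel₀ he hp.2
        simp [hA, hB, Φ, Polynomial.mem_nthRoots, hp2]
        rw [← hp.1, hp2]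
      · intro p _ p' _ h
        simp only [Sigma.mk.injEq, heq_eq_eq] at h
        exact Prod.ext (Units.ext h.1) h.2
      · rw [Finset.card_sigma]
        refine (Finset.sum_le_card_nsmul A _ 3 hB3).trans ?_
        rw [smul_eq_mul]; omega
    have hcard := Finset.card_le_mul_card_image Finset.univ 6 hfib
    rw [Finset.card_univ, Fintype.card_prod, Fintype.card_units] at hcard
    rw [mul_comm q]
    refine hcard.trans (Nat.mul_le_mul_left 6 ?_)
    calc #(Finset.univ.image Φ) = #(Finset.univ.image Φ) • 1 := by simp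
      _ ≤ ∑ y ∈ Finset.univ.image Φ, r ![y.1, 1, 0, y.2] := Finset.card_nsmul_le_sum _ _ _ fun y hy => by
          simp only [Finset.mem_image, Finset.mem_univ, true_and] at hy
          obtain ⟨p, rfl⟩ := hy
          have := hΦ p
          omega
      _ ≤ ∑ y : F × F, r ![y.1, 1, 0, y.2] := Finset.sum_le_sum_of_subset (Finset.subset_univ _)
      _ = fibre r 1 0 := Fintype.sum_prod_type _
  · right
    push Not at hex
    set j := r ![0, 1, 0, 0] with hj
    set j0 := r ![1, 0, 0, 0] with hj0
    have hbase : ∀ a e, r ![a, 1, 0, e] = if e = 0 then j else 0 := by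
      intro a e
      split_ifs with he
      · subst he
        rw [hj, ← hr.shift a ![0, 1, 0, 0]]
        congr 1
        funext i; fin_cases i <;> simp [shift]
      · exact hex a e he
    have hline : ∀ a γ e, γ ≠ 0 → r ![a, γ, 0, e] = if e = 0 then j else 0 := by
      intro a γ e hγ
      have h := hr.sc (Units.mk0 γ⁻¹ (inv_ne_zero hγ)) 1 ![a, γ, 0, e]
      rw [← h, show sc (Units.mk0 γ⁻¹ (inv_ne_zero hγ)) 1 ![a, γ, 0, e] = ![γ⁻¹ * a, 1, 0, γ⁻¹ * e] by
        funext i; fin_cases i <;> simp [sc, hγ], hbase]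
      simp [hγ]
    have hgen : ∀ a γ δ e, δ ≠ 0 → r ![a, γ, δ, e] =
        if a + (γ / δ) * γ + (γ / δ) ^ 2 * δ + (γ / δ) ^ 3 * e = 0 then j else 0 := by
      intro a γ δ e hδ
      set t := γ / δ with ht
      have htd : t * δ = γ := by rw [ht, div_mul_cancel₀ _ hδ]
      set a' := a + t * γ + t ^ 2 * δ + t ^ 3 * e
      have e1 : rev (shift t ![a, γ, δ, e]) = ![e, -δ, 0, -a'] := by
        funext i
        fin_cases i <;> simp [rev, shift, a']
        · exact Or.inl (Or.inl h3)
        · linear_combination (γ + t ^ 2 * e) * h3 + 2 * htd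
      rw [← hr.shift t ![a, γ, δ, e], ← hr.rev (shift t ![a, γ, δ, e]), e1, hline _ _ _ (neg_ne_zero.mpr hδ)]
      simp
    have hzero : ∀ a e, (a ≠ 0 ∨ e ≠ 0) → r ![a, 0, 0, e] = j0 := by
      intro a e h
      have h0 : ∀ e, e ≠ 0 → r ![0, 0, 0, e] = j0 := fun e he => by
        rw [hj0, ← hr.rev ![0, 0, 0, e], ← hr.sc (Units.mk0 e⁻¹ (inv_ne_zero he)) 1]
        congr 1
        funext i; fin_cases i <;> simp [sc, rev, he]
      by_cases he : e = 0
      · subst he
        have ha : a ≠ 0 := h.resolve_right (not_not.mpr rfl)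
        rw [← hr.rev ![a, 0, 0, 0], show rev ![a, 0, 0, (0 : F)] = ![0, 0, 0, -a] by
          funext i; fin_cases i <;> simp [rev]]
        exact h0 _ (neg_ne_zero.mpr ha)
      · obtain ⟨t, ht⟩ := cube_surj h3 (-a / e)
        rw [← h0 e he, ← hr.shift t ![a, 0, 0, e]]
        congr 1
        funext i
        fin_cases i <;> simp [shift]
        · rw [ht, div_mul_cancel₀ _ he, add_neg_cancel]
        · exact Or.inl (Or.inl h3)
        · exact Or.inl (Or.inl h3)
    have c1 : ∀ (P : F → Prop) [DecidablePred P] (x : F), (∀ e, P e ↔ e = x) →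
        ∑ e : F, (if P e then j else 0) = j := fun P _ x hP => by simp [hP]
    have hF : fibre r 1 0 = q * j := by
      simp only [fibre, hbase]
      simp [hqdef]
    have htot : ∑ l, r l = r 0 + (q - 1) * (q + 1) * (q * j + j0) := by
      have hf : ∀ γ δ : F, fibre r γ δ + (if γ = 0 ∧ δ = 0 then q * j else 0) =
          q * j + (if γ = 0 ∧ δ = 0 then r 0 + (q * q - 1) * j0 else 0) := by
        intro γ δ
        split_ifs with h
        · obtain ⟨rfl, rfl⟩ := h
          have h0 : fibre r 0 0 = r 0 + (q * q - 1) * j0 := by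
            rw [fibre, ← Fintype.sum_prod_type (f := fun p : F × F => r ![p.1, 0, 0, p.2]),
              ← Finset.add_sum_erase Finset.univ _ (Finset.mem_univ ((0 : F), (0 : F))),
              Finset.sum_congr rfl (fun p hp => hzero p.1 p.2 (by
                by_contra h
                push Not at h
                exact Finset.ne_of_mem_erase hp (Prod.ext h.1 h.2))),
              Finset.sum_const, smul_eq_mul, Finset.card_erase_of_mem (Finset.mem_univ _), Finset.card_univ,
              Fintype.card_prod]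
            congr 2
            funext i; fin_cases i <;> rfl
          omega
        · rw [fibre_const hr h3 (by tauto), hF]
      have h := Finset.sum_congr (s₁ := (Finset.univ : Finset (F × F))) rfl fun p _ => hf p.1 p.2
      simp only [Finset.sum_add_distrib, Fintype.sum_prod_type, ← sum_fibre, ite_and] at h
      simp at h
      rw [← hqdef] at h
      obtain ⟨w, hw⟩ : ∃ w, q = w + 1 := ⟨q - 1, by have := Fintype.card_pos (α := F); omega⟩
      rw [hw] at h ⊢
      rw [show (w + 1) * (w + 1) - 1 = w * w + 2 * w by ring_nf; omega] at h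
      rw [Nat.add_sub_cancel]
      nlinarith
    refine ⟨htot, ?_, hF⟩
    set g : F → F → ℕ := fun γ δ => ∑ e : F, r ![0, γ, δ, e] with hg
    have hval : ∀ γ δ, g γ δ = if γ = 0 then (if δ = 0 then r 0 + (q - 1) * j0 else q * j) else j := by
      intro γ δ
      by_cases hδ : δ = 0
      · subst hδ
        by_cases hγ : γ = 0
        · subst hγ
          simp only [if_true, hg]
          rw [← Finset.add_sum_erase Finset.univ _ (Finset.mem_univ (0 : F)),
            Finset.sum_congr rfl (fun e he => hzero 0 e (Or.inr (Finset.ne_of_mem_erase he))), Finset.sum_const,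
            smul_eq_mul, Finset.card_erase_of_mem (Finset.mem_univ _), Finset.card_univ, ← hqdef]
          congr 2
          funext i; fin_cases i <;> rfl
        · simp [hg, if_neg hγ, hline _ _ _ hγ]
      · rw [if_neg hδ]
        by_cases hγ : γ = 0
        · subst hγ
          simp [hg, hgen _ _ _ _ hδ, hqdef]
        · rw [if_neg hγ]
          simp only [hg, hgen _ _ _ _ hδ]
          have ht3 : (γ / δ) ^ 3 ≠ 0 := pow_ne_zero _ (div_ne_zero hγ hδ)
          exact c1 _ (-(0 + γ / δ * γ + (γ / δ) ^ 2 * δ) / (γ / δ) ^ 3) fun e => by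
            rw [eq_div_iff ht3]
            constructor <;> intro h <;> linear_combination h
    have hz : ∑ γ : F, ∑ δ : F, g γ δ = r 0 + (q - 1) * j0 + (q - 1) * (q * j) + (q - 1) * (q * j) := by
      rw [← Finset.add_sum_erase Finset.univ _ (Finset.mem_univ (0 : F)),
        Finset.sum_congr rfl (fun γ hγ => Finset.sum_congr rfl (fun δ _ =>
          (hval γ δ).trans (if_neg (Finset.ne_of_mem_erase hγ)))),
        ← Finset.add_sum_erase Finset.univ (fun δ => g 0 δ) (Finset.mem_univ (0 : F)),
        Finset.sum_congr rfl (fun δ hδ => (hval 0 δ).trans ((if_pos rfl).trans (if_neg (Finset.ne_of_mem_erase hδ)))),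
        hval]
      simp only [if_true, Finset.sum_const, smul_eq_mul, Finset.card_erase_of_mem (Finset.mem_univ _),
        Finset.card_univ, ← hqdef]
    have hsplit := Finset.sum_filter_add_sum_filter_not Finset.univ (fun l : Fin 4 → F => l 0 ≠ 0) r
    have hzero' : ∑ l ∈ Finset.univ.filter (fun l : Fin 4 → F => ¬ l 0 ≠ 0), r l = ∑ γ : F, ∑ δ : F, g γ δ := by
      rw [Finset.sum_filter, sum_quad, Finset.sum_eq_single (0 : F)]
      · simp [hg]
      · intro a _ ha
        simp [ha]
      · simp
    rw [hzero', hz, htot] at hsplit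
    obtain ⟨w, hw⟩ : ∃ w, q = w + 1 := ⟨q - 1, by have := Fintype.card_pos (α := F); omega⟩
    rw [hw, Nat.add_sub_cancel] at hsplit ⊢
    nlinarith

end CfsgLib.GTwoDeg
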