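import Cfsg.Agent.Lib.GTwoDeg.One
import Cfsg.Agent.Lib.ChevStr.Orders
import Cfsg.Agent.Lib.ChevStr.PoincareTables
import Cfsg.Agent.Lib.Characters.Decomp

set_option autoImplicit false
set_option linter.unusedSectionVars false

/-!
A one-dimensional fixed space of the radical of the parabolic of the long root forces the degree of a
constituent of the permutation representation on its cosets; this is not `q³`.
-/

namespace CfsgLib.GTwoDeg

open Cfsg.Lie CfsgLib.ChevStr Matrix CfsgLib.KnownSimple.ModulePerm CfsgLib.SLMinDeg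

variable {F : Type*} [Field F] [Fintype F] [DecidableEq F]
variable {V : Type*} [AddCommGroup V] [Module ℂ V] (ρ : Representation ℂ (G2g F) V)

theorem coord_mem (i : Fin 4) : coordRoot i ∈ [6, 8, 9, 10] := by fin_cases i <;> simp [coordRoot]

theorem avg_T4_all (i : Fin 4) :
    avg ρ (coordRoot i) * eZ ρ = (Fintype.card F : ℂ)⁻¹ • ∑ u : F, T4 ρ (Pi.single i u) := by
  by_cases hi : i = 0 ∨ i = 3
  · exact avg_T4 ρ hi
  have h8 := eZ_A ρ (show (8 : ℕ) ∈ [6, 8, 9, 10] by simp)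
  have h9 := eZ_A ρ (show (9 : ℕ) ∈ [6, 8, 9, 10] by simp)
  fin_cases i <;> simp only [Fin.zero_eta, Fin.mk_one, Fin.reduceFinMk] at hi ⊢
  · simp at hi
  · rw [avg, smul_mul_assoc, Finset.sum_mul, ← Equiv.sum_comp (Equiv.neg F)]
    congr 1
    refine Finset.sum_congr rfl fun u _ => ?_
    simp [T4, A_zero, A_eZ, h8, coordRoot]
    rfl
  · refine avg_eq ρ 2 fun u => ?_
    simp [T4, A_zero, A_eZ, eZ_idem, h9, coordRoot]
    rfl
  · simp at hi

theorem avg_pr_all (i : Fin 4) (l : Fin 4 → F) :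
    avg ρ (coordRoot i) * eZ ρ * pr (T4 ρ) l = if l i = 0 then pr (T4 ρ) l else 0 := by
  have hs := sum_chi (F := F) (κ := Fin 1) (fun _ => l i)
  rw [← (Equiv.funUnique (Fin 1) F).symm.sum_comp] at hs
  simp [dotProduct, Equiv.funUnique, funext_iff] at hs
  rw [avg_T4_all ρ i, smul_mul_assoc, Finset.sum_mul]
  simp only [T_mul_pr (T4_add ρ), dotProduct_single, ← Finset.sum_smul, smul_smul, hs]
  split_ifs
  · rw [inv_mul_cancel₀ (Nat.cast_ne_zero.mpr Fintype.card_ne_zero), one_smul]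
  · rw [mul_zero, zero_smul]

/-- The corner average of a coordinate. -/
noncomputable def B (i : Fin 4) : Module.End ℂ V := avg ρ (coordRoot i) * eZ ρ

theorem B_commute (i j : Fin 4) : Commute (B ρ i) (B ρ j) := by
  have e : ∀ k : Fin 4, B ρ k = (Fintype.card F : ℂ)⁻¹ • ∑ u : F, T4 ρ (Pi.single k u) := avg_T4_all ρ
  rw [e i, e j]
  refine ((Commute.sum_left _ _ _ fun u _ => Commute.sum_right _ _ _ fun v _ => ?_).smul_left _).smul_right _
  show _ * _ = _ * _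
  rw [T4_add, T4_add, add_comm]

/-- The projection on the fixed space of the radical. -/
noncomputable def EQ : Module.End ℂ V := pr (T4 ρ) 0

theorem EQ_prod : B ρ 0 * B ρ 1 * B ρ 2 * B ρ 3 = EQ ρ := by
  have h : ∀ l, B ρ 0 * B ρ 1 * B ρ 2 * B ρ 3 * pr (T4 ρ) l =
      if l = 0 then pr (T4 ρ) l else 0 := by
    intro l
    have hb : ∀ i, B ρ i * pr (T4 ρ) l = if l i = 0 then pr (T4 ρ) l else 0 := fun i => avg_pr_all ρ i l
    by_cases hl : l = 0
    · subst hl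
      simp only [mul_assoc, hb, Pi.zero_apply, if_true]
    · rw [if_neg hl]
      obtain ⟨i, hi⟩ : ∃ i, l i ≠ 0 := by
        by_contra h; push Not at h; exact hl (funext h)
      have hz : B ρ i * pr (T4 ρ) l = 0 := by rw [hb, if_neg hi]
      fin_cases i <;> simp only [Fin.zero_eta, Fin.mk_one, Fin.reduceFinMk] at hz
      · rw [show B ρ 0 * B ρ 1 * B ρ 2 * B ρ 3 = B ρ 1 * B ρ 2 * B ρ 3 * B ρ 0 by
          rw [mul_assoc (B ρ 0 * B ρ 1), mul_assoc (B ρ 0),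
            ((B_commute ρ 0 1).mul_right ((B_commute ρ 0 2).mul_right (B_commute ρ 0 3))).eq]
          simp only [mul_assoc], mul_assoc, hz, mul_zero]
      · rw [show B ρ 0 * B ρ 1 * B ρ 2 * B ρ 3 = B ρ 0 * (B ρ 2 * B ρ 3) * B ρ 1 by
          rw [mul_assoc (B ρ 0) (B ρ 2 * B ρ 3), ← ((B_commute ρ 1 2).mul_right (B_commute ρ 1 3)).eq]
          simp only [mul_assoc], mul_assoc, hz, mul_zero]
      · rw [mul_assoc _ (B ρ 2), (B_commute ρ 2 3).eq, ← mul_assoc, mul_assoc, hz, mul_zero]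
      · rw [mul_assoc, hz, mul_zero]
  conv_lhs => rw [show B ρ 3 = B ρ 3 * eZ ρ by rw [B, mul_assoc, eZ_idem]]
  rw [← mul_assoc, ← T4_zero ρ, ← sum_pr (T := T4 ρ), Finset.mul_sum, Finset.sum_congr rfl (fun l _ => h l),
    Finset.sum_ite_eq', if_pos (Finset.mem_univ _), EQ]

variable [FiniteDimensional ℂ V]

/-- The hypothesis: the fixed space of the radical is a line. -/
def LineFix : Prop := r4 ρ 0 = 1

variable {ρ} (h1 : LineFix ρ)

include h1

theorem EQ_trace : LinearMap.trace ℂ V (EQ ρ) = 1 := by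
  rw [EQ, ← mult_eq (T4_add ρ), show mult (T4 ρ) 0 = 1 from h1, Nat.cast_one]

omit h1 in
theorem EQ_idem : EQ ρ * EQ ρ = EQ ρ := by rw [EQ, pr_mul_pr (T4_add ρ), if_pos rfl]

theorem sandwich (X : Module.End ℂ V) : EQ ρ * X * EQ ρ = LinearMap.trace ℂ V (X * EQ ρ) • EQ ρ := by
  have e1 : EQ ρ * X * EQ ρ * EQ ρ = EQ ρ * X * EQ ρ := by rw [mul_assoc (EQ ρ * X), EQ_idem]
  have e2 : EQ ρ * (EQ ρ * X * EQ ρ) = EQ ρ * X * EQ ρ := by rw [← mul_assoc, ← mul_assoc, EQ_idem]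
  have h := mul_eq_trace_smul (EQ ρ) (EQ ρ * X * EQ ρ) EQ_idem (EQ_trace h1)
    (show EQ ρ * X * EQ ρ * EQ ρ = EQ ρ * (EQ ρ * X * EQ ρ) by rw [e1, e2])
  rw [e1] at h
  rwa [show LinearMap.trace ℂ V (EQ ρ * X * EQ ρ) = LinearMap.trace ℂ V (X * EQ ρ) by
    rw [LinearMap.trace_mul_comm, ← mul_assoc, EQ_idem, LinearMap.trace_mul_comm]] at h

/-- The scalar of an element on the line. -/
noncomputable def th (ρ : Representation ℂ (G2g F) V) (g : G2g F) : ℂ :=
  LinearMap.trace ℂ V (ρ g * EQ ρ)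

theorem comm_smul {g : G2g F} (hg : Commute (ρ g) (EQ ρ)) :
    ρ g * EQ ρ = th ρ g • EQ ρ ∧ EQ ρ * ρ g = th ρ g • EQ ρ := by
  have h := mul_eq_trace_smul (EQ ρ) (ρ g) EQ_idem (EQ_trace h1) hg
  exact ⟨h, hg.eq ▸ h⟩

theorem th_mul {g h : G2g F} (hg : Commute (ρ g) (EQ ρ)) (hh : Commute (ρ h) (EQ ρ)) :
    th ρ (g * h) = th ρ g * th ρ h := by
  rw [th, map_mul ρ g h, mul_assoc, (comm_smul h1 hh).1, mul_smul_comm, map_smul, smul_eq_mul, th, th, mul_comm]

theorem th_one : th ρ 1 = 1 := by rw [th, map_one, one_mul, EQ_trace h1]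

omit h1 in
theorem commute_inv {g : G2g F} (hg : Commute (ρ g) (EQ ρ)) : Commute (ρ g⁻¹) (EQ ρ) := by
  calc ρ g⁻¹ * EQ ρ = ρ g⁻¹ * EQ ρ * (ρ g * ρ g⁻¹) := by rw [rho_mul_inv, mul_one]
    _ = ρ g⁻¹ * ρ g * EQ ρ * ρ g⁻¹ := by
      rw [mul_assoc (ρ g⁻¹), ← mul_assoc (EQ ρ), ← hg.eq, ← mul_assoc, ← mul_assoc]
    _ = EQ ρ * ρ g⁻¹ := by rw [rho_inv_mul, one_mul]

theorem th_inv {g : G2g F} (hg : Commute (ρ g) (EQ ρ)) : th ρ g * th ρ g⁻¹ = 1 := by
  rw [← th_mul h1 hg (commute_inv hg), mul_inv_cancel, th_one h1]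

omit h1 in
theorem fix_rad {r : ℕ} (hr : r ∈ [6, 8, 9, 10, 11]) (t : F) :
    ρ (X r t) * EQ ρ = EQ ρ ∧ EQ ρ * ρ (X r t) = EQ ρ := by
  have hz : eZ ρ * EQ ρ = EQ ρ ∧ EQ ρ * eZ ρ = EQ ρ := by
    constructor
    · rw [EQ, ← T4_zero ρ, T_mul_pr (T4_add ρ)]; simp
    · rw [EQ, ← T4_zero ρ, pr_mul_T (T4_add ρ)]; simp
  simp only [List.mem_cons, List.not_mem_nil, or_false] at hr
  have key : ∀ (r : ℕ) (l : Fin 4 → F), r ∈ [6, 8, 9, 10] → A ρ r t = T4 ρ l →
      ρ (X r t) * EQ ρ = EQ ρ ∧ EQ ρ * ρ (X r t) = EQ ρ := by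
    intro r l hr' hl
    constructor
    · conv_lhs => rw [← hz.1, ← mul_assoc, show ρ (X r t) * eZ ρ = A ρ r t from rfl, hl, EQ,
        T_mul_pr (T4_add ρ)]
      simp [EQ]
    · conv_lhs => rw [← hz.2, mul_assoc, ← (rad_commute ρ hr' t).eq, show ρ (X r t) * eZ ρ = A ρ r t from rfl,
        hl, EQ, pr_mul_T (T4_add ρ)]
      simp [EQ]
  have h8 := eZ_A ρ (show (8 : ℕ) ∈ [6, 8, 9, 10] by simp) t
  have h9 := eZ_A ρ (show (9 : ℕ) ∈ [6, 8, 9, 10] by simp) t
  have h10 := eZ_A ρ (show (10 : ℕ) ∈ [6, 8, 9, 10] by simp) t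
  rcases hr with rfl | rfl | rfl | rfl | rfl
  · exact key 6 ![t, 0, 0, 0] (by simp) (T4_single ρ t).symm
  · exact key 8 ![0, -t, 0, 0] (by simp) (by simp [T4, A_zero, A_eZ, h8])
  · exact key 9 ![0, 0, t, 0] (by simp) (by simp [T4, A_zero, A_eZ, eZ_idem, h9])
  · exact key 10 ![0, 0, 0, t] (by simp) (by simp [T4, A_zero, eZ_idem, h10])
  · constructor
    · conv_lhs => rw [← hz.1, ← mul_assoc, z_eZ, hz.1]
    · conv_lhs => rw [← hz.2, mul_assoc, eZ, avg_mul_X]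
      exact hz.2

omit h1 in
theorem commute_NA : Commute (ρ (N iA)) (EQ ρ) :=
  mul_pr_of_perm (Equiv.ofBijective (fun w => ![-w 3, w 2, -w 1, w 0]) (Finite.injective_iff_bijective.mp
    fun v w h => by
      have e3 := congrFun h 0
      have e2 := congrFun h 1
      have e1 := congrFun h 2
      have e0 := congrFun h 3
      simp at e0 e1 e2 e3
      funext i; fin_cases i <;> assumption)) (NA_T4 ρ) 0 0 fun w => by simp

omit h1 in
theorem commute_X7 (t : F) : Commute (ρ (X 7 t)) (EQ ρ) :=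
  mul_pr_of_perm (Equiv.ofBijective (fun w => ![w 0, w 1 + t * w 0, w 2 + t ^ 2 * w 0 + 2 * t * w 1,
      w 3 + t ^ 3 * w 0 + 3 * t ^ 2 * w 1 + 3 * t * w 2]) (Finite.injective_iff_bijective.mp fun v w h => by
      have e0 : v 0 = w 0 := congrFun h 0
      have e1 : v 1 = w 1 := by have := congrFun h 1; simpa [e0] using this
      have e2 : v 2 = w 2 := by have := congrFun h 2; simpa [e0, e1] using this
      have e3 : v 3 = w 3 := by have := congrFun h 3; simpa [e0, e1, e2] using this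
      funext i; fin_cases i <;> assumption)) (shift_T4 ρ t) 0 0 fun w => by simp

omit h1 in
theorem commute_H (a b : Fˣ) : Commute (ρ (H a b)) (EQ ρ) :=
  mul_pr_of_perm (Equiv.ofBijective (fun w => ![(wt a b 6 : F) * w 0, (wt a b 8 : F) * w 1, (wt a b 9 : F) * w 2,
      (wt a b 10 : F) * w 3]) (Finite.injective_iff_bijective.mp fun v w h => by
      have e0 := congrFun h 0
      have e1 := congrFun h 1
      have e2 := congrFun h 2
      have e3 := congrFun h 3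
      simp at e0 e1 e2 e3
      funext i; fin_cases i <;> assumption)) (torus_T4 ρ a b) 0 0 fun w => by simp

theorem fix_a (hq : 3 ≤ Fintype.card F) (t : F) :
    ρ (X 7 t) * EQ ρ = EQ ρ ∧ EQ ρ * ρ (X 7 t) = EQ ρ := by
  suffices h : th ρ (X 7 t) = 1 by
    have h' := comm_smul h1 (commute_X7 t)
    rw [h, one_smul] at h'
    exact h'
  obtain ⟨x, -, hx⟩ := Finset.exists_mem_notMem_of_card_lt_card (s := ({0, 1} : Finset F)) (t := Finset.univ)
    (lt_of_le_of_lt Finset.card_le_two (by rw [Finset.card_univ]; omega))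
  simp only [Finset.mem_insert, Finset.mem_singleton, not_or] at hx
  set e : Fˣ := Units.mk0 x hx.1 with he
  obtain ⟨-, w7, -⟩ := wt_table (1 : Fˣ) e
  have hc : (wt 1 e 7 : F) - 1 ≠ 0 := by
    rw [w7]; simp [he, sub_ne_zero, hx.2]
  have hinv : ∀ s : F, th ρ (X 7 ((wt 1 e 7 : F) * s)) = th ρ (X 7 s) := fun s => by
    rw [← H_conj 1 e (by norm_num : 7 < 12), th, map_mul ρ, map_mul ρ, mul_assoc, (commute_inv (commute_H 1 e)).eq,
      LinearMap.trace_mul_comm, ← mul_assoc]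
    rw [LinearMap.trace_mul_comm, ← mul_assoc, mul_assoc, mul_assoc, rho_inv_mul, mul_one, th]
  have hne : ∀ s : F, th ρ (X 7 s) ≠ 0 := fun s h => by
    have := th_inv h1 (commute_X7 (ρ := ρ) s)
    rw [h, zero_mul] at this
    exact zero_ne_one this
  have hall := hinv (t / ((wt 1 e 7 : F) - 1))
  set s := t / ((wt 1 e 7 : F) - 1) with hs
  rw [show (wt 1 e 7 : F) * s = t + s by rw [hs]; field_simp; ring, X_add,
    th_mul h1 (commute_X7 t) (commute_X7 s)] at hall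
  exact (mul_eq_right₀ (hne s)).mp hall

theorem fix_na (hq : 3 ≤ Fintype.card F) : ρ (N iA) * EQ ρ = EQ ρ ∧ EQ ρ * ρ (N iA) = EQ ρ := by
  have h4 : ∀ t : F, ρ (X 4 t) * EQ ρ = EQ ρ := fun t => by
    rw [show (X 4 t : G2g F) = N iA * X 7 (-t) * (N iA)⁻¹ by rw [NA_7, neg_neg], map_mul, map_mul, mul_assoc,
      (commute_inv commute_NA).eq, mul_assoc (ρ (N iA)), ← mul_assoc (ρ (X 7 (-t))), (fix_a h1 hq _).1,
      ← mul_assoc, commute_NA.eq, mul_assoc, rho_mul_inv, mul_one]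
  have h : ρ (N iA) * EQ ρ = EQ ρ := by
    rw [NA_word, map_mul, map_mul, mul_assoc, (fix_a h1 hq _).1, mul_assoc, h4, (fix_a h1 hq _).1]
  exact ⟨h, by rw [← commute_NA.eq, h]⟩

end CfsgLib.GTwoDeg
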