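import Cfsg.Agent.Lib.GTwoDeg.Hecke

set_option autoImplicit false
set_option linter.unusedSectionVars false

/-!
The scalars of the representatives of the Weyl group on the fixed line of the radical.
-/

namespace CfsgLib.GTwoDeg

open Cfsg.Lie CfsgLib.ChevStr Matrix CfsgLib.KnownSimple.ModulePerm CfsgLib.SLMinDeg

variable {F : Type*} [Field F] [Fintype F] [DecidableEq F]
variable {V : Type*} [AddCommGroup V] [Module ℂ V] [FiniteDimensional ℂ V] (ρ : Representation ℂ (G2g F) V)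

omit [FiniteDimensional ℂ V] in
theorem N_avg (i : Fin chevG2.rank) {r r' : ℕ} (hr : r < 12) (h : Chev.G2.cert.T.piRoot i r = r') :
    ρ (N i) * avg ρ r = avg ρ r' * ρ (N i) := by
  have hne : (Chev.G2.cert.T.eta i r : F) ≠ 0 := by
    rcases Chev.Data.eta_eq Chev.G2.cert.T (i : ℕ) r with e | e <;> simp [e]
  refine conj_avg ρ (Equiv.mulLeft₀ _ hne) fun t => ?_
  rw [N_conj i hr, h]; rfl

omit [FiniteDimensional ℂ V] in
theorem avg_inv {g : G2g F} {r r' : ℕ} (h : ρ g * avg ρ r = avg ρ r' * ρ g) :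
    ρ g⁻¹ * avg ρ r' = avg ρ r * ρ g⁻¹ := by
  calc ρ g⁻¹ * avg ρ r' = ρ g⁻¹ * avg ρ r' * (ρ g * ρ g⁻¹) := by rw [rho_mul_inv, mul_one]
    _ = ρ g⁻¹ * (ρ g * avg ρ r) * ρ g⁻¹ := by rw [h]; simp only [mul_assoc]
    _ = avg ρ r * ρ g⁻¹ := by rw [← mul_assoc (ρ g⁻¹), rho_inv_mul, one_mul]

/-- The behaviour of a representative of the reflection of the long fundamental root on averages. -/
structure FlipB (T : G2g F) : Prop where
  m6 : ρ T * avg ρ 6 = avg ρ 5 * ρ T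
  m8 : ρ T * avg ρ 8 = avg ρ 7 * ρ T
  m9 : ρ T * avg ρ 9 = avg ρ 9 * ρ T
  m10 : ρ T * avg ρ 10 = avg ρ 11 * ρ T
  m11 : ρ T * avg ρ 11 = avg ρ 10 * ρ T

/-- The behaviour of a representative of the reflection of the short fundamental root. -/
structure FlipA (A : G2g F) : Prop where
  m10 : ρ A * avg ρ 10 = avg ρ 6 * ρ A
  m11 : ρ A * avg ρ 11 = avg ρ 11 * ρ A
  left : EQ ρ * ρ A = EQ ρ
  right : ρ A * EQ ρ = EQ ρ

theorem flipB : FlipB ρ (N iB) :=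
  ⟨N_avg ρ iB (by norm_num) (by decide +kernel), N_avg ρ iB (by norm_num) (by decide +kernel),
    N_avg ρ iB (by norm_num) (by decide +kernel), N_avg ρ iB (by norm_num) (by decide +kernel),
    N_avg ρ iB (by norm_num) (by decide +kernel)⟩

theorem flipB_inv : FlipB ρ (N iB)⁻¹ :=
  ⟨avg_inv ρ (N_avg ρ iB (by norm_num) (by decide +kernel)), avg_inv ρ (N_avg ρ iB (by norm_num) (by decide +kernel)),
    avg_inv ρ (N_avg ρ iB (by norm_num) (by decide +kernel)), avg_inv ρ (N_avg ρ iB (by norm_num) (by decide +kernel)),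
    avg_inv ρ (N_avg ρ iB (by norm_num) (by decide +kernel))⟩

variable {ρ} (h1 : LineFix ρ) (hq : 3 ≤ Fintype.card F)

include h1 hq

theorem flipA : FlipA ρ (N iA) :=
  ⟨N_avg ρ iA (by norm_num) (by decide +kernel), N_avg ρ iA (by norm_num) (by decide +kernel),
    (fix_na h1 hq).2, (fix_na h1 hq).1⟩

theorem flipA_inv : FlipA ρ (N iA)⁻¹ := by
  obtain ⟨e1, e2⟩ := fix_na h1 hq
  refine ⟨avg_inv ρ (N_avg ρ iA (by norm_num) (by decide +kernel)),
    avg_inv ρ (N_avg ρ iA (by norm_num) (by decide +kernel)), ?_, ?_⟩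
  · conv_lhs => rw [← e2, mul_assoc, rho_mul_inv, mul_one]
  · conv_lhs => rw [← e1, ← mul_assoc, rho_inv_mul, one_mul]

theorem fix_avg {r : ℕ} (hr : r ∈ [6, 7, 8, 9, 10, 11]) :
    avg ρ r * EQ ρ = EQ ρ ∧ EQ ρ * avg ρ r = EQ ρ := by
  have h : ∀ t, ρ (X r t) * EQ ρ = EQ ρ ∧ EQ ρ * ρ (X r t) = EQ ρ := by
    intro t
    by_cases h7 : r = 7
    · exact h7 ▸ fix_a h1 hq t
    · exact fix_rad (by simp at hr ⊢; omega) t
  constructor <;> rw [avg]
  · rw [smul_mul_assoc, Finset.sum_mul, Finset.sum_congr rfl fun t _ => (h t).1, Finset.sum_const, Finset.card_univ,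
      ← Nat.cast_smul_eq_nsmul ℂ, smul_smul, inv_mul_cancel₀ (Nat.cast_ne_zero.mpr Fintype.card_ne_zero), one_smul]
  · rw [mul_smul_comm, Finset.mul_sum, Finset.sum_congr rfl fun t _ => (h t).2, Finset.sum_const, Finset.card_univ,
      ← Nat.cast_smul_eq_nsmul ℂ, smul_smul, inv_mul_cancel₀ (Nat.cast_ne_zero.mpr Fintype.card_ne_zero), one_smul]

theorem mid {T : G2g F} (hT : FlipB ρ T) : EQ ρ * ρ T * EQ ρ = EQ ρ * avg ρ 5 * ρ T := by
  have hB : ∀ i, B ρ i = avg ρ (coordRoot i) * avg ρ 11 := fun _ => rfl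
  have e : EQ ρ = avg ρ 8 * avg ρ 11 * avg ρ 9 * avg ρ 11 * avg ρ 10 * avg ρ 11 * avg ρ 11 * avg ρ 6 := by
    rw [← EQ_prod ρ, show B ρ 0 * B ρ 1 * B ρ 2 * B ρ 3 = B ρ 1 * B ρ 2 * B ρ 3 * B ρ 0 by
      rw [mul_assoc (B ρ 0 * B ρ 1), mul_assoc (B ρ 0),
        ((B_commute ρ 0 1).mul_right ((B_commute ρ 0 2).mul_right (B_commute ρ 0 3))).eq]
      simp only [mul_assoc], hB, hB, hB, hB]
    have hc : avg ρ 6 * avg ρ 11 = avg ρ 11 * avg ρ 6 := (avg_rad_commute ρ (r := 6) (by simp)).eq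
    simp only [show coordRoot 0 = 6 from rfl, show coordRoot 1 = 8 from rfl, show coordRoot 2 = 9 from rfl,
      show coordRoot 3 = 10 from rfl, hc, ← mul_assoc]
  have step : ∀ {r r' : ℕ}, ρ T * avg ρ r = avg ρ r' * ρ T → r' ∈ [6, 7, 8, 9, 10, 11] →
      EQ ρ * ρ T * avg ρ r = EQ ρ * ρ T := fun h hr => by
    rw [mul_assoc, h, ← mul_assoc, (fix_avg h1 hq hr).2]
  conv_lhs => arg 2; rw [e]
  simp only [← mul_assoc, step hT.m8 (by simp), step hT.m11 (by simp), step hT.m9 (by simp), step hT.m10 (by simp)]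
  rw [mul_assoc, hT.m6, ← mul_assoc]

/-- The scalar of the reflection of the long fundamental root. -/
noncomputable def alpha (ρ : Representation ℂ (G2g F) V) : ℂ := th ρ (N iB)

omit h1 hq in
theorem rel_X5 (l : Fˣ) : (X 5 (-((l⁻¹ : Fˣ) : F)) : G2g F) =
    X 6 (-(l : F)) * (H l (l ^ 2) * N iB * (H l (l ^ 2))⁻¹) * X 6 (-(l : F)) := by
  have h6 : (wt l (l ^ 2) 6 : F) = l := by
    rw [(wt_table l (l ^ 2)).1.1]; push_cast; field_simp
  have h5 : (wt l (l ^ 2) 5 : F) = (l : F)⁻¹ := by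
    rw [(wt_table l (l ^ 2)).2.2.1]; push_cast; field_simp
  have e : (H l (l ^ 2) * N iB * (H l (l ^ 2))⁻¹ : G2g F) = X 6 (l : F) * X 5 (-((l⁻¹ : Fˣ) : F)) * X 6 (l : F) := by
    rw [NB_word]
    have e6 := H_conj l (l ^ 2) (r := 6) (by norm_num) (1 : F)
    have e5 := H_conj l (l ^ 2) (r := 5) (by norm_num) (-1 : F)
    rw [h6, mul_one] at e6
    rw [h5, mul_neg, mul_one] at e5
    rw [Units.val_inv_eq_inv_val, ← e6, ← e5]; group
  rw [e]
  simp only [← mul_assoc, ← X_add, neg_add_cancel, X_zero, one_mul]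
  rw [mul_assoc, ← X_add, add_neg_cancel, X_zero, mul_one]

theorem sand_H (a b : Fˣ) (Y : Module.End ℂ V) :
    EQ ρ * (ρ (H a b) * Y * ρ (H a b)⁻¹) * EQ ρ = EQ ρ * Y * EQ ρ := by
  have e1 := comm_smul h1 (commute_H (ρ := ρ) a b)
  have e2 := comm_smul h1 (commute_inv (commute_H (ρ := ρ) a b))
  rw [← mul_assoc, ← mul_assoc, e1.2, mul_assoc, e2.1]
  simp only [smul_mul_assoc, mul_smul_comm, smul_smul]
  rw [th_inv h1 (commute_H a b) |> fun h => (mul_comm _ _).trans h, one_smul]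

theorem sand_X5 {t : F} (ht : t ≠ 0) :
    EQ ρ * ρ (X 5 t) * EQ ρ = alpha ρ • EQ ρ ∧ EQ ρ * ρ (X 5 t) * EQ ρ = th ρ (N iB)⁻¹ • EQ ρ := by
  have f6 : ∀ s : F, ρ (X 6 s) * EQ ρ = EQ ρ ∧ EQ ρ * ρ (X 6 s) = EQ ρ := fun s => fix_rad (by simp) s
  have strip : ∀ (s : F) (g : G2g F),
      EQ ρ * ρ (X 6 s * g * X 6 s) * EQ ρ = EQ ρ * ρ g * EQ ρ := fun s g => by
    rw [map_mul, map_mul, mul_assoc (EQ ρ), mul_assoc (ρ (X 6 s) * ρ g), (f6 s).1, ← mul_assoc, ← mul_assoc,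
      (f6 s).2]
  set l : Fˣ := Units.mk0 (-t⁻¹) (neg_ne_zero.mpr (inv_ne_zero ht)) with hl
  have el : ∀ u : Fˣ, (u : F) = -t⁻¹ → t = -((u⁻¹ : Fˣ) : F) := fun u hu => by
    rw [Units.val_inv_eq_inv_val, hu]; simp [inv_neg]
  constructor
  · rw [el l rfl, rel_X5, strip, map_mul, map_mul, sand_H h1 hq, sandwich h1]; rfl
  · set m : Fˣ := -l with hm
    have e : (X 5 t : G2g F) = X 6 (m : F) * (H m (m ^ 2) * (N iB)⁻¹ * (H m (m ^ 2))⁻¹) * X 6 (m : F) := by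
      have h := congrArg (·⁻¹) (rel_X5 (F := F) m)
      simp only [X_inv, neg_neg, _root_.mul_inv_rev, inv_inv] at h
      rw [show t = ((m⁻¹ : Fˣ) : F) by rw [el l rfl, hm]; simp [inv_neg], h]
      simp only [mul_assoc]
    rw [e, strip, map_mul, map_mul, sand_H h1 hq, sandwich h1]; rfl

theorem EQ_ne : EQ ρ ≠ 0 := fun h => by simpa [h] using EQ_trace h1

theorem th_NB_inv : th ρ (N iB)⁻¹ = alpha ρ := by
  obtain ⟨a, b⟩ := sand_X5 h1 hq (ρ := ρ) (one_ne_zero (α := F))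
  rw [a] at b
  exact (smul_left_injective ℂ (EQ_ne h1 hq) b).symm

theorem quadratic : alpha ρ = 1 ∨ (Fintype.card F : ℂ) * alpha ρ = -1 := by
  set q := Fintype.card F with hqd
  have hq0 : (q : ℂ) ≠ 0 := Nat.cast_ne_zero.mpr (by omega)
  have l1 : EQ ρ * avg ρ 5 * EQ ρ = (alpha ρ * alpha ρ) • EQ ρ := by
    calc EQ ρ * avg ρ 5 * EQ ρ = EQ ρ * avg ρ 5 * ρ (N iB) * ρ (N iB)⁻¹ * EQ ρ := by
          rw [mul_assoc _ (ρ (N iB)), rho_mul_inv, mul_one]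
      _ = _ := by
          rw [← mid h1 hq (flipB ρ), sandwich h1, smul_mul_assoc, smul_mul_assoc, sandwich h1, smul_smul]
          congr 1
          show _ * th ρ (N iB)⁻¹ = _
          rw [th_NB_inv h1 hq]; rfl
  have l2 : EQ ρ * avg ρ 5 * EQ ρ = ((q : ℂ)⁻¹ * (1 + ((q : ℂ) - 1) * alpha ρ)) • EQ ρ := by
    rw [avg, mul_smul_comm, smul_mul_assoc, Finset.mul_sum, Finset.sum_mul,
      ← Finset.add_sum_erase _ _ (Finset.mem_univ (0 : F)), X_zero, map_one, mul_one, EQ_idem,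
      Finset.sum_congr rfl fun t ht => (sand_X5 h1 hq (Finset.ne_of_mem_erase ht)).1, Finset.sum_const,
      Finset.card_erase_of_mem (Finset.mem_univ _), Finset.card_univ, ← hqd, ← Nat.cast_smul_eq_nsmul ℂ,
      Nat.cast_sub (by omega), Nat.cast_one]
    module
  rw [l1] at l2
  have e := smul_left_injective ℂ (EQ_ne h1 hq) l2
  have e' : (alpha ρ - 1) * ((q : ℂ) * alpha ρ + 1) = 0 := by
    field_simp at e
    linear_combination e
  rcases mul_eq_zero.mp e' with h | h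
  · exact Or.inl (sub_eq_zero.mp h)
  · exact Or.inr (eq_neg_of_add_eq_zero_left h)

theorem cores {T A : G2g F} (hT : FlipB ρ T) (hA : FlipA ρ A) :
    EQ ρ * ρ (T * A * T) * EQ ρ = th ρ T ^ 2 • EQ ρ ∧
      EQ ρ * ρ (T * A * T * A * T) * EQ ρ = th ρ T ^ 3 • EQ ρ := by
  have hm : EQ ρ * avg ρ 5 * ρ T = th ρ T • EQ ρ := by rw [← mid h1 hq hT, sandwich h1]; rfl
  have p5 : avg ρ 5 * ρ T = ρ T * avg ρ 6 := hT.m6.symm
  have p6 : avg ρ 6 * ρ A = ρ A * avg ρ 10 := hA.m10.symm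
  have p10 : avg ρ 10 * ρ T = ρ T * avg ρ 11 := hT.m11.symm
  have p11 : avg ρ 11 * ρ A = ρ A * avg ρ 11 := hA.m11.symm
  have p11' : avg ρ 11 * ρ T = ρ T * avg ρ 10 := hT.m10.symm
  have e2 : EQ ρ * ρ (T * A * T) * EQ ρ = th ρ T ^ 2 • EQ ρ := by
    calc EQ ρ * ρ (T * A * T) * EQ ρ = EQ ρ * ρ T * ρ A * ρ T * (avg ρ 11 * EQ ρ) := by
          rw [(fix_avg h1 hq (r := 11) (by simp)).1, map_mul, map_mul]; simp only [mul_assoc]
      _ = EQ ρ * avg ρ 5 * ρ T * ρ A * ρ T * EQ ρ := by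
          conv_rhs => rw [mul_assoc (EQ ρ), p5, ← mul_assoc, mul_assoc _ (avg ρ 6), p6, ← mul_assoc,
            mul_assoc _ (avg ρ 10), p10, ← mul_assoc, mul_assoc _ (avg ρ 11)]
      _ = _ := by
          rw [hm, smul_mul_assoc, hA.left, smul_mul_assoc, smul_mul_assoc, sandwich h1, smul_smul, pow_two]; rfl
  refine ⟨e2, ?_⟩
  calc EQ ρ * ρ (T * A * T * A * T) * EQ ρ = EQ ρ * ρ T * ρ A * ρ T * ρ A * ρ T * (avg ρ 10 * EQ ρ) := by
        rw [(fix_avg h1 hq (r := 10) (by simp)).1]; simp only [map_mul, mul_assoc]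
    _ = EQ ρ * avg ρ 5 * ρ T * ρ A * ρ T * ρ A * ρ T * EQ ρ := by
        conv_rhs => rw [mul_assoc (EQ ρ), p5, ← mul_assoc, mul_assoc _ (avg ρ 6), p6, ← mul_assoc,
          mul_assoc _ (avg ρ 10), p10, ← mul_assoc, mul_assoc _ (avg ρ 11), p11, ← mul_assoc,
          mul_assoc _ (avg ρ 11), p11', ← mul_assoc, mul_assoc _ (avg ρ 10)]
    _ = _ := by
        rw [hm, smul_mul_assoc, hA.left, smul_mul_assoc, smul_mul_assoc, smul_mul_assoc, smul_mul_assoc,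
          show EQ ρ * ρ T * ρ A * ρ T = EQ ρ * ρ (T * A * T) by simp only [map_mul, mul_assoc], e2, smul_smul]
        congr 1; ring

end CfsgLib.GTwoDeg
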