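import Mathlib.Data.Nat.GCD.Basic
import Mathlib.RingTheory.Int.Basic
import Mathlib.Tactic

set_option autoImplicit false

/-!
No divisor of the group order lies just below `q⁴ + q² + 1` in characteristic three.
-/

namespace CfsgLib.GTwoDeg

theorem dvd_bound {n k i : ℕ} (hn : 2 ≤ n) (hi : i ≤ 3 ^ n + 1)
    (hk : k + i = (3 ^ n) ^ 4 + (3 ^ n) ^ 2)
    (hd : k ∣ (3 ^ n) ^ 6 * ((3 ^ n) ^ 2 - 1) * ((3 ^ n) ^ 2 - 1) * ((3 ^ n) ^ 4 + (3 ^ n) ^ 2 + 1)) : False := by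
  have h9 : 9 ≤ 3 ^ n := le_trans (by norm_num : 9 ≤ 3 ^ 2) (Nat.pow_le_pow_right (by norm_num) hn)
  have h3q : 3 ∣ 3 ^ n := dvd_pow_self 3 (by omega)
  set q := 3 ^ n with hq
  obtain ⟨v, hv⟩ : ∃ v, q ^ 2 = v + 1 := ⟨q ^ 2 - 1, by have := Nat.one_le_pow 2 q (by omega); omega⟩
  rw [hv, Nat.add_sub_cancel] at hd
  rw [← hv] at hd
  set a := Nat.gcd k (q ^ 6) with ha
  set b := Nat.gcd k v with hb
  set c := Nat.gcd k (q ^ 4 + q ^ 2 + 1) with hc
  have habc : k ∣ a * b * b * c := by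
    have h := Nat.dvd_gcd (dvd_refl k) hd
    refine h.trans ((Nat.gcd_mul_right_dvd_mul_gcd k _ _).trans (mul_dvd_mul_right ?_ _))
    refine (Nat.gcd_mul_right_dvd_mul_gcd k _ _).trans (mul_dvd_mul_right ?_ _)
    exact Nat.gcd_mul_right_dvd_mul_gcd k _ _
  have hc1 : c ∣ i + 1 := by
    have h1 : c ∣ k + (i + 1) := by
      rw [show k + (i + 1) = q ^ 4 + q ^ 2 + 1 by omega]; exact Nat.gcd_dvd_right _ _
    exact (Nat.dvd_add_right (Nat.gcd_dvd_left _ _)).mp h1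
  have hbZ : (b : ℤ) ∣ (i : ℤ) - 2 := by
    have e1 : (b : ℤ) ∣ (k : ℤ) := Int.natCast_dvd_natCast.mpr (Nat.gcd_dvd_left _ _)
    have e2 : (b : ℤ) ∣ (v : ℤ) := Int.natCast_dvd_natCast.mpr (Nat.gcd_dvd_right _ _)
    have e : (i : ℤ) - 2 = (v : ℤ) * ((q : ℤ) ^ 2 + 2) - (k : ℤ) := by
      have hk' : (k : ℤ) + i = (q : ℤ) ^ 4 + (q : ℤ) ^ 2 := by exact_mod_cast hk
      have hv' : (q : ℤ) ^ 2 = v + 1 := by exact_mod_cast hv
      linear_combination hk' + ((q : ℤ) ^ 2 + 2) * hv'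
    rw [e]
    exact dvd_sub (e2.mul_right _) e1
  have hapow : ∃ e, a = 3 ^ e := by
    obtain ⟨e, -, he⟩ := (Nat.dvd_prime_pow Nat.prime_three).mp
      (show a ∣ 3 ^ (n * 6) by rw [pow_mul, ← hq]; exact Nat.gcd_dvd_right _ _)
    exact ⟨e, he⟩
  obtain ⟨e, he⟩ := hapow
  have ha2 : a ∣ q ^ 2 := by
    rw [he, hq, ← pow_mul]
    refine pow_dvd_pow 3 ?_
    by_contra hlt
    have h1 : 3 ^ (n * 2 + 1) ∣ a := by rw [he]; exact pow_dvd_pow 3 (by omega)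
    have h2 : q ^ 2 * 3 ∣ k := by
      refine dvd_trans ?_ (h1.trans (Nat.gcd_dvd_left _ _))
      rw [hq, ← pow_mul, pow_succ]
    have h3 : q ^ 2 * 3 ∣ q ^ 4 := by
      rw [show q ^ 4 = q ^ 2 * q ^ 2 by ring]
      exact mul_dvd_mul_left _ (h3q.trans (dvd_pow_self q (by norm_num)))
    have h4 : q ^ 2 ∣ i := by
      have h5 : q ^ 2 ∣ k + i := by rw [hk]; exact dvd_add (dvd_trans (dvd_mul_right _ _) h3) dvd_rfl
      exact (Nat.dvd_add_right (dvd_trans (dvd_mul_right _ _) h2)).mp h5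
    have h6 : i = 0 := Nat.eq_zero_of_dvd_of_lt h4 (by nlinarith)
    rw [h6, add_zero] at hk
    rw [hk] at h2
    have h7 := (Nat.dvd_add_right h3).mp h2
    have h8 : q ^ 2 * 3 ≤ q ^ 2 := Nat.le_of_dvd (by positivity) h7
    nlinarith
  have hai : a ∣ i := by
    have h5 : a ∣ k + i := by
      rw [hk]; exact dvd_add (ha2.trans ⟨q ^ 2, by ring⟩) ha2
    exact (Nat.dvd_add_right (Nat.gcd_dvd_left _ _)).mp h5
  rcases Nat.eq_zero_or_pos i with h0 | hipos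
  · subst h0
    have hb2 : b ≤ 2 := Nat.le_of_dvd (by norm_num) (Int.natCast_dvd_natCast.mp (by simpa using hbZ))
    have hc2 : c ≤ 1 := Nat.le_of_dvd (by norm_num) hc1
    have haq : a ≤ q ^ 2 := Nat.le_of_dvd (by positivity) ha2
    have hpos : 0 < a * b * b * c := by
      have hk0 : 0 < k := by have : 0 < q ^ 4 + q ^ 2 := by positivity
                             omega
      have ha0 : 0 < a := Nat.gcd_pos_of_pos_left _ hk0
      have hb0 : 0 < b := Nat.gcd_pos_of_pos_left _ hk0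
      have hc0 : 0 < c := Nat.gcd_pos_of_pos_left _ hk0
      positivity
    have : k ≤ q ^ 2 * 2 * 2 * 1 := le_trans (Nat.le_of_dvd hpos habc) (by gcongr)
    have hq2 : 81 ≤ q ^ 2 := by nlinarith
    have hq4 : q ^ 4 = q ^ 2 * q ^ 2 := by ring
    nlinarith
  by_cases hi2 : i = 2
  · subst hi2
    have hkv : k = v * (q ^ 2 + 2) := by nlinarith
    have hk0 : 0 < v := by nlinarith
    rw [hkv, show q ^ 6 * v * v * (q ^ 4 + q ^ 2 + 1) = v * (q ^ 6 * v * (q ^ 4 + q ^ 2 + 1)) by ring] at hd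
    have hd' := Nat.dvd_of_mul_dvd_mul_left hk0 hd
    have h3n : ¬ 3 ∣ q ^ 2 + 2 := fun h => by
      have := (Nat.dvd_add_right (h3q.trans (dvd_pow_self q (by norm_num : (2 : ℕ) ≠ 0)))).mp h
      omega
    have hco : Nat.Coprime 3 (q ^ 2 + 2) := (Nat.prime_three.coprime_iff_not_dvd).mpr h3n
    have key : ∀ x : ℕ, Nat.gcd (q ^ 2 + 2) x ∣ 3 → Nat.Coprime (q ^ 2 + 2) x := fun x hx =>
      Nat.eq_one_of_dvd_coprimes hco hx (Nat.gcd_dvd_left _ _)
    have c1 : Nat.Coprime (q ^ 2 + 2) (q ^ 6) := by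
      rw [hq, ← pow_mul, ← pow_mul]
      exact Nat.Coprime.pow_right _ (by rw [pow_mul]; exact hco.symm)
    have c2 : Nat.Coprime (q ^ 2 + 2) v := key v (by
      refine (Nat.dvd_add_right (Nat.gcd_dvd_right (q ^ 2 + 2) v)).mp ?_
      rw [show v + 3 = q ^ 2 + 2 by omega]; exact Nat.gcd_dvd_left _ _)
    have c3 : Nat.Coprime (q ^ 2 + 2) (q ^ 4 + q ^ 2 + 1) := key _ (by
      have e1 : (q ^ 2 + 2) ∣ (q ^ 4 + 2 * q ^ 2) := ⟨q ^ 2, by ring⟩
      have h1 := (Nat.gcd_dvd_left (q ^ 2 + 2) (q ^ 4 + q ^ 2 + 1)).trans e1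
      have h2 := Nat.gcd_dvd_right (q ^ 2 + 2) (q ^ 4 + q ^ 2 + 1)
      have h3 := Nat.gcd_dvd_left (q ^ 2 + 2) (q ^ 4 + q ^ 2 + 1)
      have h4 : Nat.gcd (q ^ 2 + 2) (q ^ 4 + q ^ 2 + 1) ∣ (q ^ 4 + q ^ 2 + 1) + (q ^ 2 + 2) := dvd_add h2 h3
      rw [show q ^ 4 + q ^ 2 + 1 + (q ^ 2 + 2) = q ^ 4 + 2 * q ^ 2 + 3 by ring] at h4
      exact (Nat.dvd_add_right h1).mp h4)
    have h1 := ((c1.mul_right c2).mul_right c3).eq_one_of_dvd hd'
    nlinarith
  have hapos : a ≤ i := Nat.le_of_dvd hipos hai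
  have hb' : b ≤ ((i : ℤ) - 2).natAbs :=
    Nat.le_of_dvd (Int.natAbs_pos.mpr (by omega)) (Int.natCast_dvd.mp hbZ)
  have hc' : c ≤ i + 1 := Nat.le_of_dvd (by omega) hc1
  have hkpos : 0 < k := by nlinarith
  have hpos : 0 < a * b * b * c := by
    have ha0 : 0 < a := Nat.gcd_pos_of_pos_left _ hkpos
    have hb0 : 0 < b := Nat.gcd_pos_of_pos_left _ hkpos
    have hc0 : 0 < c := Nat.gcd_pos_of_pos_left _ hkpos
    positivity
  have hle := Nat.le_of_dvd hpos habc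
  by_cases hiq : i = q + 1
  · have ha1 : a = 1 := by
      rw [he] at hai ⊢
      rcases Nat.eq_zero_or_pos e with rfl | hepos
      · simp
      · have h3i : 3 ∣ i := (dvd_pow_self 3 hepos.ne').trans hai
        rw [hiq] at h3i
        have := (Nat.dvd_add_right h3q).mp h3i
        omega
    have hbq : b ≤ q := le_trans hb' (by omega)
    have : k ≤ 1 * q * q * (q + 2) := le_trans hle (by rw [ha1]; gcongr; omega)
    nlinarith
  · have haq : a ≤ q := le_trans hapos (by omega)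
    have hbq : b + 2 ≤ q := by omega
    have hcq : c ≤ q + 1 := by omega
    obtain ⟨w, hw⟩ : ∃ w, q = w + 9 := ⟨q - 9, by omega⟩
    have : k ≤ (w + 9) * (w + 7) * (w + 7) * (w + 10) := le_trans hle (by gcongr <;> omega)
    rw [hw] at hk hi
    nlinarith

end CfsgLib.GTwoDeg
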