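import Cfsg.Agent.Lib.GTwoDeg.Three
import Cfsg.Agent.Lib.GTwoDeg.ThreeArith
import Cfsg.Agent.Lib.Characters.Values
import Cfsg.Agent.Lib.CharBound.Irreducible

set_option autoImplicit false
set_option linter.unusedSectionVars false

/-!
Lower bounds for the degrees of the irreducible representations of `G₂(F)`.
-/

namespace CfsgLib.GTwoDeg

open Cfsg.Lie CfsgLib.ChevStr Matrix

variable {F : Type*} [Field F] [Fintype F] [DecidableEq F]
variable {V : Type*} [AddCommGroup V] [Module ℂ V] [FiniteDimensional ℂ V] (ρ : Representation ℂ (G2g F) V)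

theorem char_three_of_mod (h : Fintype.card F % 3 = 0) : (3 : F) = 0 ∧ ∃ n, Fintype.card F = 3 ^ n := by
  obtain ⟨n, hp, hn⟩ := FiniteField.card F (ringChar F)
  have h3 : ringChar F = 3 := by
    have hd : 3 ∣ ringChar F ^ (n : ℕ) := hn ▸ Nat.dvd_of_mod_eq_zero h
    exact ((Nat.prime_dvd_prime_iff_eq Nat.prime_three hp).mp (Nat.prime_three.dvd_of_dvd_pow hd)).symm
  refine ⟨?_, n, by rw [hn, h3]⟩
  have := CharP.cast_eq_zero F (ringChar F)
  rw [h3] at this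
  exact_mod_cast this

theorem bound_zero (hirr : ρ.IsIrreducible) (hnt : ∃ g, ρ g ≠ 1) (hmod : Fintype.card F % 3 = 0)
    (hq : 3 < Fintype.card F) :
    Fintype.card F ^ 4 + Fintype.card F ^ 2 + 1 ≤ Module.finrank ℂ V := by
  classical
  obtain ⟨h3, n, hn⟩ := char_three_of_mod (F := F) hmod
  have hn2 : 2 ≤ n := by
    by_contra hcon
    interval_cases n <;> simp_all
  have h9 : 9 ≤ Fintype.card F := hn ▸ le_trans (by norm_num : 9 ≤ 3 ^ 2) (Nat.pow_le_pow_right (by norm_num) hn2)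
  by_contra hlt
  have hsh := three_shape ρ h3 h9 hnt
  haveI := hirr
  have hd := CfsgLib.Characters.degree_dvd_card ρ
  rw [card_G2g] at hd
  obtain ⟨i, hi⟩ : ∃ i, Module.finrank ℂ V + i = Fintype.card F ^ 4 + Fintype.card F ^ 2 :=
    ⟨Fintype.card F ^ 4 + Fintype.card F ^ 2 - Module.finrank ℂ V, by omega⟩
  rw [hn] at hd hi hsh
  refine dvd_bound (n := n) (k := Module.finrank ℂ V) (i := i) hn2 (by omega) hi ?_
  obtain ⟨v, hv⟩ : ∃ v, (3 ^ n) ^ 2 = v + 1 := ⟨(3 ^ n) ^ 2 - 1, by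
    have := Nat.one_le_pow 2 (3 ^ n) (by positivity); omega⟩
  have e6 : (3 ^ n) ^ 6 - 1 = v * ((3 ^ n) ^ 4 + (3 ^ n) ^ 2 + 1) := by
    refine Nat.sub_eq_of_eq_add ?_
    rw [show (3 ^ n) ^ 6 = ((3 ^ n) ^ 2) ^ 3 by ring, show (3 ^ n) ^ 4 = ((3 ^ n) ^ 2) ^ 2 by ring, hv]
    ring
  rw [e6] at hd
  rw [show (3 ^ n) ^ 2 - 1 = v by omega] at hd ⊢
  rw [mul_assoc ((3 ^ n) ^ 6 * v), mul_assoc ((3 ^ n) ^ 6)]
  exact hd

end CfsgLib.GTwoDeg
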