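import Cfsg.Agent.Lib.GTwoDeg.HeckeSum

set_option autoImplicit false
set_option linter.unusedSectionVars false

/-!
The two bounds in characteristic other than three.
-/

namespace CfsgLib.GTwoDeg

open Cfsg.Lie CfsgLib.ChevStr Matrix

variable {F : Type*} [Field F] [Fintype F] [DecidableEq F]
variable {V : Type*} [AddCommGroup V] [Module ℂ V] [FiniteDimensional ℂ V] (ρ : Representation ℂ (G2g F) V)

theorem three_ne_zero_of_mod (h : Fintype.card F % 3 ≠ 0) : (3 : F) ≠ 0 := by
  intro h3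
  have hp : ringChar F = 3 := by
    rcases (Nat.dvd_prime Nat.prime_three).mp (ringChar.dvd (show ((3 : ℕ) : F) = 0 by exact_mod_cast h3)) with e | e
    · exact absurd e (CharP.ringChar_ne_one)
    · exact e
  obtain ⟨n, -, hn⟩ := FiniteField.card F (ringChar F)
  rw [hn, hp] at h
  exact h (Nat.mod_eq_zero_of_dvd (dvd_pow_self 3 n.ne_zero))

theorem bound_one (hirr : ρ.IsIrreducible) (hk : 2 ≤ Module.finrank ℂ V) (hnt : ∃ g, ρ g ≠ 1)
    (hmod : Fintype.card F % 3 = 1) (hq : 4 < Fintype.card F) :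
    Fintype.card F ^ 3 + 1 ≤ Module.finrank ℂ V := by
  by_contra hlt
  have h3 := three_ne_zero_of_mod (F := F) (by omega)
  obtain ⟨hge, hshape⟩ := not_three_shape ρ h3 (by omega) hnt
  obtain ⟨hM, hkc, h1, htri⟩ := hshape (by omega)
  rcases Nat.eq_zero_or_pos (r4 ρ 0) with hc | hc
  · haveI : Fact (Nat.Prime 3) := ⟨Nat.prime_three⟩
    obtain ⟨w, hw⟩ := exists_prime_orderOf_dvd_card (G := Fˣ) 3
      (by rw [Fintype.card_units]; omega)
    refine no_degree (ρ := ρ) ⟨hc, h1, htri⟩ (by omega) hM (by omega) h3 w ?_ ?_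
    · rw [← hw]; exact pow_orderOf_eq_one w
    · intro h; rw [h, orderOf_one] at hw; omega
  · exact no_line (ρ := ρ) (show r4 ρ 0 = 1 by omega) (by omega) hirr hk (by omega)

theorem bound_two (hnt : ∃ g, ρ g ≠ 1) (hmod : Fintype.card F % 3 = 2) (hq : 2 < Fintype.card F) :
    Fintype.card F ^ 3 - 1 ≤ Module.finrank ℂ V :=
  (not_three_shape ρ (three_ne_zero_of_mod (F := F) (by omega)) (by omega) hnt).1

end CfsgLib.GTwoDeg
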