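import Cfsg.Agent.Lib.GTwoDeg.Basic

set_option autoImplicit false
set_option linter.unusedSectionVars false

/-!
The bound `q³ - 1` in characteristic other than three, and the shape of a representation of degree at most `q³`.
-/

namespace CfsgLib.GTwoDeg

open Cfsg.Lie Matrix CfsgLib.KnownSimple.ModulePerm CfsgLib.SLMinDeg

variable {F : Type*} [Field F] [Fintype F] [DecidableEq F]
variable {V : Type*} [AddCommGroup V] [Module ℂ V] [FiniteDimensional ℂ V] (ρ : Representation ℂ (G2g F) V)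

omit [FiniteDimensional ℂ V] in
theorem c_commute_T2 (u : F) (w : Fin 2 → F) : Commute (ρ (X 8 u)) (T2 ρ w) := by
  rw [T2, map_mul]
  refine Commute.mul_right ?_ ?_ <;> show _ * _ = _ * _ <;> rw [← map_mul, ← map_mul]
  · rw [(comm_pair (r := 11) (s := 8) (by simp) (w 0) u).eq]
  · rw [(comm_pair (r := 6) (s := 8) (by simp) (w 1) u).eq]

omit [FiniteDimensional ℂ V] in
theorem d_commute_T2 (u : F) (w : Fin 2 → F) : Commute (ρ (X 9 u)) (T2 ρ w) := by
  rw [T2, map_mul]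
  refine Commute.mul_right ?_ ?_ <;> show _ * _ = _ * _ <;> rw [← map_mul, ← map_mul]
  · rw [(comm_pair (r := 11) (s := 9) (by simp) (w 0) u).eq]
  · rw [(comm_pair (r := 6) (s := 9) (by simp) (w 1) u).eq]

/-- On a non-trivial central character the short root group `X₈` has no trace. -/
theorem trace_c (h3 : (3 : F) ≠ 0) (u : F) (hu : u ≠ 0) :
    LinearMap.trace ℂ V (ρ (X 8 u) * pr (T2 ρ) ![1, 0]) = 0 := by
  set P := pr (T2 ρ) ![1, 0] with hP
  obtain ⟨x, hx⟩ := (exists_char F).choose_spec (-(3 * u)) (neg_ne_zero.mpr (mul_ne_zero h3 hu))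
  have hdP : Commute (ρ (X 9 x)) P := pr_commute (d_commute_T2 ρ x) _
  have hz : ∀ c, ρ (X 11 c) * P = chi F c • P := fun c => by
    have h := T_mul_pr (T2_add ρ) ![c, 0] ![1, 0]
    rw [show T2 ρ ![c, 0] = ρ (X 11 c) by simp [T2, X_zero]] at h
    rw [hP, h]; simp [dotProduct, Fin.sum_univ_two]
  have e : (X 9 x * X 8 u : G2g F) = X 8 u * X 11 (-(3 * u) * x) * X 9 x := by
    have h : (X 8 u * X 9 x : G2g F) = X 9 x * X 11 (3 * u * x) * X 8 u := mul_inv_eq_iff_eq_mul.mp (c_d u x)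
    rw [(comm_pair (r := 11) (s := 8) (by simp) (-(3 * u) * x) u).symm.eq, mul_assoc, h, ← mul_assoc, ← mul_assoc,
      (comm_pair (r := 11) (s := 9) (by simp) (-(3 * u) * x) x).eq, mul_assoc (X 9 x) (X 11 _), ← X_add,
      show -(3 * u) * x + 3 * u * x = 0 by ring, X_zero, mul_one]
  have h := trace_conj ρ (g := X 9 x) (A := ρ (X 8 u) * P) (B := chi F (-(3 * u) * x) • (ρ (X 8 u) * P)) (by
    rw [← mul_assoc, ← map_mul, e, map_mul, map_mul, mul_assoc _ (ρ (X 9 x)), hdP.eq, ← mul_assoc,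
      mul_assoc (ρ (X 8 u)), hz, mul_smul_comm, smul_mul_assoc])
  rw [map_smul, smul_eq_mul] at h
  by_contra hne
  refine hx (mul_right_cancel₀ hne ?_)
  rw [one_mul]; exact h.symm

/-- The central weight is a multiple of `q`. -/
theorem q_dvd_M0 (h3 : (3 : F) ≠ 0) : Fintype.card F ∣ M0 ρ := by
  classical
  set P := pr (T2 ρ) ![1, 0] with hP
  have hcP : Commute (avg ρ 8) P := by
    rw [avg]
    exact (Commute.sum_left _ _ _ fun t _ => pr_commute (c_commute_T2 ρ t) _).smul_left _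
  have hPP : P * P = P := by rw [hP, pr_mul_pr (T2_add ρ), if_pos rfl]
  have hidem : avg ρ 8 * P * (avg ρ 8 * P) = avg ρ 8 * P := by
    rw [mul_assoc, ← mul_assoc P, ← hcP.eq, mul_assoc (avg ρ 8), hPP, ← mul_assoc, avg_idem]
  have htr : LinearMap.trace ℂ V (avg ρ 8 * P) = (Fintype.card F : ℂ)⁻¹ * (M0 ρ : ℂ) := by
    rw [avg, smul_mul_assoc, map_smul, Finset.sum_mul, map_sum, Finset.sum_eq_single (0 : F)
      (fun u _ hu => trace_c ρ h3 u hu) (by simp), X_zero, map_one, one_mul, smul_eq_mul, M0, r2,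
      mult_eq (T2_add ρ)]
  rw [trace_eq_finrank_range _ hidem] at htr
  refine ⟨Module.finrank ℂ (LinearMap.range (avg ρ 8 * P)), ?_⟩
  have h : ((Fintype.card F * Module.finrank ℂ (LinearMap.range (avg ρ 8 * P)) : ℕ) : ℂ) = (M0 ρ : ℂ) := by
    rw [Nat.cast_mul, htr, ← mul_assoc, mul_inv_cancel₀ (Nat.cast_ne_zero.mpr Fintype.card_ne_zero), one_mul]
  exact_mod_cast h.symm

/-- The bound, and what equality up to `q³` means. -/
theorem not_three_shape (h3 : (3 : F) ≠ 0) (hq : 5 ≤ Fintype.card F) (hnt : ∃ g, ρ g ≠ 1) :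
    Fintype.card F ^ 3 - 1 ≤ Module.finrank ℂ V ∧
    (Module.finrank ℂ V ≤ Fintype.card F ^ 3 → M0 ρ = Fintype.card F ∧
      Module.finrank ℂ V + 1 = Fintype.card F ^ 3 + r4 ρ 0 ∧ r4 ρ ![0, 0, 0, 1] = 1 ∧
      ∀ l, l ≠ 0 → r4 ρ l ≠ 0 → IsTri l) := by
  classical
  obtain ⟨hk, hN⟩ := main_identity ρ
  obtain ⟨m, hm⟩ := q_dvd_M0 ρ h3
  have hMpos := M0_pos ρ (by omega) hnt
  have hex : ∃ l : Fin 4 → F, l ≠ 0 ∧ r4 ρ l ≠ 0 := by
    by_contra hcon
    push Not at hcon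
    have h0 : ∑ l ∈ Finset.univ.filter (fun l : Fin 4 → F => l 0 ≠ 0), r4 ρ l = 0 :=
      Finset.sum_eq_zero fun l hl => hcon l fun h => (Finset.mem_filter.mp hl).2 (by rw [h]; rfl)
    rw [h0] at hN
    have : 0 < (Fintype.card F - 1) * M0 ρ := Nat.mul_pos (by omega) hMpos
    omega
  obtain ⟨hS, hsmall⟩ := cubic_total (cubicInv ρ) h3 hq hex
  have hD : D ρ = r4 ρ 0 + ∑ l ∈ Finset.univ.erase (0 : Fin 4 → F), r4 ρ l :=
    (Finset.add_sum_erase Finset.univ _ (Finset.mem_univ _)).symm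
  have hm1 : 1 ≤ m := Nat.pos_of_ne_zero fun h => by rw [h, mul_zero] at hm; omega
  generalize hSdef : ∑ l ∈ Finset.univ.erase (0 : Fin 4 → F), r4 ρ l = S at hS hsmall hD
  obtain ⟨w, hw⟩ : ∃ w, Fintype.card F = w + 5 := ⟨Fintype.card F - 5, by omega⟩
  rw [hw, show w + 5 - 1 = w + 4 by omega] at hk hS
  rw [hm, hw] at hk
  rw [hw] at hsmall ⊢
  constructor
  · have : (w + 5) * (w + 4) * ((w + 5) * 1) ≤ (w + 5) * (w + 4) * ((w + 5) * m) := by gcongr
    have h1 : 1 ≤ (w + 5) ^ 3 := Nat.one_le_pow _ _ (by omega)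
    zify [h1] at *
    nlinarith
  · intro hle
    have hm2 : m = 1 := by
      by_contra hne
      have : (w + 5) * (w + 4) * ((w + 5) * 2) ≤ (w + 5) * (w + 4) * ((w + 5) * m) := by gcongr; omega
      nlinarith
    subst hm2
    obtain ⟨h1, htri⟩ := hsmall (by nlinarith)
    refine ⟨by rw [hm, hw, mul_one], ?_, h1, htri⟩
    have hT : S = (w + 6) * (w + 4) := by
      rw [← hSdef, ← Finset.sum_subset (s₁ := Finset.univ.image (tri (F := F))) (fun x hx => Finset.mem_erase.mpr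
        ⟨fun h => zero_not_tri (h ▸ hx), Finset.mem_univ _⟩) (fun x hx hxi => by
          by_contra hne
          obtain ⟨p, hp⟩ := htri x (Finset.ne_of_mem_erase hx) hne
          exact hxi (Finset.mem_image.mpr ⟨p, Finset.mem_univ _, hp⟩)), ← sum_tri (cubicInv ρ) h3, h1, mul_one, hw]
      rfl
    nlinarith

end CfsgLib.GTwoDeg
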