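import Cfsg.Agent.Lib.GTwoDeg.NotThree

set_option autoImplicit false
set_option linter.unusedSectionVars false

/-!
`q ≡ 1 (mod 3)`: no representation of degree `q³ - 1`.  An element of order three centralising the long root
groups has an eigenspace containing `q²` independent translates of a cuspidal piece.
-/

namespace CfsgLib.GTwoDeg

open Cfsg.Lie Matrix CfsgLib.KnownSimple.ModulePerm CfsgLib.SLMinDeg

variable {F : Type*} [Field F] [Fintype F] [DecidableEq F]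
variable {V : Type*} [AddCommGroup V] [Module ℂ V] (ρ : Representation ℂ (G2g F) V)

/-- The root of the `i`-th coordinate. -/
def coordRoot : Fin 4 → ℕ := ![6, 8, 9, 10]

theorem avg_T4 {i : Fin 4} (hi : i = 0 ∨ i = 3) :
    avg ρ (coordRoot i) * eZ ρ = (Fintype.card F : ℂ)⁻¹ • ∑ u : F, T4 ρ (Pi.single i u) := by
  refine avg_eq ρ i fun u => ?_
  rcases hi with rfl | rfl
  · rw [show (Pi.single (0 : Fin 4) u : Fin 4 → F) = ![u, 0, 0, 0] by funext j; fin_cases j <;> simp]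
    exact T4_single ρ u
  · rw [show (Pi.single (3 : Fin 4) u : Fin 4 → F) = ![0, 0, 0, u] by funext j; fin_cases j <;> simp]
    simp [T4, A_zero, coordRoot, eZ_idem, eZ_A ρ (show (10 : ℕ) ∈ [6, 8, 9, 10] by simp)]
    rfl

theorem avg_pr {i : Fin 4} (hi : i = 0 ∨ i = 3) (l : Fin 4 → F) :
    avg ρ (coordRoot i) * eZ ρ * pr (T4 ρ) l = if l i = 0 then pr (T4 ρ) l else 0 := by
  have hs := sum_chi (F := F) (κ := Fin 1) (fun _ => l i)
  rw [← (Equiv.funUnique (Fin 1) F).symm.sum_comp] at hs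
  simp [dotProduct, Equiv.funUnique, funext_iff] at hs
  rw [avg_T4 ρ hi, smul_mul_assoc, Finset.sum_mul]
  simp only [T_mul_pr (T4_add ρ), dotProduct_single, ← Finset.sum_smul, smul_smul, hs]
  split_ifs
  · rw [inv_mul_cancel₀ (Nat.cast_ne_zero.mpr Fintype.card_ne_zero), one_smul]
  · rw [mul_zero, zero_smul]

/-- The projection on the fixed space of `X₆ X₁₁`. -/
noncomputable def P0 : Module.End ℂ V := avg ρ 6 * eZ ρ

theorem avg_rad_commute {r : ℕ} (hr : r ∈ [6, 8, 9, 10]) : Commute (avg ρ r) (eZ ρ) := by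
  rw [avg]; exact (Commute.sum_left _ _ _ fun t _ => rad_commute ρ hr t).smul_left _

theorem P0_idem : P0 ρ * P0 ρ = P0 ρ := by
  rw [P0, mul_assoc, ← mul_assoc (eZ ρ), ← (avg_rad_commute ρ (by simp)).eq, mul_assoc, eZ_idem, ← mul_assoc,
    avg_idem]

theorem P0_eZ : P0 ρ * eZ ρ = P0 ρ := by rw [P0, mul_assoc, eZ_idem]

theorem eZ_P0 : eZ ρ * P0 ρ = P0 ρ := by
  rw [P0, ← mul_assoc, ← (avg_rad_commute ρ (by simp)).eq, mul_assoc, eZ_idem]

theorem P0_z (t : F) : P0 ρ * ρ (X 11 t) = P0 ρ := by rw [P0, mul_assoc, eZ, avg_mul_X]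

theorem P0_b (t : F) : P0 ρ * ρ (X 6 t) = P0 ρ := by
  rw [P0, mul_assoc, ← (rad_commute ρ (by simp) t).eq, ← mul_assoc, avg_mul_X]

theorem P0_sum : P0 ρ = ∑ l : Fin 4 → F, if l 0 = 0 then pr (T4 ρ) l else 0 := by
  conv_lhs => rw [← P0_eZ ρ, ← T4_zero ρ, ← sum_pr (T := T4 ρ), Finset.mul_sum]
  refine Finset.sum_congr rfl fun l _ => ?_
  exact avg_pr ρ (i := 0) (Or.inl rfl) l

theorem avg10_P0_comm : Commute (avg ρ 10) (P0 ρ) := by
  rw [avg]
  refine (Commute.sum_left _ _ _ fun t _ => ?_).smul_left _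
  show _ * _ = _ * _
  rw [P0, mul_assoc, ← (rad_commute ρ (show (10 : ℕ) ∈ [6, 8, 9, 10] by simp) t).eq, avg]
  simp only [smul_mul_assoc, mul_smul_comm, Finset.mul_sum, Finset.sum_mul]
  congr 1
  refine Finset.sum_congr rfl fun u _ => ?_
  rw [← mul_assoc (ρ (X 6 u)), ← mul_assoc (ρ (X 10 t)), ← map_mul, ← map_mul,
    swap_eZ ρ (rad_commute ρ (by simp) u) (b_e u t)]

variable [FiniteDimensional ℂ V]

/-- The hypotheses on the weights. -/
def OnlyTri : Prop :=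
  r4 ρ 0 = 0 ∧ r4 ρ ![0, 0, 0, 1] = 1 ∧ ∀ l, l ≠ 0 → r4 ρ l ≠ 0 → IsTri l

theorem tri_base {l : Fin 4 → F} (h : IsTri l) (h0 : l 0 = 0) : l 1 = 0 ∧ l 2 = 0 ∧ l 3 ≠ 0 := by
  obtain ⟨⟨_ | t, e⟩, rfl⟩ := h
  · simp [tri] at h0
  · obtain rfl : t = 0 := by simpa [tri, shift] using h0
    simp [tri, shift]

/-- The centre and the long fundamental root group, cut by an operator. -/
noncomputable def T2c (E : Module.End ℂ V) (v : Fin 2 → F) : Module.End ℂ V := T2 ρ v * E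

section Cut

variable {E : Module.End ℂ V} (hE : E * E = E) (hET : ∀ v, Commute E (T2 ρ v))

include hE hET

theorem T2c_add (v v' : Fin 2 → F) : T2c ρ E v * T2c ρ E v' = T2c ρ E (v + v') := by
  rw [T2c, T2c, T2c, mul_assoc, ← mul_assoc E, (hET v').eq, mul_assoc (T2 ρ v'), hE, ← mul_assoc, T2_add]

omit hE hET in
theorem T2c_zero : T2c ρ E 0 = E := by rw [T2c, T2_zero, one_mul]

omit hE hET in
theorem pr_T2c (l : Fin 2 → F) : pr (T2c ρ E) l = pr (T2 ρ) l * E := by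
  simp [pr, T2c, smul_mul_assoc, Finset.sum_mul]

theorem T2c_eq (h10 : ∀ s : F, Commute (ρ (X 10 s)) E) (hH : ∀ c : Fˣ, Commute (ρ (H 1 c)) E) {l : Fin 2 → F}
    (hl : l 0 ≠ 0) : mult (T2c ρ E) l = mult (T2c ρ E) ![1, 0] := by
  have hadd := T2c_add ρ hE hET
  have h1 : mult (T2c ρ E) ![l 0, 0] = mult (T2c ρ E) l := by
    set s := l 1 / l 0 with hs
    refine mult_perm hadd (Y := ρ (X 10 s)⁻¹) (X := ρ (X 10 s)) (rho_inv_mul ρ _)
      (Equiv.ofBijective (fun v => ![v 0 - s * v 1, v 1]) (Finite.injective_iff_bijective.mp fun v v' h => ?_))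
      (fun v => ?_) l ![l 0, 0] fun v => ?_
    · have e1 : v 1 = v' 1 := congrFun h 1
      have e0 : v 0 = v' 0 := by have := congrFun h 0; simpa [e1] using this
      funext i; fin_cases i <;> assumption
    · show ρ (X 10 s) * (T2 ρ v * E) = T2 ρ ![v 0 - s * v 1, v 1] * E * ρ (X 10 s)
      rw [← mul_assoc, e_T2, mul_assoc, (h10 s).eq, mul_assoc]
    · have e : s * l 0 = l 1 := by rw [hs, div_mul_cancel₀ _ hl]
      simp [dotProduct, Fin.sum_univ_two]; linear_combination (-(v 1)) * e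
  rw [← h1]
  set c : Fˣ := Units.mk0 _ hl with hc
  obtain ⟨⟨w6, -, -, -, w11⟩, -⟩ := wt_table (1 : Fˣ) c
  refine mult_perm hadd (Y := ρ (H 1 c)⁻¹) (X := ρ (H 1 c)) (rho_inv_mul ρ _)
    (Equiv.ofBijective (fun v => ![(wt 1 c 11 : F) * v 0, (wt 1 c 6 : F) * v 1])
      (Finite.injective_iff_bijective.mp fun v v' h => ?_)) (fun v => ?_) ![1, 0] ![l 0, 0] fun v => ?_
  · have e0 := congrFun h 0
    have e1 := congrFun h 1
    simp at e0 e1
    funext i; fin_cases i <;> assumption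
  · show ρ (H 1 c) * (T2 ρ v * E) = T2 ρ ![(wt 1 c 11 : F) * v 0, (wt 1 c 6 : F) * v 1] * E * ρ (H 1 c)
    rw [← mul_assoc, mul_assoc (T2 ρ _), ← (hH c).eq, ← mul_assoc]
    congr 1
    rw [T2, T2, ← map_mul, ← map_mul]
    congr 1
    show _ = X 11 ((wt 1 c 11 : F) * v 0) * X 6 ((wt 1 c 6 : F) * v 1) * H 1 c
    rw [← H_conj 1 c (by norm_num : 11 < 12), ← H_conj 1 c (by norm_num : 6 < 12)]
    group
  · rw [w11]; simp [dotProduct, Fin.sum_univ_two, hc]

/-- The moved part of the cut operator. -/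
theorem T2c_trace (h10 : ∀ s : F, Commute (ρ (X 10 s)) E) (hH : ∀ c : Fˣ, Commute (ρ (H 1 c)) E) :
    LinearMap.trace ℂ V E = LinearMap.trace ℂ V (eZ ρ * E) +
      ((Fintype.card F * (Fintype.card F - 1) * mult (T2c ρ E) ![1, 0] : ℕ) : ℂ) := by
  classical
  have hadd := T2c_add ρ hE hET
  have ht := trace_avg_mul ρ hadd 0 (r := 11) (E := E) fun u => by simp [T2c, T2, X_zero]
  have hsum := trace_T_zero hadd
  rw [T2c_zero] at hsum
  rw [hsum, eZ, ht, ← Nat.cast_add, Nat.cast_inj,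
    ← Finset.sum_filter_add_sum_filter_not Finset.univ (fun l : Fin 2 → F => l 0 = 0) (mult (T2c ρ E))]
  congr 1
  rw [Finset.sum_congr rfl (fun l hl => T2c_eq ρ hE hET h10 hH (Finset.mem_filter.mp hl).2), Finset.sum_const,
    smul_eq_mul, show (Finset.univ.filter fun l : Fin 2 → F => ¬ l 0 = 0) =
      ((Finset.univ.erase (0 : F)) ×ˢ (Finset.univ : Finset F)).map (finTwoArrowEquiv F).symm.toEmbedding by
      ext l
      simp only [Finset.mem_map_equiv, Finset.mem_product, Finset.mem_erase, Finset.mem_filter, Finset.mem_univ,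
        true_and, and_true]
      rfl,
    Finset.card_map, Finset.card_product, Finset.card_erase_of_mem (Finset.mem_univ _), Finset.card_univ]
  ring

end Cut

variable {ρ} (hw : OnlyTri ρ)

include hw

theorem pr_support {l : Fin 4 → F} (h : pr (T4 ρ) l ≠ 0) (h0 : l 0 = 0) : l 1 = 0 ∧ l 2 = 0 ∧ l 3 ≠ 0 := by
  have hne : r4 ρ l ≠ 0 := mult_ne_zero h
  exact tri_base (hw.2.2 l (fun hl => hne (hl ▸ hw.1)) hne) h0

theorem avg10_P0 : avg ρ 10 * P0 ρ = 0 := by
  rw [← eZ_P0, ← mul_assoc, P0_sum, Finset.mul_sum]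
  refine Finset.sum_eq_zero fun l _ => ?_
  split_ifs with h0
  · rw [show avg ρ 10 * eZ ρ = avg ρ (coordRoot 3) * eZ ρ from rfl, avg_pr ρ (Or.inr rfl)]
    split_ifs with h3
    · by_contra hne
      exact (pr_support hw hne h0).2.2 h3
    · rfl
  · rw [mul_zero]

theorem P0_avg10 : P0 ρ * avg ρ 10 = 0 := by rw [← (avg10_P0_comm ρ).eq, avg10_P0 hw]

theorem P0_avg1 : P0 ρ * avg ρ 1 = 0 := by
  set n : G2g F := N iB * N iA with hn
  have c : ∀ {r r' r'' : ℕ} {e e' : F}, e ≠ 0 → e' ≠ 0 → (∀ t, N iA * X r t * (N iA)⁻¹ = X r' (e * t)) →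
      (∀ t, N iB * X r' t * (N iB)⁻¹ = (X r'' (e' * t) : G2g F)) → ρ n * avg ρ r = avg ρ r'' * ρ n := by
    intro r r' r'' e e' he he' h1 h2
    rw [hn, map_mul, mul_assoc, conj_avg ρ (Equiv.mulLeft₀ e he) h1, ← mul_assoc,
      conj_avg ρ (Equiv.mulLeft₀ e' he') h2, mul_assoc]
  have h1 : ρ n * avg ρ 6 = avg ρ 11 * ρ n :=
    c one_ne_zero one_ne_zero (fun t => by rw [NA_6, one_mul]) (fun t => by rw [NB_10, one_mul])
  have h2 : ρ n * avg ρ 11 = avg ρ 10 * ρ n :=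
    c (e' := -1) one_ne_zero (neg_ne_zero.mpr one_ne_zero) (fun t => by rw [NA_11, one_mul])
      fun t => by rw [NB_11, neg_one_mul]
  have h3 : ρ n * avg ρ 1 = avg ρ 6 * ρ n :=
    c (r' := 5) (e := -1) (e' := -1) (neg_ne_zero.mpr one_ne_zero) (neg_ne_zero.mpr one_ne_zero)
      (fun t => by
        rw [N_conj _ (by norm_num : (1 : ℕ) < 12), show Chev.G2.cert.T.piRoot (iA : ℕ) 1 = 5 by decide +kernel,
          show Chev.G2.cert.T.eta (iA : ℕ) 1 = -1 by decide +kernel]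
        push_cast; rfl)
      fun t => by rw [NB_5, neg_one_mul]
  have h : ρ n * (P0 ρ * avg ρ 1) = avg ρ 11 * avg ρ 10 * avg ρ 6 * ρ n := by
    rw [P0, eZ, ← mul_assoc, ← mul_assoc, h1, mul_assoc (avg ρ 11), h2, ← mul_assoc,
      mul_assoc (avg ρ 11 * avg ρ 10), h3, ← mul_assoc]
  have hz : avg ρ 11 * avg ρ 10 * avg ρ 6 = 0 := by
    show eZ ρ * avg ρ 10 * avg ρ 6 = 0
    rw [← (avg_rad_commute ρ (show (10 : ℕ) ∈ [6, 8, 9, 10] by simp)).eq, mul_assoc,
      ← (avg_rad_commute ρ (show (6 : ℕ) ∈ [6, 8, 9, 10] by simp)).eq]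
    exact avg10_P0 hw
  rw [hz, zero_mul] at h
  calc P0 ρ * avg ρ 1 = ρ n⁻¹ * (ρ n * (P0 ρ * avg ρ 1)) := by rw [← mul_assoc, rho_inv_mul, one_mul]
    _ = 0 := by rw [h, mul_zero]

theorem trace_P0 : LinearMap.trace ℂ V (P0 ρ) = ((Fintype.card F - 1 : ℕ) : ℂ) := by
  have h : ∀ l : Fin 4 → F, LinearMap.trace ℂ V (if l 0 = 0 then pr (T4 ρ) l else 0) =
      ((if l 0 = 0 ∧ l 1 = 0 ∧ l 2 = 0 ∧ l 3 ≠ 0 then 1 else 0 : ℕ) : ℂ) := by
    intro l
    by_cases h0 : l 0 = 0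
    · rw [if_pos h0]
      by_cases hs : l 1 = 0 ∧ l 2 = 0 ∧ l 3 ≠ 0
      · rw [if_pos ⟨h0, hs⟩, ← mult_eq (T4_add ρ), Nat.cast_inj]
        have e : l = tri (some 0, Units.mk0 _ hs.2.2) := by
          funext i; fin_cases i <;> simp [tri, shift, h0, hs.1, hs.2.1]
        show r4 ρ l = 1
        rw [e, r_tri (cubicInv ρ), hw.2.1]
      · rw [if_neg (fun h => hs h.2), Nat.cast_zero]
        by_cases hp : pr (T4 ρ) l = 0
        · rw [hp, map_zero]
        · exact absurd (pr_support hw hp h0) hs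
    · simp [h0]
  rw [P0_sum, map_sum, Finset.sum_congr rfl fun l _ => h l, ← Nat.cast_sum]
  congr 1
  rw [Finset.sum_boole, Nat.cast_id, show Fintype.card F - 1 = ((Finset.univ : Finset F).erase 0).card by
    rw [Finset.card_erase_of_mem (Finset.mem_univ _), Finset.card_univ]]
  refine (Finset.card_bij (fun e _ => ![0, 0, 0, e]) ?_ ?_ ?_).symm
  · intro e he; simp [Finset.ne_of_mem_erase he]
  · intro a _ b _ h; simpa using congrFun h 3
  · intro l hl
    simp only [Finset.mem_filter, Finset.mem_univ, true_and] at hl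
    exact ⟨l 3, Finset.mem_erase.mpr ⟨hl.2.2.2, Finset.mem_univ _⟩, by
      funext i; fin_cases i <;> simp [hl.1, hl.2.1, hl.2.2.1]⟩

/-! ### The translates -/

/-- The abelian group of opposite elements. -/
noncomputable def opp (p : F × F) : G2g F := X 5 p.1 * X 0 p.2

omit hw [Fintype F] [DecidableEq F] in
theorem opp_mul (p p' : F × F) : opp p * opp p' = (opp (p + p') : G2g F) := by
  rw [opp, opp, opp, Prod.fst_add, Prod.snd_add, X_add, X_add]
  exact (comm_pair (r := 5) (s := 0) (by simp) p'.1 p.2).symm.mul_mul_mul_comm _ _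

omit hw [Fintype F] [DecidableEq F] in
theorem opp_inv (p : F × F) : (opp p : G2g F)⁻¹ = opp (-p) :=
  inv_eq_of_mul_eq_one_right (by rw [opp_mul, add_neg_cancel, opp, Prod.fst_zero, Prod.snd_zero, X_zero, X_zero,
    one_mul])

/-- A translate of the piece. -/
noncomputable def Pg (ρ : Representation ℂ (G2g F) V) (g : G2g F) : Module.End ℂ V := ρ g * P0 ρ * ρ g⁻¹

theorem P0_Pg {p : F × F} (hp : p ≠ 0) : P0 ρ * Pg ρ (opp p) = 0 := by
  have key : ∀ {g : G2g F} {r k : ℕ} {s : F}, s ≠ 0 → (∀ t, ρ (X r t) * P0 ρ = P0 ρ) →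
      (∀ t, P0 ρ * ρ (X r t) = P0 ρ) → P0 ρ * avg ρ k = 0 → (∀ t, g * X r t * g⁻¹ = X r t * X k (s * t)) →
      P0 ρ * Pg ρ g = 0 := by
    intro g r k s hs h1 h2 h3 h4
    have hy : ∀ t, P0 ρ * ρ (X k (s * t)) * Pg ρ g = P0 ρ * Pg ρ g := fun t => by
      have hfix : ρ (X r t * X k (s * t)) * Pg ρ g = Pg ρ g := by
        rw [← h4 t, Pg, ← mul_assoc, ← mul_assoc, ← map_mul, inv_mul_cancel_right, map_mul, mul_assoc (ρ g), h1]
      conv_rhs => rw [← hfix, map_mul, ← mul_assoc, ← mul_assoc, h2]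
    have h : P0 ρ * avg ρ k * Pg ρ g = P0 ρ * Pg ρ g := by
      rw [avg, mul_smul_comm, smul_mul_assoc, Finset.mul_sum, Finset.sum_mul,
        ← Equiv.sum_comp (Equiv.mulLeft₀ s hs)]
      show _ • ∑ t, P0 ρ * ρ (X k (s * t)) * Pg ρ g = _
      simp only [hy]
      rw [Finset.sum_const, Finset.card_univ, ← Nat.cast_smul_eq_nsmul ℂ, smul_smul,
        inv_mul_cancel₀ (Nat.cast_ne_zero.mpr Fintype.card_ne_zero), one_smul]
    rw [← h, h3, zero_mul]
  have hzP : ∀ t, ρ (X 11 t) * P0 ρ = P0 ρ := fun t => by rw [← eZ_P0 ρ, ← mul_assoc, z_eZ]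
  have hbP : ∀ t, ρ (X 6 t) * P0 ρ = P0 ρ := fun t => by rw [P0, ← mul_assoc, X_mul_avg]
  have caseNB : ∀ s : F, s ≠ 0 → P0 ρ * Pg ρ (X 5 s) = 0 := fun s hs =>
    key hs hzP (P0_z ρ) (P0_avg10 hw) fun t => nb_z s t
  have caseNZ : ∀ u : F, u ≠ 0 → P0 ρ * Pg ρ (X 0 u) = 0 := fun u hu => by
    refine key hu hbP (P0_b ρ) (P0_avg1 hw) fun t => ?_
    have h : (X 6 t * X 0 u : G2g F) = X 0 u * X 1 (-(t * u)) * X 6 t := mul_inv_eq_iff_eq_mul.mp (b_nz t u)
    rw [← (comm_pair (r := 1) (s := 6) (by simp) (u * t) t).eq, mul_inv_eq_iff_eq_mul, mul_assoc _ _ (X 0 u), h,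
      ← mul_assoc, ← mul_assoc, ← (comm_pair (r := 1) (s := 0) (by simp) (u * t) u).eq.symm,
      mul_assoc (X 0 u) (X 1 _), ← X_add, show u * t + -(t * u) = 0 by ring, X_zero, mul_one]
  obtain ⟨s, u⟩ := p
  by_cases hu : u = 0
  · subst hu
    rw [opp, X_zero, mul_one]
    exact caseNB s fun h => hp (by rw [h]; rfl)
  set l : G2g F := X 10 (-s / u) with hl
  have hlc : l * opp (s, u) * l⁻¹ = X 0 u := by
    rw [opp, show l * (X 5 s * X 0 u) * l⁻¹ = l * X 5 s * l⁻¹ * (l * X 0 u * l⁻¹) by group, hl, e_nz,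
      mul_inv_eq_iff_eq_mul.mpr (comm_pair (r := 10) (s := 5) (by simp) (-s / u) s).eq,
      show -s / u * u = -s by field_simp, ← (comm_pair (r := 5) (s := 0) (by simp) (-s) u).eq, ← mul_assoc,
      ← X_add, add_neg_cancel, X_zero, one_mul]
  have hlP : Commute (ρ l) (P0 ρ) := by
    show ρ l * _ = _
    rw [hl, P0, mul_assoc, ← (rad_commute ρ (show (10 : ℕ) ∈ [6, 8, 9, 10] by simp) _).eq, avg]
    simp only [smul_mul_assoc, mul_smul_comm, Finset.mul_sum, Finset.sum_mul]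
    congr 1
    refine Finset.sum_congr rfl fun t _ => ?_
    rw [← mul_assoc (ρ (X 6 t)), ← mul_assoc, ← map_mul, ← map_mul,
      swap_eZ ρ (rad_commute ρ (by simp) t) (b_e t _)]
  have hli : Commute (ρ l⁻¹) (P0 ρ) := by
    calc ρ l⁻¹ * P0 ρ = ρ l⁻¹ * P0 ρ * (ρ l * ρ l⁻¹) := by rw [rho_mul_inv, mul_one]
      _ = ρ l⁻¹ * ρ l * P0 ρ * ρ l⁻¹ := by
        rw [mul_assoc (ρ l⁻¹), ← mul_assoc (P0 ρ), ← hlP.eq, ← mul_assoc, ← mul_assoc]
      _ = P0 ρ * ρ l⁻¹ := by rw [rho_inv_mul, one_mul]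
  have e : P0 ρ * Pg ρ (opp (s, u)) = ρ l⁻¹ * (P0 ρ * Pg ρ (X 0 u)) * ρ l := by
    have hg : (opp (s, u) : G2g F) = l⁻¹ * X 0 u * l := by rw [← hlc]; group
    rw [Pg, Pg, hg, _root_.mul_inv_rev, _root_.mul_inv_rev, inv_inv, map_mul, map_mul, map_mul, map_mul]
    calc P0 ρ * (ρ l⁻¹ * ρ (X 0 u) * ρ l * P0 ρ * (ρ l⁻¹ * (ρ (X 0 u)⁻¹ * ρ l))) =
        (P0 ρ * ρ l⁻¹) * ρ (X 0 u) * ((ρ l * P0 ρ) * ρ l⁻¹) * ρ (X 0 u)⁻¹ * ρ l := by simp only [mul_assoc]
      _ = (ρ l⁻¹ * P0 ρ) * ρ (X 0 u) * (P0 ρ * (ρ l * ρ l⁻¹)) * ρ (X 0 u)⁻¹ * ρ l := by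
        rw [hlP.eq, ← hli.eq, mul_assoc (P0 ρ) (ρ l)]
      _ = _ := by rw [rho_mul_inv, mul_one]; simp only [mul_assoc]
  rw [e, caseNZ u hu, mul_zero, zero_mul]

theorem Pg_mul (p p' : F × F) : Pg ρ (opp p) * Pg ρ (opp p') = if p = p' then Pg ρ (opp p) else 0 := by
  have e : Pg ρ (opp p) * Pg ρ (opp p') = ρ (opp p) * (P0 ρ * Pg ρ (opp (-p + p'))) * ρ (opp p)⁻¹ := by
    simp only [Pg]
    rw [← opp_mul, _root_.mul_inv_rev, ← opp_inv, map_mul, map_mul, inv_inv]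
    simp only [mul_assoc, rho_mul_inv, mul_one]
  rw [e]
  split_ifs with h
  · subst h
    rw [neg_add_cancel, show Pg ρ (opp (0 : F × F)) = P0 ρ by simp [Pg, opp, X_zero], P0_idem, Pg]
  · rw [P0_Pg hw (fun h' => h (neg_add_eq_zero.mp h')), mul_zero, zero_mul]

/-- The sum of the translates. -/
noncomputable def Eq2 (ρ : Representation ℂ (G2g F) V) : Module.End ℂ V := ∑ p : F × F, Pg ρ (opp p)

theorem Eq2_idem : Eq2 ρ * Eq2 ρ = Eq2 ρ := by
  rw [Eq2, Finset.sum_mul]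
  refine Finset.sum_congr rfl fun p _ => ?_
  rw [Finset.mul_sum, Finset.sum_congr rfl (fun p' _ => Pg_mul hw p p'), Finset.sum_ite_eq,
    if_pos (Finset.mem_univ _)]

theorem trace_Eq2 : LinearMap.trace ℂ V (Eq2 ρ) =
    ((Fintype.card F * Fintype.card F * (Fintype.card F - 1) : ℕ) : ℂ) := by
  rw [Eq2, map_sum, Finset.sum_congr rfl (fun p _ => (show LinearMap.trace ℂ V (Pg ρ (opp p)) =
    ((Fintype.card F - 1 : ℕ) : ℂ) by
      rw [Pg, LinearMap.trace_mul_comm, ← mul_assoc, rho_inv_mul, one_mul, trace_P0 hw])),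
    Finset.sum_const, Finset.card_univ, Fintype.card_prod, nsmul_eq_mul]
  push_cast
  ring

/-! ### The element of order three -/

theorem no_degree (hq : 5 ≤ Fintype.card F) (hM : M0 ρ = Fintype.card F)
    (hk : Module.finrank ℂ V + 1 = Fintype.card F ^ 3) (h3 : (3 : F) ≠ 0) (w : Fˣ) (hw3 : w ^ 3 = 1)
    (hw1 : w ≠ 1) : False := by
  classical
  set q := Fintype.card F with hqdef
  set hh : G2g F := H w 1 with hhh
  obtain ⟨⟨t6, t8, t9, t10, t11⟩, -, t5, t0, -⟩ := wt_table w 1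
  simp [hw3] at t6 t10 t5 t0 t11
  have hfix : ∀ {r : ℕ}, r < 12 → wt w 1 r = 1 → ∀ t : F, Commute hh (X r t) := fun hr hwt t => by
    have h := H_conj w 1 hr t
    rw [hwt, Units.val_one, one_mul] at h
    exact mul_inv_eq_iff_eq_mul.mp h
  set h : Module.End ℂ V := ρ hh with hhdef
  have cAvg6 : Commute h (avg ρ 6) := commute_avg ρ (hfix (by norm_num) t6)
  have cz : Commute h (eZ ρ) := commute_avg ρ (hfix (by norm_num) t11)
  have cOpp : ∀ p, Commute hh (opp p) := fun p =>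
    (hfix (by norm_num) t5 _).mul_right (hfix (by norm_num) t0 _)
  have cP : Commute h (P0 ρ) := cAvg6.mul_right cz
  have hfixl : ∀ e : F, Commute h (pr (T4 ρ) ![0, 0, 0, e]) := fun e => by
    refine mul_pr_of_perm (Equiv.ofBijective (fun v => ![(wt w 1 6 : F) * v 0, (wt w 1 8 : F) * v 1,
      (wt w 1 9 : F) * v 2, (wt w 1 10 : F) * v 3]) (Finite.injective_iff_bijective.mp fun a b h => ?_))
      (torus_T4 ρ w 1) _ _ fun v => ?_
    · have e0 := congrFun h 0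
      have e1 := congrFun h 1
      have e2 := congrFun h 2
      have e3 := congrFun h 3
      simp at e0 e1 e2 e3
      funext i; fin_cases i <;> assumption
    · simp [dotProduct, Fin.sum_univ_four, t10]
  set μ := LinearMap.trace ℂ V (h * pr (T4 ρ) ![0, 0, 0, 1]) with hμ
  have hmult : ∀ e : Fˣ, r4 ρ ![0, 0, 0, (e : F)] = 1 := fun e => by
    rw [show ![0, 0, 0, (e : F)] = tri (some 0, e) by funext i; fin_cases i <;> simp [tri, shift],
      r_tri (cubicInv ρ), hw.2.1]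
  have hline : ∀ e : Fˣ, h * pr (T4 ρ) ![0, 0, 0, (e : F)] = μ • pr (T4 ρ) ![0, 0, 0, (e : F)] := by
    intro e
    have hp := pr_mul_pr (T4_add ρ) ![0, 0, 0, (e : F)] ![0, 0, 0, (e : F)]
    rw [if_pos rfl] at hp
    have ht : LinearMap.trace ℂ V (pr (T4 ρ) ![0, 0, 0, (e : F)]) = 1 := by
      rw [← mult_eq (T4_add ρ), show mult (T4 ρ) ![0, 0, 0, (e : F)] = 1 from hmult e, Nat.cast_one]
    have h1 := mul_eq_trace_smul _ h hp ht (hfixl e)
    suffices hs : LinearMap.trace ℂ V (h * pr (T4 ρ) ![0, 0, 0, (e : F)]) = μ by rwa [hs] at h1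
    obtain ⟨⟨-, -, -, u10, -⟩, -⟩ := wt_table (1 : Fˣ) e
    have hperm : ρ (H 1 e) * pr (T4 ρ) ![0, 0, 0, (1 : F)] =
        pr (T4 ρ) ![0, 0, 0, (e : F)] * ρ (H 1 e) := by
      refine mul_pr_of_perm (Equiv.ofBijective (fun v => ![(wt 1 e 6 : F) * v 0, (wt 1 e 8 : F) * v 1,
        (wt 1 e 9 : F) * v 2, (wt 1 e 10 : F) * v 3]) (Finite.injective_iff_bijective.mp fun a b h => ?_))
        (torus_T4 ρ 1 e) _ _ fun v => ?_
      · have e0 := congrFun h 0
        have e1 := congrFun h 1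
        have e2 := congrFun h 2
        have e3 := congrFun h 3
        simp at e0 e1 e2 e3
        funext i; fin_cases i <;> assumption
      · simp [dotProduct, Fin.sum_univ_four, u10]
    refine (trace_conj ρ (g := H 1 e) ?_).symm
    rw [← mul_assoc, hhdef, ← map_mul, (H_comm 1 e w 1).eq, map_mul, mul_assoc, hperm, ← mul_assoc]
  have hP : h * P0 ρ = μ • P0 ρ := by
    rw [P0_sum, Finset.mul_sum, Finset.smul_sum]
    refine Finset.sum_congr rfl fun l _ => ?_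
    split_ifs with h0
    · by_cases hp : pr (T4 ρ) l = 0
      · rw [hp, mul_zero, smul_zero]
      · obtain ⟨h1, h2, h3'⟩ := pr_support hw hp h0
        have e : l = ![0, 0, 0, ((Units.mk0 _ h3' : Fˣ) : F)] := by
          funext i; fin_cases i <;> simp [h0, h1, h2]
        rw [e]; exact hline _
    · rw [mul_zero, smul_zero]
  have hPg : ∀ p, h * Pg ρ (opp p) = μ • Pg ρ (opp p) := fun p => by
    rw [Pg, ← mul_assoc, ← mul_assoc, hhdef, ← map_mul, (cOpp p).eq, map_mul, mul_assoc (ρ (opp p)),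
      show ρ hh * P0 ρ = μ • P0 ρ from hP, mul_smul_comm, smul_mul_assoc]
  have hE : h * Eq2 ρ = μ • Eq2 ρ := by
    rw [Eq2, Finset.mul_sum, Finset.smul_sum]; exact Finset.sum_congr rfl fun p _ => hPg p
  have cE : Commute h (Eq2 ρ) := by
    refine Commute.sum_right _ _ _ fun p _ => ?_
    have c1 : Commute h (ρ (opp p)) := by show _ * _ = _ * _; rw [hhdef, ← map_mul, ← map_mul, (cOpp p).eq]
    have c2 : Commute h (ρ (opp p)⁻¹) := by
      show _ * _ = _ * _; rw [hhdef, ← map_mul, ← map_mul, (cOpp p).inv_right.eq]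
    exact (c1.mul_right cP).mul_right c2
  have hh3 : h * (h * h) = 1 := by
    rw [hhdef, ← map_mul, ← map_mul, hhh, H_mul, H_mul, one_mul, one_mul, show w * (w * w) = w ^ 3 by rw [pow_succ', pow_two], hw3,
      H_one, map_one]
  have hEE := Eq2_idem hw
  have htE := trace_Eq2 hw
  rw [← hqdef] at htE
  have hqq : 0 < q * q * (q - 1) := Nat.mul_pos (Nat.mul_pos (by omega) (by omega)) (by omega)
  have hEne : Eq2 ρ ≠ 0 := fun h0 => by
    rw [h0, map_zero] at htE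
    exact hqq.ne' (by exact_mod_cast htE.symm)
  have hμ3 : μ * (μ * μ) = 1 := by
    have e : (μ * (μ * μ)) • Eq2 ρ = (1 : ℂ) • Eq2 ρ := by
      conv_rhs => rw [one_smul, ← one_mul (Eq2 ρ), ← hh3]
      rw [mul_assoc, mul_assoc, hE, mul_smul_comm, hE, smul_smul, mul_smul_comm, hE, smul_smul]
      congr 1; ring
    exact smul_left_injective ℂ hEne e
  -- the conjugate eigenvalue
  set n : Module.End ℂ V := ρ (N iA) with hndef
  set n' : Module.End ℂ V := ρ (N iA)⁻¹ with hn'def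
  have nn' : n' * n = 1 := rho_inv_mul ρ _
  have nn : n * n' = 1 := rho_mul_inv ρ _
  have hconj : n * h * n' = h * h := by
    rw [hndef, hn'def, hhdef, ← map_mul, ← map_mul, ← map_mul, hhh, NA_H, H_mul, one_mul, mul_one,
      show w⁻¹ = w * w by rw [inv_eq_iff_mul_eq_one, ← mul_assoc, ← pow_two, ← pow_succ, hw3]]
  set E' := n * Eq2 ρ * n' with hE'def
  have hhE' : h * h * E' = μ • E' := by
    rw [← hconj, hE'def, show n * h * n' * (n * Eq2 ρ * n') = n * (h * ((n' * n) * Eq2 ρ)) * n' by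
      simp only [mul_assoc], nn', one_mul, hE, mul_smul_comm, smul_mul_assoc]
  have hμ1 : μ = 1 := by
    have e1 : (Eq2 ρ) * (h * h) = (μ * μ) • Eq2 ρ := by
      rw [← mul_assoc, ← cE.eq, hE, smul_mul_assoc, ← cE.eq, hE, smul_smul]
    by_contra hne
    have hz : Eq2 ρ * E' = 0 := by
      have h2 : (μ * μ) • (Eq2 ρ * E') = μ • (Eq2 ρ * E') := by
        rw [← smul_mul_assoc, ← e1, mul_assoc, hhE', mul_smul_comm]
      have hμ0 : μ ≠ 0 := fun h0 => by simp [h0] at hμ3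
      by_contra hx
      have h4 := smul_left_injective ℂ hx h2
      exact hne (mul_left_cancel₀ hμ0 (by rw [h4, mul_one]))
    have e2 : E' * (h * h) = μ • E' := by
      rw [← hconj, hE'def, show n * Eq2 ρ * n' * (n * h * n') = n * (Eq2 ρ * (n' * n) * h) * n' by
        simp only [mul_assoc], nn', mul_one, ← cE.eq, hE, mul_smul_comm, smul_mul_assoc]
    have hz' : E' * Eq2 ρ = 0 := by
      have h2 : μ • (E' * Eq2 ρ) = (μ * μ) • (E' * Eq2 ρ) := by
        rw [← smul_mul_assoc, ← e2, mul_assoc E', mul_assoc h, hE, mul_smul_comm, hE, smul_smul, mul_smul_comm]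
      have hμ0 : μ ≠ 0 := fun h0 => by simp [h0] at hμ3
      by_contra hx
      have h4 := smul_left_injective ℂ hx h2
      exact hne (mul_left_cancel₀ hμ0 (by rw [← h4, mul_one]))
    have hE'E' : E' * E' = E' := by
      rw [hE'def, show n * Eq2 ρ * n' * (n * Eq2 ρ * n') = n * (Eq2 ρ * (n' * n) * Eq2 ρ) * n' by
        simp only [mul_assoc], nn', mul_one, hEE]
    have hsum : (Eq2 ρ + E') * (Eq2 ρ + E') = Eq2 ρ + E' := by
      rw [mul_add, add_mul, add_mul, hEE, hE'E', hz, hz']; abel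
    have ht : LinearMap.trace ℂ V (Eq2 ρ + E') = ((q * q * (q - 1) + q * q * (q - 1) : ℕ) : ℂ) := by
      rw [map_add, hE'def, LinearMap.trace_mul_comm, ← mul_assoc, nn', one_mul, htE]; push_cast; ring
    rw [trace_eq_finrank_range _ hsum] at ht
    have hle := Submodule.finrank_le (LinearMap.range (Eq2 ρ + E'))
    rw [Nat.cast_inj.mp ht] at hle
    obtain ⟨v, hv⟩ : ∃ v, q = v + 5 := ⟨q - 5, by omega⟩
    rw [hv] at hle hk
    rw [show v + 5 - 1 = v + 4 by omega] at hle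
    nlinarith
  rw [hμ1, one_smul] at hE
  -- the other eigenspaces are too large
  let π : ℂ → Module.End ℂ V := fun c => (3 : ℂ)⁻¹ • (1 + (c * c) • h + c • (h * h))
  have hπh : ∀ c : ℂ, c * (c * c) = 1 → h * π c = c • π c := fun c hc => by
    show h * ((3 : ℂ)⁻¹ • _) = c • ((3 : ℂ)⁻¹ • _)
    simp only [mul_smul_comm, mul_add, mul_one, hh3, smul_add, smul_smul]
    rw [show c * ((3⁻¹ : ℂ) * (c * c)) = 3⁻¹ by linear_combination (3⁻¹ : ℂ) * hc]
    module
  have hπc : ∀ c, Commute h (π c) := fun c =>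
    (((Commute.one_right h).add_right ((Commute.refl h).smul_right _)).add_right
      (((Commute.refl h).mul_right (Commute.refl h)).smul_right _)).smul_right _
  have hππ : ∀ c : ℂ, c * (c * c) = 1 → π c * π c = π c := fun c hc => by
    conv_lhs => arg 1; change (3 : ℂ)⁻¹ • (1 + (c * c) • h + c • (h * h))
    simp only [smul_mul_assoc, add_mul, one_mul, mul_assoc, hπh c hc, mul_smul_comm, smul_smul]
    rw [hc]
    module
  obtain ⟨ω, hω⟩ : ∃ ω : ℂ, ω ^ 2 + ω + 1 = 0 := by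
    obtain ⟨s, hs⟩ := IsAlgClosed.exists_pow_nat_eq (k := ℂ) (-3) (n := 2) (by norm_num)
    exact ⟨(-1 + s) / 2, by linear_combination (1 / 4 : ℂ) * hs⟩
  have hω3 : ω * (ω * ω) = 1 := by linear_combination (ω - 1) * hω
  have hω3' : ω * ω * (ω * ω * (ω * ω)) = 1 := by linear_combination (ω * (ω * ω) + 1) * hω3
  have hsum : π 1 + π ω + π (ω * ω) = 1 := by
    have e2 : (ω * ω) * (ω * ω) = ω := by linear_combination ω * hω3
    show (3 : ℂ)⁻¹ • _ + (3 : ℂ)⁻¹ • _ + (3 : ℂ)⁻¹ • _ = _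
    rw [e2]
    simp only [mul_one]
    match_scalars <;> (first | linear_combination (3⁻¹ : ℂ) * hω | ring1)
  have hπE : ∀ c, c ^ 2 + c + 1 = 0 → π c * Eq2 ρ = 0 := fun c hc => by
    show (3 : ℂ)⁻¹ • _ * _ = _
    simp only [smul_mul_assoc, add_mul, one_mul, mul_assoc, hE]
    match_scalars
    linear_combination (3⁻¹ : ℂ) * hc
  have hω2 : (ω * ω) ^ 2 + ω * ω + 1 = 0 := by linear_combination (ω ^ 2 - ω + 1) * hω
  have hne : ω ≠ ω * ω := fun e => by
    have h1 : (2 : ℂ) * ω + 1 = 0 := by linear_combination hω + e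
    have : (3 : ℂ) = 0 := by linear_combination (4 : ℂ) * hω - (2 * ω + 1) * h1
    norm_num at this
  have hcT : ∀ v, Commute h (T2 ρ v) := fun v => by
    show _ * _ = _ * _
    rw [T2, hhdef, ← map_mul, ← map_mul,
      ((hfix (by norm_num) t11 (v 0)).mul_right (hfix (by norm_num) t6 (v 1))).eq]
  have hcπ : ∀ (c : ℂ) (X : Module.End ℂ V), Commute h X → Commute X (π c) := fun c X hX =>
    (((Commute.one_right X).add_right (hX.symm.smul_right _)).add_right
      ((hX.symm.mul_right hX.symm).smul_right _)).smul_right _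
  have c10 : ∀ (c : ℂ) (s : F), Commute (ρ (X 10 s)) (π c) := fun c s => hcπ c _ (by
    show _ * _ = _ * _; rw [hhdef, ← map_mul, ← map_mul, (hfix (by norm_num) t10 s).eq])
  have cH : ∀ (c : ℂ) (e : Fˣ), Commute (ρ (H 1 e)) (π c) := fun c e => hcπ c _ (by
    show _ * _ = _ * _; rw [hhdef, ← map_mul, ← map_mul, (H_comm w 1 1 e).eq])
  have cT : ∀ (c : ℂ) v, Commute (π c) (T2 ρ v) := fun c v => (hcπ c _ (hcT v)).symm
  have hmix : ∀ c d : ℂ, c * (c * c) = 1 → d * (d * d) = 1 → c ≠ d → π c * π d = 0 := by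
    intro c d hc hd hcd
    have e : c • (π c * π d) = d • (π c * π d) := by
      rw [← smul_mul_assoc, ← hπh c hc, (hπc c).eq, mul_assoc, hπh d hd, mul_smul_comm]
    by_contra hx
    exact hcd (smul_left_injective ℂ hx e)
  have cEπ : ∀ c, Commute (Eq2 ρ) (π c) := fun c => hcπ c _ cE
  have hsumidem : (Eq2 ρ + π ω + π (ω * ω)) * (Eq2 ρ + π ω + π (ω * ω)) = Eq2 ρ + π ω + π (ω * ω) := by
    simp only [add_mul, mul_add, hEE, hππ _ hω3, hππ _ hω3', hπE _ hω, hπE _ hω2, (cEπ ω).eq, (cEπ (ω * ω)).eq,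
      hmix _ _ hω3 hω3' hne, hmix _ _ hω3' hω3 hne.symm, add_zero, zero_add]
  set nc : ℂ → ℕ := fun c => mult (T2c ρ (π c)) ![1, 0] with hnc
  have htr : ∀ c, c * (c * c) = 1 → LinearMap.trace ℂ V (π c) =
      LinearMap.trace ℂ V (eZ ρ * π c) + ((q * (q - 1) * nc c : ℕ) : ℂ) := fun c hc =>
    T2c_trace ρ (hππ c hc) (cT c) (c10 c) (cH c)
  have hnπ : n * π ω = π (ω * ω) * n := by
    have e2 : (ω * ω) * (ω * ω) = ω := by linear_combination ω * hω3
    have e3 : n * h = h * h * n := by rw [← hconj, mul_assoc, nn', mul_one]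
    have e4 : n * (h * h) = h * n := by
      rw [← mul_assoc, e3, mul_assoc (h * h), e3, ← mul_assoc, show h * h * (h * h) = h * (h * (h * h)) by
        rw [mul_assoc], hh3, mul_one]
    show n * ((3 : ℂ)⁻¹ • _) = ((3 : ℂ)⁻¹ • _) * n
    simp only [mul_smul_comm, smul_mul_assoc, mul_add, add_mul, mul_one, one_mul, e3, e4, e2]
    module
  have hsym : LinearMap.trace ℂ V (π ω) = LinearMap.trace ℂ V (π (ω * ω)) :=
    trace_conj ρ (g := N iA) hnπ
  have hsymZ : LinearMap.trace ℂ V (eZ ρ * π ω) = LinearMap.trace ℂ V (eZ ρ * π (ω * ω)) := by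
    refine trace_conj ρ (g := N iA) ?_
    rw [← mul_assoc, (NA_commute_eZ ρ).eq, mul_assoc, ← hndef, hnπ, ← mul_assoc]
  have hn_eq : nc ω = nc (ω * ω) := by
    have h1 := htr _ hω3
    have h2 := htr _ hω3'
    rw [hsym, hsymZ, h2] at h1
    have h4 := Nat.cast_inj.mp (add_left_cancel h1)
    exact (Nat.eq_of_mul_eq_mul_left (Nat.mul_pos (by omega) (by omega)) h4).symm
  have hn0 : nc ω ≠ 0 := by
    intro h0
    set P := pr (T2 ρ) ![1, 0] with hPdef
    have hz : ∀ c, nc c = 0 → P * π c = 0 := fun c hc => by rw [hPdef, ← pr_T2c]; exact pr_eq_zero hc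
    have hfixP : h * P = P := by
      have e1 : P = P * π 1 := by
        conv_lhs => rw [← mul_one P, ← hsum]
        rw [mul_add, mul_add, hz ω h0, hz (ω * ω) (hn_eq.symm.trans h0), add_zero, add_zero]
      have cP' : Commute h P := pr_commute hcT _
      rw [e1, ← mul_assoc, cP'.eq, mul_assoc, hπh 1 (by norm_num), one_smul]
    have hc8 : ∀ u : F, Commute (ρ (X 8 u)) P := fun u => pr_commute (c_commute_T2 ρ u) _
    have hshift : ∀ u : F, ρ (X 8 ((w⁻¹ : Fˣ) * u)) * P = ρ (X 8 u) * P := fun u => by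
      have e : hh * X 8 u = X 8 ((w⁻¹ : Fˣ) * u) * hh := by
        have h' := H_conj w 1 (r := 8) (by norm_num) u
        rw [show wt w 1 8 = w⁻¹ by rw [(wt_table w 1).1.2.1, mul_one]] at h'
        exact mul_inv_eq_iff_eq_mul.mp h'
      calc ρ (X 8 ((w⁻¹ : Fˣ) * u)) * P = ρ (X 8 ((w⁻¹ : Fˣ) * u)) * (h * P) := by rw [hfixP]
        _ = h * ρ (X 8 u) * P := by rw [← mul_assoc, hhdef, ← map_mul, ← e, map_mul]
        _ = h * (P * ρ (X 8 u)) := by rw [mul_assoc, (hc8 u).eq]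
        _ = ρ (X 8 u) * P := by rw [← mul_assoc, hfixP, (hc8 u).eq]
    have hd : ((w⁻¹ : Fˣ) : F) - 1 ≠ 0 := sub_ne_zero.mpr fun h1 => hw1 (inv_eq_one.mp (Units.ext h1))
    have hone : ρ (X 8 (((w⁻¹ : Fˣ) : F) - 1)) * P = P := by
      have h' := congrArg (fun A => ρ (X 8 (-1 : F)) * A) (hshift 1)
      simp only [← mul_assoc, ← map_mul, ← X_add, mul_one] at h'
      rw [neg_add_cancel, X_zero, map_one, one_mul, neg_add_eq_sub] at h'
      exact h'
    have ht := trace_c ρ h3 _ hd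
    rw [← hPdef, hone, hPdef, ← mult_eq (T2_add ρ), show mult (T2 ρ) ![1, 0] = M0 ρ from rfl, hM] at ht
    have : (q : ℕ) = 0 := by exact_mod_cast ht
    omega
  have hbig : ((q * (q - 1) : ℕ) : ℕ) ≤ Module.finrank ℂ (LinearMap.range (π ω)) := by
    have h' := htr _ hω3
    rw [trace_eq_finrank_range _ (hππ _ hω3),
      trace_eq_finrank_range (eZ ρ * π ω) (by
        have c1 : Commute (eZ ρ) (π ω) := hcπ _ _ cz
        rw [mul_assoc, ← mul_assoc (π ω), ← c1.eq, mul_assoc, hππ _ hω3, ← mul_assoc, eZ_idem]),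
      ← Nat.cast_add, Nat.cast_inj] at h'
    have : q * (q - 1) * 1 ≤ q * (q - 1) * nc ω := Nat.mul_le_mul_left _ (Nat.pos_of_ne_zero hn0)
    omega
  have hfin : LinearMap.trace ℂ V (Eq2 ρ + π ω + π (ω * ω)) = ((q * q * (q - 1) +
      2 * Module.finrank ℂ (LinearMap.range (π ω)) : ℕ) : ℂ) := by
    rw [map_add, map_add, ← hsym, htE, trace_eq_finrank_range _ (hππ _ hω3)]; push_cast; ring
  rw [trace_eq_finrank_range _ hsumidem] at hfin
  have hle := Submodule.finrank_le (LinearMap.range (Eq2 ρ + π ω + π (ω * ω)))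
  rw [Nat.cast_inj.mp hfin] at hle
  obtain ⟨v, hv⟩ : ∃ v, q = v + 5 := ⟨q - 5, by omega⟩
  rw [hv, show v + 5 - 1 = v + 4 by omega] at hle hbig
  rw [hv] at hk
  nlinarith

end CfsgLib.GTwoDeg
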