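import Cfsg.Agent.Lib.GTwoDeg.MainNotThree
import Cfsg.Agent.Lib.GTwoDeg.CubicThree

set_option autoImplicit false
set_option linter.unusedSectionVars false

/-!
Characteristic three: the centre of the radical becomes three dimensional, spanned by `X₁₁`, `X₈`, `X₉`.
-/

namespace CfsgLib.GTwoDeg

open Cfsg.Lie CfsgLib.ChevStr Matrix CfsgLib.KnownSimple.ModulePerm CfsgLib.SLMinDeg

variable {F : Type*} [Field F] [Fintype F] [DecidableEq F]
variable {V : Type*} [AddCommGroup V] [Module ℂ V] [FiniteDimensional ℂ V] (ρ : Representation ℂ (G2g F) V)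

/-- The partial sums of the projections along one coordinate. -/
theorem marginal {κ : Type*} [Fintype κ] [DecidableEq κ] {T : (κ → F) → Module.End ℂ V}
    (hT : ∀ v w, T v * T w = T (v + w)) (i : κ) (x : F) :
    (Fintype.card F : ℂ)⁻¹ • ∑ u : F, chi F (-(x * u)) • T (Pi.single i u) =
      ∑ ψ ∈ Finset.univ.filter (fun ψ : κ → F => ψ i = x), pr T ψ := by
  simp only [T_eq_sum hT (Pi.single i _), Finset.smul_sum, smul_smul, dotProduct_single]
  rw [Finset.sum_comm, Finset.sum_filter]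
  refine Finset.sum_congr rfl fun ψ _ => ?_
  rw [← Finset.sum_smul, ← Finset.mul_sum]
  have hs := sum_chi (F := F) (κ := Fin 1) (fun _ => ψ i - x)
  rw [← (Equiv.funUnique (Fin 1) F).symm.sum_comp] at hs
  simp [dotProduct, Equiv.funUnique, funext_iff, sub_eq_zero] at hs
  rw [Finset.sum_congr rfl fun u _ => show chi F (-(x * u)) * chi F (ψ i * u) = chi F ((ψ i - x) * u) by
    rw [← AddChar.map_add_eq_mul]; ring_nf, hs]
  split_ifs with h
  · rw [inv_mul_cancel₀ (Nat.cast_ne_zero.mpr Fintype.card_ne_zero), one_smul]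
  · rw [mul_zero, zero_smul]

omit [FiniteDimensional ℂ V] in
/-- The projection on a character of one root group. -/
noncomputable def chp (r : ℕ) (x : F) : Module.End ℂ V :=
  (Fintype.card F : ℂ)⁻¹ • ∑ u : F, chi F (-(x * u)) • ρ (X r u)

theorem marg {κ : Type*} [Fintype κ] [DecidableEq κ] {T : (κ → F) → Module.End ℂ V}
    (hT : ∀ v w, T v * T w = T (v + w)) (i : κ) {r : ℕ} (h : ∀ u, T (Pi.single i u) = ρ (X r u)) (x : F) :
    chp ρ r x = ∑ ψ ∈ Finset.univ.filter (fun ψ : κ → F => ψ i = x), pr T ψ := by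
  rw [chp, ← marginal hT i x]; simp only [h]

theorem pr_le_chp {κ : Type*} [Fintype κ] [DecidableEq κ] {T : (κ → F) → Module.End ℂ V}
    (hT : ∀ v w, T v * T w = T (v + w)) (i : κ) {r : ℕ} (h : ∀ u, T (Pi.single i u) = ρ (X r u)) (ψ : κ → F) :
    chp ρ r (ψ i) * pr T ψ = pr T ψ := by
  rw [marg ρ hT i h, Finset.sum_mul, Finset.sum_eq_single ψ]
  · rw [pr_mul_pr hT, if_pos rfl]
  · intro φ _ hne; rw [pr_mul_pr hT, if_neg hne]
  · simp

/-- The family of the centre of the radical. -/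
noncomputable def T3 (w : Fin 3 → F) : Module.End ℂ V := ρ (X 11 (w 0) * X 8 (w 1) * X 9 (w 2))

/-- The family of the centre and the opposite end. -/
noncomputable def T2e (w : Fin 2 → F) : Module.End ℂ V := ρ (X 11 (w 0) * X 10 (w 1))

omit [Fintype F] [DecidableEq F] in
theorem conj3 {g x y z x' y' z' : G2g F} (hx : g * x * g⁻¹ = x') (hy : g * y * g⁻¹ = y') (hz : g * z * g⁻¹ = z') :
    g * (x * y * z) = x' * y' * z' * g := by
  rw [← hx, ← hy, ← hz]; group

variable (h3 : (3 : F) = 0)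

include h3

theorem T3_add (v w : Fin 3 → F) : T3 ρ v * T3 ρ w = T3 ρ (v + w) := by
  rw [T3, T3, T3, ← map_mul, Pi.add_apply, Pi.add_apply, Pi.add_apply, X_add, X_add, X_add]
  congr 1
  rw [((comm_pair (r := 11) (s := 9) (by simp) (w 0) (v 2)).symm.mul_right
    (comm_cd_three h3 (w 1) (v 2)).symm).mul_mul_mul_comm,
    (comm_pair (r := 11) (s := 8) (by simp) (w 0) (v 1)).symm.mul_mul_mul_comm]

omit h3 in
theorem T2e_add (v w : Fin 2 → F) : T2e ρ v * T2e ρ w = T2e ρ (v + w) := by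
  rw [T2e, T2e, T2e, ← map_mul, Pi.add_apply, Pi.add_apply, X_add, X_add]
  congr 1
  exact (comm_pair (r := 11) (s := 10) (by simp) (w 0) (v 1)).symm.mul_mul_mul_comm _ _

omit h3 in
theorem T3_single (u : F) : T3 ρ (Pi.single 0 u) = ρ (X 11 u) ∧ T3 ρ (Pi.single 1 u) = ρ (X 8 u) ∧
    T3 ρ (Pi.single 2 u) = ρ (X 9 u) := by
  simp [T3, X_zero]

omit h3 in
theorem T2e_single (u : F) : T2e ρ (Pi.single 0 u) = ρ (X 11 u) ∧ T2e ρ (Pi.single 1 u) = ρ (X 10 u) := by
  simp [T2e, X_zero]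

/-- The weights of the centre at a non-trivial character. -/
noncomputable def n3 (η₁ η₂ : F) : ℕ := mult (T3 ρ) ![1, η₁, η₂]

theorem n3_shift (t η₁ η₂ : F) : n3 ρ (η₁ + t * η₂) η₂ = n3 ρ η₁ η₂ := by
  refine mult_perm (T3_add ρ h3) (Y := ρ (X 7 t)⁻¹) (X := ρ (X 7 t)) (rho_inv_mul ρ _)
    (Equiv.ofBijective (fun w => ![w 0, w 1, w 2 + t * w 1]) (Finite.injective_iff_bijective.mp fun v w h => ?_))
    (fun w => ?_) ![1, η₁, η₂] ![1, η₁ + t * η₂, η₂] (fun w => ?_) |>.trans rfl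
  · have e0 : v 0 = w 0 := congrFun h 0
    have e1 : v 1 = w 1 := congrFun h 1
    have e2 : v 2 = w 2 := by have := congrFun h 2; simpa [e1] using this
    funext i; fin_cases i <;> assumption
  · show ρ (X 7 t) * T3 ρ w = T3 ρ ![w 0, w 1, w 2 + t * w 1] * ρ (X 7 t)
    rw [T3, T3, ← map_mul, ← map_mul]
    congr 1
    have e8 : (X 7 t * X 8 (w 1) * (X 7 t)⁻¹ : G2g F) = X 8 (w 1) * X 9 (t * w 1) := by
      rw [a_c, show -(2 * t * w 1) = t * w 1 by linear_combination (-(t * w 1)) * h3,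
        show -(3 * t ^ 2 * w 1) = 0 by rw [h3]; ring, show 3 * t * w 1 ^ 2 = 0 by rw [h3]; ring,
        X_zero, X_zero, mul_one, mul_one]
    have e9 : (X 7 t * X 9 (w 2) * (X 7 t)⁻¹ : G2g F) = X 9 (w 2) := by
      rw [a_d, h3, zero_mul, zero_mul, X_zero, mul_one]
    have e11 : (X 7 t * X 11 (w 0) * (X 7 t)⁻¹ : G2g F) = X 11 (w 0) :=
      mul_inv_eq_iff_eq_mul.mpr (comm_pair (r := 11) (s := 7) (by simp) (w 0) t).symm.eq
    show _ = X 11 (w 0) * X 8 (w 1) * X 9 (w 2 + t * w 1) * X 7 t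
    rw [conj3 e11 e8 e9, add_comm, X_add]
    simp only [mul_assoc]
  · simp [dotProduct, Fin.sum_univ_three]; ring

theorem n3_rot (η₁ η₂ : F) : n3 ρ η₂ (-η₁) = n3 ρ η₁ η₂ := by
  refine mult_perm (T3_add ρ h3) (Y := ρ (N iA)⁻¹) (X := ρ (N iA)) (rho_inv_mul ρ _)
    (Equiv.ofBijective (fun w => ![w 0, -w 2, w 1]) (Finite.injective_iff_bijective.mp fun v w h => ?_))
    (fun w => ?_) ![1, η₁, η₂] ![1, η₂, -η₁] (fun w => ?_) |>.trans rfl
  · have e0 : v 0 = w 0 := congrFun h 0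
    have e2 : -v 2 = -w 2 := congrFun h 1
    have e1 : v 1 = w 1 := congrFun h 2
    rw [neg_inj] at e2
    funext i; fin_cases i <;> assumption
  · show ρ (N iA) * T3 ρ w = T3 ρ ![w 0, -w 2, w 1] * ρ (N iA)
    rw [T3, T3, ← map_mul, ← map_mul]
    congr 1
    show _ = X 11 (w 0) * X 8 (-w 2) * X 9 (w 1) * N iA
    rw [conj3 (NA_11 (w 0)) (NA_8 (w 1)) (NA_9 (w 2)), mul_assoc (X 11 (w 0)) (X 9 (w 1)),
      ← (comm_cd_three h3 (-w 2) (w 1)).eq, ← mul_assoc (X 11 (w 0))]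
  · simp [dotProduct, Fin.sum_univ_three]; ring

theorem n3_torus (c : Fˣ) (η₁ η₂ : F) : mult (T3 ρ) ![(c : F), (c : F) * η₁, η₂] = n3 ρ η₁ η₂ := by
  obtain ⟨⟨-, w8, w9, -, w11⟩, -⟩ := wt_table (1 : Fˣ) c
  refine mult_perm (T3_add ρ h3) (Y := ρ (H 1 c)⁻¹) (X := ρ (H 1 c)) (rho_inv_mul ρ _)
    (Equiv.ofBijective (fun w => ![(c : F) * w 0, (c : F) * w 1, w 2])
      (Finite.injective_iff_bijective.mp fun v w h => ?_))
    (fun w => ?_) ![1, η₁, η₂] ![(c : F), (c : F) * η₁, η₂] (fun w => ?_) |>.trans rfl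
  · have e0 := congrFun h 0
    have e1 := congrFun h 1
    have e2 := congrFun h 2
    simp at e0 e1 e2
    funext i; fin_cases i <;> assumption
  · show ρ (H 1 c) * T3 ρ w = T3 ρ ![(c : F) * w 0, (c : F) * w 1, w 2] * ρ (H 1 c)
    rw [T3, T3, ← map_mul, ← map_mul]
    congr 1
    show _ = X 11 ((c : F) * w 0) * X 8 ((c : F) * w 1) * X 9 (w 2) * H 1 c
    have h11 := H_conj 1 c (r := 11) (by norm_num) (w 0)
    have h8 := H_conj 1 c (r := 8) (by norm_num) (w 1)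
    have h9 := H_conj 1 c (r := 9) (by norm_num) (w 2)
    simp [w11] at h11
    simp [w8] at h8
    simp [w9] at h9
    exact conj3 h11 h8 h9
  · simp [dotProduct, Fin.sum_univ_three]; ring

theorem n3_const {η₁ η₂ : F} (h : η₁ ≠ 0 ∨ η₂ ≠ 0) : n3 ρ η₁ η₂ = n3 ρ 1 1 := by
  have hgen : ∀ (y x : F), x ≠ 0 → n3 ρ y x = n3 ρ 0 x := fun y x hx => by
    rw [← n3_shift ρ h3 (y / x) 0 x, zero_add, div_mul_cancel₀ _ hx]
  have hzero : ∀ x : F, x ≠ 0 → n3 ρ 0 x = n3 ρ 0 1 := fun x hx => by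
    rw [← hgen 1 x hx, ← n3_rot ρ h3 1 x, hgen x (-1) (neg_ne_zero.mpr one_ne_zero),
      ← hgen 1 (-1) (neg_ne_zero.mpr one_ne_zero), n3_rot ρ h3 1 1, hgen 1 1 one_ne_zero]
  have hall : ∀ y x : F, (y ≠ 0 ∨ x ≠ 0) → n3 ρ y x = n3 ρ 0 1 := fun y x hyx => by
    by_cases hx : x = 0
    · subst hx
      have hy : y ≠ 0 := hyx.resolve_right (not_not.mpr rfl)
      rw [← n3_rot ρ h3 y 0, hzero _ (neg_ne_zero.mpr hy)]
    · rw [hgen _ _ hx, hzero _ hx]
  rw [hall _ _ h, hall 1 1 (Or.inl one_ne_zero)]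

/-- The rank of the piece fixed by `X₁₀`. -/
theorem n3_dvd (η₁ η₂ : F) :
    n3 ρ η₁ η₂ = Fintype.card F * Module.finrank ℂ (LinearMap.range (avg ρ 10 * pr (T3 ρ) ![1, η₁, η₂])) := by
  classical
  set P := pr (T3 ρ) ![1, η₁, η₂] with hP
  have hX : ∀ (r : ℕ), r = 6 ∨ r = 10 → ∀ u, Commute (ρ (X r u)) P := fun r hr u => by
    refine pr_commute (fun w => ?_) _
    show _ * _ = _ * _
    rw [T3, ← map_mul, ← map_mul]
    congr 1
    rcases hr with rfl | rfl
    · exact (((comm_pair (r := 11) (s := 6) (by simp) (w 0) u).symm.mul_right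
        (comm_pair (r := 6) (s := 8) (by simp) u (w 1))).mul_right (comm_pair (r := 6) (s := 9) (by simp) u (w 2))).eq
    · exact (((comm_pair (r := 11) (s := 10) (by simp) (w 0) u).symm.mul_right
        (comm_pair (r := 8) (s := 10) (by simp) (w 1) u).symm).mul_right
          (comm_pair (r := 9) (s := 10) (by simp) (w 2) u).symm).eq
  have hcP : Commute (avg ρ 10) P := by
    rw [avg]; exact (Commute.sum_left _ _ _ fun t _ => hX 10 (Or.inr rfl) t).smul_left _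
  have hPP : P * P = P := by rw [hP, pr_mul_pr (T3_add ρ h3), if_pos rfl]
  have hidem : avg ρ 10 * P * (avg ρ 10 * P) = avg ρ 10 * P := by
    rw [mul_assoc, ← mul_assoc P, ← hcP.eq, mul_assoc (avg ρ 10), hPP, ← mul_assoc, avg_idem]
  have htz : ∀ c, ρ (X 11 c) * P = chi F c • P := fun c => by
    have h := T_mul_pr (T3_add ρ h3) (Pi.single 0 c) ![1, η₁, η₂]
    rw [(T3_single ρ c).1] at h
    rw [hP, h, dotProduct_single]; simp
  have htr0 : ∀ u : F, u ≠ 0 → LinearMap.trace ℂ V (ρ (X 10 u) * P) = 0 := fun u hu => by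
    obtain ⟨x, hx⟩ := (exists_char F).choose_spec u hu
    have e : (X 6 x * X 10 u : G2g F) = X 10 u * X 11 (x * u) * X 6 x := mul_inv_eq_iff_eq_mul.mp (b_e x u)
    have h := trace_conj ρ (g := X 6 x) (A := ρ (X 10 u) * P) (B := chi F (x * u) • (ρ (X 10 u) * P)) (by
      rw [← mul_assoc, ← map_mul, e, map_mul, map_mul, mul_assoc _ (ρ (X 6 x)), (hX 6 (Or.inl rfl) x).eq,
        ← mul_assoc, mul_assoc (ρ (X 10 u)), htz, mul_smul_comm, smul_mul_assoc])
    rw [map_smul, smul_eq_mul] at h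
    by_contra hne
    refine hx (mul_right_cancel₀ hne ?_)
    rw [one_mul, mul_comm u x]; exact h.symm
  have htr : LinearMap.trace ℂ V (avg ρ 10 * P) = (Fintype.card F : ℂ)⁻¹ * (n3 ρ η₁ η₂ : ℂ) := by
    rw [avg, smul_mul_assoc, map_smul, Finset.sum_mul, map_sum, Finset.sum_eq_single (0 : F)
      (fun u _ hu => htr0 u hu) (by simp), X_zero, map_one, one_mul, smul_eq_mul, n3, mult_eq (T3_add ρ h3)]
  rw [trace_eq_finrank_range _ hidem] at htr
  have h : ((Fintype.card F * Module.finrank ℂ (LinearMap.range (avg ρ 10 * P)) : ℕ) : ℂ) = (n3 ρ η₁ η₂ : ℂ) := by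
    rw [Nat.cast_mul, htr, ← mul_assoc, mul_inv_cancel₀ (Nat.cast_ne_zero.mpr Fintype.card_ne_zero), one_mul]
  exact_mod_cast h.symm

theorem chp_trace : Fintype.card F * M0 ρ = ∑ η₁ : F, ∑ η₂ : F, n3 ρ η₁ η₂ := by
  have h2 : ∀ u : F, T2 ρ (Pi.single 0 u) = ρ (X 11 u) := fun u => by simp [T2, X_zero]
  have a := congrArg (LinearMap.trace ℂ V) (marg ρ (T2_add ρ) 0 h2 1)
  have b := congrArg (LinearMap.trace ℂ V) (marg ρ (T3_add ρ h3) 0 (fun u => (T3_single ρ u).1) 1)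
  rw [map_sum, Finset.sum_congr rfl fun ψ hψ => (mult_eq (T2_add ρ) ψ).symm] at a
  rw [map_sum, Finset.sum_congr rfl fun ψ hψ => (mult_eq (T3_add ρ h3) ψ).symm] at b
  rw [a, ← Nat.cast_sum, ← Nat.cast_sum, Nat.cast_inj] at b
  have l : ∑ ψ ∈ Finset.univ.filter (fun ψ : Fin 2 → F => ψ 0 = 1), mult (T2 ρ) ψ = Fintype.card F * M0 ρ := by
    rw [Finset.sum_filter, ← (finTwoArrowEquiv F).symm.sum_comp, Fintype.sum_prod_type,
      Finset.sum_eq_single (1 : F) (fun a _ ha => by simp [ha]) (by simp)]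
    rw [show Fintype.card F * M0 ρ = ∑ _y : F, M0 ρ by simp]
    refine Finset.sum_congr rfl fun y _ => ?_
    rw [if_pos (by simp)]
    exact r2_eq ρ (by simp)
  rw [← l, b, Finset.sum_filter, ← (Fin.consEquiv (fun _ : Fin 3 => F)).sum_comp, Fintype.sum_prod_type,
    Finset.sum_eq_single (1 : F) (fun a _ ha => by simp [ha]) (by simp),
    ← (finTwoArrowEquiv F).symm.sum_comp, Fintype.sum_prod_type]
  refine Finset.sum_congr rfl fun x _ => Finset.sum_congr rfl fun y _ => ?_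
  rw [if_pos (by simp)]
  rfl

theorem chp11_fix (h0 : n3 ρ 1 1 = 0) (x : F) (hx : x ≠ 0) (u : F) :
    ρ (X 8 u) * chp ρ 11 x = chp ρ 11 x := by
  rw [marg ρ (T3_add ρ h3) 0 (fun u => (T3_single ρ u).1) x, Finset.mul_sum]
  refine Finset.sum_congr rfl fun ψ hψ => ?_
  rw [← (T3_single ρ u).2.1, T_mul_pr (T3_add ρ h3), dotProduct_single]
  by_cases h1 : ψ 1 = 0
  · rw [h1, zero_mul, AddChar.map_zero_eq_one, one_smul]
  · have hz : mult (T3 ρ) ψ = 0 := by
      have h := n3_torus ρ h3 (Units.mk0 x hx) (ψ 1 / x) (ψ 2)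
      rw [n3_const ρ h3 (Or.inl (div_ne_zero h1 hx)), h0, Units.val_mk0, mul_div_cancel₀ _ hx] at h
      rw [← h]
      congr 1
      funext i; fin_cases i
      · exact (Finset.mem_filter.mp hψ).2
      · rfl
      · rfl
    rw [pr_eq_zero hz, smul_zero]

theorem chp10_fix (h0 : n3 ρ 1 1 = 0) (x : F) (hx : x ≠ 0) (u : F) :
    ρ (X 7 u) * chp ρ 10 x = chp ρ 10 x := by
  set n := ρ (N iB) with hn
  have e : n * chp ρ 11 (-x) = chp ρ 10 x * n := by
    simp only [chp, hn, mul_smul_comm, smul_mul_assoc, Finset.mul_sum, Finset.sum_mul]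
    congr 1
    refine Fintype.sum_equiv (Equiv.neg F) _ _ fun v => ?_
    rw [Equiv.neg_apply, neg_mul, mul_neg, neg_neg, ← map_mul, ← map_mul, ← NB_11, inv_mul_cancel_right]
  have h8 : ρ (X 7 u) * n = n * ρ (X 8 (-u)) := by
    rw [hn, ← map_mul, ← map_mul, show (X 7 u : G2g F) = N iB * X 8 (-u) * (N iB)⁻¹ by rw [NB_8, neg_neg],
      inv_mul_cancel_right]
  calc ρ (X 7 u) * chp ρ 10 x = ρ (X 7 u) * (chp ρ 10 x * n) * ρ (N iB)⁻¹ := by
        rw [hn, mul_assoc, mul_assoc, rho_mul_inv, mul_one]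
    _ = n * (ρ (X 8 (-u)) * chp ρ 11 (-x)) * ρ (N iB)⁻¹ := by rw [← e, ← mul_assoc, h8, mul_assoc n]
    _ = chp ρ 10 x := by
        rw [chp11_fix ρ h3 h0 _ (neg_ne_zero.mpr hx), e, hn, mul_assoc, rho_mul_inv, mul_one]

theorem n3_pos (hq : 5 ≤ Fintype.card F) (hnt : ∃ g, ρ g ≠ 1) : n3 ρ 1 1 ≠ 0 := by
  intro h0
  have hM := M0_pos ρ (by omega) hnt
  have hperm : ∀ (s : F) (ψ : Fin 2 → F), ρ (X 6 s) * pr (T2e ρ) ![ψ 0, ψ 1 + s * ψ 0] =
      pr (T2e ρ) ![ψ 0, ψ 1] * ρ (X 6 s) := by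
    intro s ψ
    refine mul_pr_of_perm (Equiv.ofBijective (fun w => ![w 0 + s * w 1, w 1])
      (Finite.injective_iff_bijective.mp fun v w h => ?_)) (fun w => ?_) _ _ fun w => ?_
    · have e1 : v 1 = w 1 := congrFun h 1
      have e0 : v 0 = w 0 := by have := congrFun h 0; simpa [e1] using this
      funext i; fin_cases i <;> assumption
    · show ρ (X 6 s) * T2e ρ w = T2e ρ ![w 0 + s * w 1, w 1] * ρ (X 6 s)
      rw [T2e, T2e, ← map_mul, ← map_mul]
      congr 1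
      show _ = X 11 (w 0 + s * w 1) * X 10 (w 1) * X 6 s
      rw [← mul_assoc, ← (comm_pair (r := 11) (s := 6) (by simp) (w 0) s).eq, mul_assoc,
        mul_inv_eq_iff_eq_mul.mp (b_e s (w 1)), X_add,
        ← (comm_pair (r := 11) (s := 10) (by simp) (s * w 1) (w 1)).eq]
      simp only [mul_assoc]
    · simp [dotProduct, Fin.sum_univ_two]; ring
  have hne : ∀ ε : F, pr (T2e ρ) ![1, ε] ≠ 0 := by
    intro ε hε
    have hz : chp ρ 11 1 = 0 := by
      rw [marg ρ (T2e_add ρ) 0 (fun u => (T2e_single ρ u).1) 1]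
      refine Finset.sum_eq_zero fun ψ hψ => ?_
      have e0 : ψ 0 = 1 := (Finset.mem_filter.mp hψ).2
      have eψ : ψ = ![1, ψ 1] := by funext i; fin_cases i <;> [exact e0; rfl]
      have h := hperm (ε - ψ 1) ψ
      rw [e0, mul_one, add_sub_cancel, hε, mul_zero, ← eψ] at h
      rw [← mul_one (pr (T2e ρ) ψ), ← rho_mul_inv ρ (X 6 (ε - ψ 1)), ← mul_assoc, ← h, zero_mul]
    have h2 : ∀ u : F, T2 ρ (Pi.single 0 u) = ρ (X 11 u) := fun u => by simp [T2, X_zero]
    have h := pr_le_chp ρ (T2_add ρ) 0 h2 ![1, 0]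
    rw [show (![1, 0] : Fin 2 → F) 0 = 1 from rfl, hz, zero_mul] at h
    have := (mult_eq (T2_add ρ) ![1, 0])
    rw [← h, map_zero] at this
    exact hM.ne' (by exact_mod_cast this)
  obtain ⟨s, -, hs⟩ := Finset.exists_mem_notMem_of_card_lt_card (s := ({0, 1, -1} : Finset F)) (t := Finset.univ)
    (lt_of_le_of_lt Finset.card_le_three (by rw [Finset.card_univ]; omega))
  simp only [Finset.mem_insert, Finset.mem_singleton, not_or] at hs
  set P := pr (T2e ρ) ![1, 1] with hP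
  set P' := pr (T2e ρ) ![1, 1 - s] with hP'
  have hb : ρ (X 6 s) * P = P' * ρ (X 6 s) := by
    have h := hperm s ![1, 1 - s]
    simpa using h
  have hfixa : ∀ ε : F, ε ≠ 0 → ∀ t, ρ (X 7 t) * pr (T2e ρ) ![1, ε] = pr (T2e ρ) ![1, ε] := fun ε hε t => by
    rw [← pr_le_chp ρ (T2e_add ρ) 1 (fun u => (T2e_single ρ u).2) ![1, ε], ← mul_assoc,
      show (![1, ε] : Fin 2 → F) 1 = ε from rfl, chp10_fix ρ h3 h0 ε hε]
  have hfixc : ∀ (r : ℕ) (v : F), r = 8 ∨ r = 9 → ρ (X r v) * P = P := by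
    intro r v hr
    have h1 := pr_le_chp ρ (T2e_add ρ) 0 (fun u => (T2e_single ρ u).1) ![1, 1]
    rw [show (![1, 1] : Fin 2 → F) 0 = 1 from rfl] at h1
    have hfix : ρ (X r v) * chp ρ 11 1 = chp ρ 11 1 := by
      rcases hr with rfl | rfl
      · exact chp11_fix ρ h3 h0 1 one_ne_zero v
      · have e : ρ (N iA) * chp ρ 11 1 = chp ρ 11 1 * ρ (N iA) := by
          simp only [chp, mul_smul_comm, smul_mul_assoc, Finset.mul_sum, Finset.sum_mul]
          congr 1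
          refine Finset.sum_congr rfl fun u _ => ?_
          rw [← map_mul, ← map_mul, mul_inv_eq_iff_eq_mul.mp (NA_11 u)]
        calc ρ (X 9 v) * chp ρ 11 1 = ρ (X 9 v) * (chp ρ 11 1 * ρ (N iA)) * ρ (N iA)⁻¹ := by
              rw [mul_assoc, mul_assoc, rho_mul_inv, mul_one]
          _ = ρ (N iA) * (ρ (X 8 v) * chp ρ 11 1) * ρ (N iA)⁻¹ := by
              rw [← e, ← mul_assoc, ← map_mul, ← mul_inv_eq_iff_eq_mul.mp (NA_8 v), map_mul,
                mul_assoc (ρ (N iA))]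
          _ = chp ρ 11 1 := by
              rw [chp11_fix ρ h3 h0 1 one_ne_zero v, e, mul_assoc, rho_mul_inv, mul_one]
    rw [hP, ← h1, ← mul_assoc, hfix]
  have hz : ∀ a b : F, ρ (X 11 a * X 10 b) * P = chi F (a + b) • P := fun a b => by
    have h := T_mul_pr (T2e_add ρ) ![a, b] ![1, 1] |>.trans rfl
    rw [hP]
    refine h.trans ?_
    simp [dotProduct, Fin.sum_univ_two]
  have hkey : ∀ t : F, chi F (t ^ 3 * (s * (1 + s))) = 1 := by
    intro t
    have l : ρ (X 7 t * X 6 s) * P = ρ (X 6 s) * P := by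
      rw [map_mul, mul_assoc, hb, ← mul_assoc, hP', hfixa _ (sub_ne_zero.mpr (Ne.symm hs.2.1)) t]
    have e : (X 7 t * X 6 s : G2g F) =
        X 6 s * X 8 (-(t * s)) * X 9 (t ^ 2 * s) * X 10 (t ^ 3 * s) * X 11 (t ^ 3 * s ^ 2) * X 7 t :=
      mul_inv_eq_iff_eq_mul.mp (a_b t s)
    have r : ρ (X 7 t * X 6 s) * P = chi F (t ^ 3 * (s * (1 + s))) • (ρ (X 6 s) * P) := by
      rw [e, map_mul, mul_assoc, hfixa 1 one_ne_zero t]
      rw [mul_assoc (X 6 s * X 8 (-(t * s)) * X 9 (t ^ 2 * s)),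
        ← (comm_pair (r := 11) (s := 10) (by simp) (t ^ 3 * s ^ 2) (t ^ 3 * s)).eq, map_mul, mul_assoc, hz,
        mul_smul_comm, map_mul, mul_assoc, hfixc 9 _ (Or.inr rfl), map_mul, mul_assoc, hfixc 8 _ (Or.inl rfl)]
      congr 2; ring
    rw [l] at r
    by_contra hch
    have hP0 : ρ (X 6 s) * P = 0 := by
      by_contra hv
      exact hch (smul_left_injective ℂ hv (r.symm.trans (one_smul ℂ _).symm))
    refine hne 1 ?_
    calc P = ρ (X 6 s)⁻¹ * (ρ (X 6 s) * P) := by rw [← mul_assoc, rho_inv_mul, one_mul]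
      _ = 0 := by rw [hP0, mul_zero]
  obtain ⟨x, hx⟩ := (exists_char F).choose_spec 1 one_ne_zero
  have hsne : s * (1 + s) ≠ 0 := mul_ne_zero hs.1 fun h => hs.2.2 (by linear_combination h)
  obtain ⟨t, ht⟩ := cube_surj h3 (1 * x / (s * (1 + s)))
  refine hx ?_
  have := hkey t
  rwa [ht, div_mul_cancel₀ _ hsne] at this

theorem M0_big (hq : 5 ≤ Fintype.card F) (hnt : ∃ g, ρ g ≠ 1) : Fintype.card F ^ 2 - 1 ≤ M0 ρ := by
  classical
  have hqn : Fintype.card F ≤ n3 ρ 1 1 := by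
    have h := n3_dvd ρ h3 1 1
    rcases Nat.eq_zero_or_pos (Module.finrank ℂ (LinearMap.range (avg ρ 10 * pr (T3 ρ) ![1, 1, 1]))) with e | e
    · exact absurd (by rw [h, e, mul_zero]) (n3_pos ρ h3 hq hnt)
    · rw [h]; exact Nat.le_mul_of_pos_right _ e
  have hle : (Fintype.card F ^ 2 - 1) * Fintype.card F ≤ Fintype.card F * M0 ρ := by
    rw [chp_trace ρ h3, ← Fintype.sum_prod_type (f := fun p : F × F => n3 ρ p.1 p.2),
      ← Finset.add_sum_erase Finset.univ _ (Finset.mem_univ ((0 : F), (0 : F))),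
      Finset.sum_congr rfl (fun p hp => n3_const ρ h3 (η₁ := p.1) (η₂ := p.2) (by
        by_contra h
        push Not at h
        exact Finset.ne_of_mem_erase hp (Prod.ext h.1 h.2))),
      Finset.sum_const, smul_eq_mul, Finset.card_erase_of_mem (Finset.mem_univ _), Finset.card_univ,
      Fintype.card_prod, ← pow_two]
    exact le_add_left (Nat.mul_le_mul_left _ hqn)
  rw [mul_comm (Fintype.card F) (M0 ρ)] at hle
  exact Nat.le_of_mul_le_mul_right hle (by omega)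

theorem fibre_pos (hq : 5 ≤ Fintype.card F) (hnt : ∃ g, ρ g ≠ 1) : fibre (r4 ρ) 1 0 ≠ 0 := by
  classical
  intro hf
  have h9 : ∀ t : F, ρ (X 9 t) * eZ ρ = eZ ρ := by
    intro t
    have e : ρ (X 9 t) * eZ ρ = T4 ρ ![0, 0, t, 0] := by
      simp [T4, A_zero, A_eZ, eZ_idem, eZ_A ρ (show (9 : ℕ) ∈ [6, 8, 9, 10] by simp)]
      rfl
    rw [e, T_eq_sum (T4_add ρ), ← T4_zero ρ, ← sum_pr (T := T4 ρ)]
    refine Finset.sum_congr rfl fun l _ => ?_
    by_cases h2 : l 2 = 0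
    · simp [dotProduct, Fin.sum_univ_four, h2]
    · have hz : mult (T4 ρ) l = 0 := by
        have h := fibre_const (cubicInv ρ) h3 (γ := l 1) (Or.inr h2)
        rw [hf, fibre, Finset.sum_eq_zero_iff] at h
        have h' := h (l 0) (Finset.mem_univ _)
        rw [Finset.sum_eq_zero_iff] at h'
        rw [← h' (l 3) (Finset.mem_univ _)]
        show _ = r4 ρ _
        rw [r4]; congr 1
        funext i; fin_cases i <;> rfl
      rw [pr_eq_zero hz, smul_zero]
  have h9' : ∀ t : F, ρ (X 9 t) * avg ρ 10 = avg ρ 10 := by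
    intro t
    have e : ρ (N iB) * eZ ρ = avg ρ 10 * ρ (N iB) := N_avg ρ iB (by norm_num) (by decide +kernel)
    calc ρ (X 9 t) * avg ρ 10 = ρ (X 9 t) * (avg ρ 10 * ρ (N iB)) * ρ (N iB)⁻¹ := by
          rw [mul_assoc, mul_assoc, rho_mul_inv, mul_one]
      _ = ρ (N iB) * (ρ (X 9 t) * eZ ρ) * ρ (N iB)⁻¹ := by
          rw [← e, ← mul_assoc, ← map_mul, ← mul_inv_eq_iff_eq_mul.mp (NB_9 t), map_mul, mul_assoc (ρ (N iB))]
      _ = avg ρ 10 := by rw [h9, e, mul_assoc, rho_mul_inv, mul_one]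
  set P := pr (T3 ρ) ![1, 1, 1] with hP
  obtain ⟨x, hx⟩ := (exists_char F).choose_spec 1 one_ne_zero
  have hQ : avg ρ 10 * P = chi F (1 * x) • (avg ρ 10 * P) := by
    conv_lhs => rw [← h9' (1 * x)]
    have hc : Commute (ρ (X 9 (1 * x))) (avg ρ 10) :=
      commute_avg ρ fun u => comm_pair (r := 9) (s := 10) (by simp) _ u
    rw [hc.eq, mul_assoc, hP, ← (T3_single ρ (1 * x)).2.2, T_mul_pr (T3_add ρ h3), dotProduct_single, mul_smul_comm]
    simp
  have h0 : avg ρ 10 * P = 0 := by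
    by_contra hne
    exact hx (smul_left_injective ℂ hne (hQ.symm.trans (one_smul ℂ _).symm))
  refine n3_pos ρ h3 hq hnt ?_
  rw [n3_dvd ρ h3, ← hP, h0, LinearMap.range_zero, finrank_bot, mul_zero]

/-- The dichotomy in characteristic three. -/
theorem three_shape (hq : 9 ≤ Fintype.card F) (hnt : ∃ g, ρ g ≠ 1) :
    Fintype.card F ^ 4 + Fintype.card F ^ 2 ≤ Module.finrank ℂ V + (Fintype.card F + 1) := by
  classical
  set q := Fintype.card F with hqd
  obtain ⟨hk, hN⟩ := main_identity ρ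
  have hM := M0_big ρ h3 (by omega) hnt
  have hf := fibre_pos ρ h3 (by omega) hnt
  rw [← hqd] at hk hN hM
  obtain ⟨w, hw⟩ : ∃ w, q = w + 9 := ⟨q - 9, by omega⟩
  have hq2 : 1 ≤ q ^ 2 := Nat.one_le_pow _ _ (by omega)
  rcases cubic_three (cubicInv ρ) h3 with h | ⟨hT, hP, hF⟩
  · rw [← hqd] at h
    have hD : (q ^ 2 - 1) * fibre (r4 ρ) 1 0 ≤ D ρ := by
      rw [D, sum_fibre, ← Fintype.sum_prod_type (f := fun p : F × F => fibre (r4 ρ) p.1 p.2),
        ← Finset.add_sum_erase Finset.univ _ (Finset.mem_univ ((0 : F), (0 : F))),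
        Finset.sum_congr rfl (fun p hp => fibre_const (cubicInv ρ) h3 (γ := p.1) (δ := p.2) (by
          by_contra h
          push Not at h
          exact Finset.ne_of_mem_erase hp (Prod.ext h.1 h.2))),
        Finset.sum_const, smul_eq_mul, Finset.card_erase_of_mem (Finset.mem_univ _), Finset.card_univ,
        Fintype.card_prod, ← pow_two]
      exact Nat.le_add_left _ _
    have h6 : (q ^ 2 - 1) * (q * (q - 1)) ≤ 6 * D ρ :=
      le_trans (Nat.mul_le_mul_left _ h) (by nlinarith)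
    have h7 : q * (q - 1) * (q ^ 2 - 1) ≤ q * (q - 1) * M0 ρ := Nat.mul_le_mul_left _ hM
    rw [hw, show w + 9 - 1 = w + 8 by omega] at h6 h7 hk
    have hv : (w + 9) ^ 2 - 1 = w * w + 18 * w + 80 := by ring_nf; omega
    rw [hv] at h6 h7
    rw [hw]
    nlinarith
  · rw [← hqd] at hT hP
    set j := r4 ρ ![0, 1, 0, 0]
    set j0 := r4 ρ ![1, 0, 0, 0]
    have hM' : M0 ρ = q * ((q - 1) * j + j0) := by
      have := Nat.eq_of_mul_eq_mul_left (by omega : 0 < q - 1) (hN.symm.trans hP)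
      rw [this]; ring
    have hj : 1 ≤ j := Nat.pos_of_ne_zero fun hj0' => hf (by rw [hF, hj0', mul_zero])
    set u := (q - 1) * j + j0 with hu
    have hu1 : q ≤ u := by
      by_contra hcon
      have : q * u ≤ q * (q - 1) := Nat.mul_le_mul_left _ (by omega)
      rw [← hM'] at this
      have e : q * (q - 1) + q = q ^ 2 := by
        rw [← Nat.mul_succ, Nat.succ_eq_add_one, Nat.sub_add_cancel (by omega), pow_two]
      omega
    rw [hM', show D ρ = ∑ l, r4 ρ l from rfl, hT] at hk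
    have e1 : q * j + j0 = u + j := by
      rw [hu, hw, show w + 9 - 1 = w + 8 by omega]; ring
    rw [e1] at hk
    rw [hw, show w + 9 - 1 = w + 8 by omega] at hk
    rw [hw] at hu1 ⊢
    have h1 : (w + 8) * (w + 10) * (w + 10) ≤ (w + 8) * (w + 10) * (u + j) := Nat.mul_le_mul_left _ (by omega)
    have h2 : (w + 9) * (w + 8) * ((w + 9) * (w + 9)) ≤ (w + 9) * (w + 8) * ((w + 9) * u) :=
      Nat.mul_le_mul_left _ (Nat.mul_le_mul_left _ hu1)
    nlinarith

end CfsgLib.GTwoDeg
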